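import Cfsg.Agent.SmallOrder.SelfCentDegrees
import Cfsg.Agent.OddChar.TICongr
import Cfsg.Agent.S0944

/-!
The structure constant of an inverting involution, for a self-centralising element of prime order
with normaliser of order `2p`.
-/

set_option autoImplicit false
set_option linter.unusedSectionVars false

namespace Cfsg.Agent.SmallOrder.SelfCentDeg

open Cfsg Cfsg.Agent

universe u

open scoped ComplexConjugate Classical

variable {G : Type u} [Group G] [Fintype G] {p : ℕ} [hp : Fact p.Prime] {x : G}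

theorem exists_inverting (hx : orderOf x = p) (hC : Subgroup.centralizer ({x} : Set G) = Subgroup.zpowers x)
    (he : (expSet p x).card = 2) (hp2 : p ≠ 2) : ∃ t : G, orderOf t = 2 ∧ t * x * t⁻¹ = x⁻¹ := by
  classical
  obtain ⟨t, ht⟩ := exists_prime_orderOf_dvd_card' (G := Subgroup.normalizer (Subgroup.zpowers x : Set G)) 2
    (by rw [card_normalizer hx hC, he]; exact dvd_mul_left _ _)
  rw [← Subgroup.orderOf_coe] at ht
  obtain ⟨n, hn⟩ := (Submonoid.mem_powers_iff _ _).1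
    (mem_powers_iff_mem_zpowers.2 ((Subgroup.mem_normalizer_iff.1 t.2 x).1 (Subgroup.mem_zpowers x)))
  refine ⟨t, ht, ?_⟩
  have h2 : (t : G) * t = 1 := by rw [← sq, ← ht]; exact pow_orderOf_eq_one _
  have hti : (t : G)⁻¹ = t := inv_eq_of_mul_eq_one_right h2
  rw [hti] at hn ⊢
  have hxx : x ^ (n * n) = x := by
    rw [pow_mul, hn]
    have : ((t : G) * x * t) ^ n = (t : G) * x ^ n * t := by
      have h := conj_pow (i := n) (a := (t : G)) (b := x)
      rwa [hti] at h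
    rw [this, hn, show (t : G) * ((t : G) * x * t) * t = ((t : G) * t) * x * ((t : G) * t) by group, h2, one_mul, mul_one]
  have hmod : (n : ZMod p) * n = 1 := by
    have h1 : n * n ≡ 1 [MOD orderOf x] := pow_eq_pow_iff_modEq.1 (by rw [hxx, pow_one])
    rw [hx, ← ZMod.natCast_eq_natCast_iff] at h1
    exact_mod_cast h1
  rcases mul_self_eq_one_iff.1 hmod with h | h
  · exfalso
    have e : x ^ n = x := by
      conv_rhs => rw [← pow_one x]
      rw [pow_eq_pow_iff_modEq, hx, ← ZMod.natCast_eq_natCast_iff, h, Nat.cast_one]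
    rw [e] at hn
    have hc : (t : G) ∈ Subgroup.centralizer ({x} : Set G) := Subgroup.mem_centralizer_singleton_iff.2 (by
      calc (t : G) * x = ((t : G) * x * t) * t := by rw [mul_assoc _ (t : G), h2, mul_one]
        _ = x * t := by rw [← hn])
    rw [hC] at hc
    have hd := Subgroup.orderOf_dvd_natCard _ hc
    rw [ht, Nat.card_zpowers, hx] at hd
    exact hp2 ((Nat.prime_dvd_prime_iff_eq Nat.prime_two hp.out).1 hd).symm
  · rw [← hn]
    refine eq_inv_of_mul_eq_one_left ?_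
    rw [← pow_succ, ← orderOf_dvd_iff_pow_eq_one, hx, ← ZMod.natCast_eq_zero_iff]
    rw [Nat.cast_succ, h, neg_add_cancel]

theorem inverts_pow (t : G) (h : t * x * t⁻¹ = x⁻¹) (m : ℕ) : t * x ^ m * t⁻¹ = (x ^ m)⁻¹ := by
  rw [← conj_pow, h, inv_pow]

/-- Degrees and the class sum relation, given the number `M` of `y` in the class of `t` with `t * y`
conjugate to a given nontrivial power of `x`. -/
theorem involution_core (hx : orderOf x = p) (hC : Subgroup.centralizer ({x} : Set G) = Subgroup.zpowers x)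
    (hperf : commutator G = ⊤) (he : (expSet p x).card = 2) (hp7 : 7 ≤ p) {t : G} (ht : orderOf t = 2)
    {M : ℕ} (hM : ∀ i : ZMod p, i ≠ 0 →
      Nat.card {y // y ∈ (OddChar.clOf t).image (t * ·) ∧ IsConj y (x ^ i.val)} = M) :
    ∃ A B α : ℤ, A + B = 1 ∧ (p : ℤ) ∣ A + 1 ∧ (p : ℤ) ∣ B - 2 ∧ A.natAbs ∣ Nat.card G ∧
      B.natAbs ∣ Nat.card G ∧ 1 < A.natAbs ∧ 1 < B.natAbs ∧ A.natAbs ^ 2 + B.natAbs ^ 2 < Nat.card G ∧
      (p : ℤ) * M * (A * (A - 1)) = ((Subgroup.centralizer ({t} : Set G)).index : ℤ) * (A - α) ^ 2 ∧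
      1 + α ^ 2 + (1 - α) ^ 2 ≤ (Nat.card (Subgroup.centralizer ({t} : Set G)) : ℤ) := by
  classical
  obtain ⟨A, B, ⟨χa, χb, ε, δ, ⟨hε, hδ⟩, ⟨hA1, hB1⟩, hY⟩, hAB, hA, hB, hAd, hBd, hAa, hBa, hsq⟩ :=
    degrees_two hx hC hperf he hp7
  obtain ⟨va, hva, -⟩ := S0944.result χa t ht
  obtain ⟨vb, hvb, -⟩ := S0944.result χb t ht
  refine ⟨A, B, ε * va, hAB, hA, hB, hAd, hBd, hAa, hBa, hsq, ?_⟩
  have hxi : ∀ i : ZMod p, i ≠ 0 → orderOf (x ^ i.val) = p := fun i hi => by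
    rw [Nat.Coprime.orderOf_pow, hx]
    rw [hx, hp.out.coprime_iff_not_dvd]
    exact fun hd => hi ((ZMod.val_eq_zero i).1 (Nat.eq_zero_of_dvd_of_lt hd (ZMod.val_lt i)))
  have h1 := hY {t} 0 fun i hi => by
    rw [Nat.card_eq_zero]
    left
    refine ⟨fun ⟨y, hy, hyc⟩ => ?_⟩
    rw [Finset.mem_singleton] at hy
    obtain ⟨c, hc⟩ := isConj_iff.1 hyc
    have := MulEquiv.orderOf_eq (MulAut.conj c) y
    rw [MulAut.conj_apply, hc, hxi i hi, hy, ht] at this
    omega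
  rw [Finset.sum_singleton, Finset.sum_singleton, Finset.card_singleton, hva, hvb] at h1
  have h2 : t * t = 1 := by rw [← sq, ← ht]; exact pow_orderOf_eq_one _
  set J := OddChar.clOf t with hJ
  have h3 := hY (J.image (t * ·)) M hM
  have hcardJ : (J.image (t * ·)).card = J.card := Finset.card_image_of_injective _ (mul_right_injective t)
  have hsum : ∀ χ : IrrCharacter G, ∑ y ∈ J.image (t * ·), (χ : G → ℂ) y = ∑ y ∈ J, (χ : G → ℂ) (t * y) :=
    fun χ => Finset.sum_image fun a _ b _ e => mul_left_cancel e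
  have ha := OddChar.irr_class_sum_mul χa.2 t t
  have hb := OddChar.irr_class_sum_mul χb.2 t t
  rw [← hJ, hA1, hva] at ha
  rw [← hJ, hB1, hvb] at hb
  rw [hcardJ, hsum, hsum] at h3
  have hε' : (ε : ℂ) * ε = 1 := by exact_mod_cast hε
  have hδ' : (δ : ℂ) * δ = 1 := by exact_mod_cast hδ
  have hB' : (B : ℂ) = 1 - A := by exact_mod_cast eq_sub_of_add_eq' hAB
  push_cast at ha hb h1 h3
  rw [hB'] at hb
  have key : ((p : ℂ) * (M : ℂ) * ((A : ℂ) * ((A : ℂ) - 1))) = (J.card : ℂ) * ((A : ℂ) - ε * va) ^ 2 := by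
    have hδvb : (δ : ℂ) * vb = 1 - ε * va := by linear_combination h1
    have hvb2 : (vb : ℂ) * vb = (1 - (ε : ℂ) * va) ^ 2 := by
      rw [← hδvb]; linear_combination -((vb : ℂ) ^ 2) * hδ'
    have hva2 : (va : ℂ) * va = ((ε : ℂ) * va) ^ 2 := by linear_combination -((va : ℂ) ^ 2) * hε'
    linear_combination -(((A : ℂ) * (1 - A)) * h3 - (1 - (A : ℂ)) * ha - (A : ℂ) * hb
      - (J.card : ℂ) * (1 - (A : ℂ)) * hva2 - (J.card : ℂ) * (A : ℂ) * hvb2)
  refine ⟨by rw [← OddChar.card_clOf, ← hJ]; exact_mod_cast key, ?_⟩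
  -- three distinct characters in the second orthogonality relation at `t`
  have hcol := Chars.column_orth t t
  rw [if_pos (IsConj.refl t)] at hcol
  obtain ⟨χ₀, hχ₀⟩ : ∃ χ : IrrCharacter G, ∀ g, (χ : G → ℂ) g = 1 :=
    ⟨⟨_, Chars.isIrrCharacter_hom (1 : G →* ℂˣ)⟩, fun g => by simp⟩
  have hne : ∀ (χ ψ : IrrCharacter G) (a b : ℤ), (χ : G → ℂ) 1 = a → (ψ : G → ℂ) 1 = b → a ≠ b → χ ≠ ψ := by
    rintro χ _ a b h1 h2 hab rfl
    exact hab (by exact_mod_cast h1.symm.trans h2)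
  have hεc : ε = 1 ∨ ε = -1 := mul_self_eq_one_iff.1 hε
  have hδc : δ = 1 ∨ δ = -1 := mul_self_eq_one_iff.1 hδ
  have n1 : χ₀ ≠ χa := hne _ _ 1 _ (by rw [hχ₀]; norm_num) (by rw [hA1])
    (by rcases hεc with rfl | rfl <;> omega)
  have n2 : χ₀ ≠ χb := hne _ _ 1 _ (by rw [hχ₀]; norm_num) (by rw [hB1])
    (by rcases hδc with rfl | rfl <;> omega)
  have n3 : χa ≠ χb := hne _ _ _ _ (by rw [hA1]) (by rw [hB1])
    (by rcases hεc with rfl | rfl <;> rcases hδc with rfl | rfl <;> omega)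
  have hre := congrArg Complex.re hcol
  rw [Complex.re_sum, Complex.natCast_re] at hre
  have hle : ∑ χ ∈ ({χ₀, χa, χb} : Finset (IrrCharacter G)), ((χ : G → ℂ) t * conj ((χ : G → ℂ) t)).re ≤
      ∑ χ : IrrCharacter G, ((χ : G → ℂ) t * conj ((χ : G → ℂ) t)).re :=
    Finset.sum_le_sum_of_subset_of_nonneg (Finset.subset_univ _) fun χ _ _ => by
      rw [Complex.mul_conj, Complex.ofReal_re]; exact Complex.normSq_nonneg _
  rw [hre, Finset.sum_insert (by simp [n1, n2]), Finset.sum_pair n3, hχ₀, hva, hvb] at hle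
  simp only [map_one, mul_one, Complex.one_re, map_intCast, ← Int.cast_mul, Complex.intCast_re] at hle
  have hle' : 1 + (va * va + vb * vb) ≤ (Nat.card (Subgroup.centralizer ({t} : Set G)) : ℤ) := by
    exact_mod_cast hle
  have h1' : ε * va + δ * vb = 1 := by
    have : (ε : ℂ) * va + (δ : ℂ) * vb = 1 := by linear_combination h1
    exact_mod_cast this
  rw [show (ε * va) ^ 2 = va * va by linear_combination (va * va) * hε,
    show (1 - ε * va) ^ 2 = vb * vb by rw [← h1']; linear_combination (vb * vb) * hδ]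
  linarith

/-- The counting for an inverting involution: `M` is the order of its centralizer. -/
theorem involution_count (hx : orderOf x = p) (hC : Subgroup.centralizer ({x} : Set G) = Subgroup.zpowers x)
    (hp7 : 7 ≤ p) {t : G} (ht : orderOf t = 2) (hinv : t * x * t⁻¹ = x⁻¹) (i : ZMod p) (hi : i ≠ 0) :
    Nat.card {y // y ∈ (OddChar.clOf t).image (t * ·) ∧ IsConj y (x ^ i.val)} =
      Nat.card (Subgroup.centralizer ({t} : Set G)) := by
  classical
  have h2 : t * t = 1 := by rw [← sq, ← ht]; exact pow_orderOf_eq_one t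
  have hti : t⁻¹ = t := inv_eq_of_mul_eq_one_right h2
  set J := OddChar.clOf t with hJ
  symm
  have hmem : ∀ g : G, g ∈ Subgroup.centralizer ({t} : Set G) → g * x ^ i.val * g⁻¹ ∈ J.image (t * ·) ∧
      IsConj (g * x ^ i.val * g⁻¹) (x ^ i.val) := by
    intro g hg
    refine ⟨Finset.mem_image.2 ⟨t * (g * x ^ i.val * g⁻¹), OddChar.mem_clOf.2 ?_, by rw [← mul_assoc, h2, one_mul]⟩,
      (isConj_iff.2 ⟨g, rfl⟩).symm⟩
    -- `t` is conjugate to `t * x^i` under a power of `x`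
    set j : ℕ := (-(i * (2 : ZMod p)⁻¹)).val with hj
    refine isConj_iff.2 ⟨g * x ^ j, ?_⟩
    have hgc : g⁻¹ * t * g = t := by
      rw [mul_assoc, ← Subgroup.mem_centralizer_singleton_iff.1 hg, ← mul_assoc, inv_mul_cancel, one_mul]
    have e1 : x ^ j * t * (x ^ j)⁻¹ = t * ((x ^ j)⁻¹ * (x ^ j)⁻¹) := by
      have := inverts_pow t hinv j
      calc x ^ j * t * (x ^ j)⁻¹ = t * (t⁻¹ * x ^ j * t) * (x ^ j)⁻¹ := by group
        _ = _ := by rw [hti]; rw [hti] at this; rw [this, mul_assoc]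
    have e2 : (x ^ j)⁻¹ * (x ^ j)⁻¹ = x ^ i.val := by
      rw [← mul_inv_rev, ← pow_add]
      refine inv_eq_of_mul_eq_one_right ?_
      rw [← pow_add, ← orderOf_dvd_iff_pow_eq_one, hx, ← ZMod.natCast_eq_zero_iff]
      push_cast
      rw [hj, ZMod.natCast_zmod_val, ZMod.natCast_zmod_val]
      have h20 : (2 : ZMod p) ≠ 0 := by
        intro h
        have := (ZMod.natCast_eq_zero_iff 2 p).1 (by exact_mod_cast h)
        have := Nat.le_of_dvd (by norm_num) this
        omega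
      calc -(i * (2 : ZMod p)⁻¹) + -(i * (2 : ZMod p)⁻¹) + i = i - i * ((2 : ZMod p) * (2 : ZMod p)⁻¹) := by ring
        _ = 0 := by rw [mul_inv_cancel₀ h20, mul_one, sub_self]
    calc g * x ^ j * t * (g * x ^ j)⁻¹ = g * (x ^ j * t * (x ^ j)⁻¹) * g⁻¹ := by group
      _ = g * (t * x ^ i.val) * g⁻¹ := by rw [e1, e2]
      _ = g * t * g⁻¹ * (g * x ^ i.val * g⁻¹) := by group
      _ = t * (g * x ^ i.val * g⁻¹) := by
          rw [Subgroup.mem_centralizer_singleton_iff.1 hg, mul_inv_cancel_right]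
  refine Nat.card_eq_of_bijective
    (fun g : Subgroup.centralizer ({t} : Set G) => (⟨(g : G) * x ^ i.val * (g : G)⁻¹, hmem g g.2⟩ :
      {y // y ∈ J.image (t * ·) ∧ IsConj y (x ^ i.val)})) ⟨?_, ?_⟩
  · intro g g' h
    have e := congrArg Subtype.val h
    simp only at e
    have hcx : ((g' : G)⁻¹ * (g : G)) ∈ Subgroup.centralizer ({x ^ i.val} : Set G) := by
      rw [Subgroup.mem_centralizer_singleton_iff]
      calc (g' : G)⁻¹ * g * x ^ i.val = (g' : G)⁻¹ * ((g : G) * x ^ i.val * (g : G)⁻¹) * g := by group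
        _ = _ := by rw [e]; group
    have hct : ((g' : G)⁻¹ * (g : G)) ∈ Subgroup.centralizer ({t} : Set G) := mul_mem (inv_mem g'.2) g.2
    have hd1 := Subgroup.orderOf_dvd_natCard _ hcx
    rw [centralizer_pow hx hC hi] at hd1
    rcases hp.out.eq_one_or_self_of_dvd _ hd1 with h' | h'
    · rw [orderOf_eq_one_iff] at h'
      exact Subtype.ext (eq_of_inv_mul_eq_one h').symm
    exfalso
    have hle : Subgroup.centralizer ({x} : Set G) ≤ Subgroup.centralizer ({x ^ i.val} : Set G) := fun y hy =>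
      Subgroup.mem_centralizer_singleton_iff.2 (Commute.pow_right (Subgroup.mem_centralizer_singleton_iff.1 hy) _)
    have heq : Subgroup.zpowers ((g' : G)⁻¹ * g) = Subgroup.centralizer ({x ^ i.val} : Set G) :=
      Subgroup.eq_of_le_of_card_ge (Subgroup.zpowers_le.2 hcx) (by rw [Nat.card_zpowers, h', centralizer_pow hx hC hi])
    have hxg : x ∈ Subgroup.centralizer ({t} : Set G) := by
      have hx' : x ∈ Subgroup.zpowers ((g' : G)⁻¹ * g) := by
        rw [heq]; exact hle (Subgroup.mem_centralizer_singleton_iff.2 rfl)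
      exact Subgroup.zpowers_le.2 hct hx'
    have : x⁻¹ = x := by
      rw [← hinv, ← Subgroup.mem_centralizer_singleton_iff.1 hxg, mul_inv_cancel_right]
    have hsq : x ^ 2 = 1 := by rw [sq]; nth_rw 1 [← this]; rw [inv_mul_cancel]
    have := Nat.le_of_dvd (by norm_num) (hx ▸ orderOf_dvd_of_pow_eq_one hsq)
    omega
  · rintro ⟨z, hz, hzc⟩
    obtain ⟨y, hy, rfl⟩ := Finset.mem_image.1 hz
    obtain ⟨h, hh⟩ := isConj_iff.1 hzc.symm
    obtain ⟨w, hw⟩ := isConj_iff.1 (OddChar.mem_clOf.1 hy)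
    have hy2 : y * y = 1 := by
      rw [← hw, show w * t * w⁻¹ * (w * t * w⁻¹) = w * (t * t) * w⁻¹ by group, h2]; group
    -- `h⁻¹ t h` inverts `x`
    have hinv' : (h⁻¹ * t * h) * x * (h⁻¹ * t * h)⁻¹ = x⁻¹ := by
      have e0 : (h⁻¹ * t * h) * x ^ i.val * (h⁻¹ * t * h)⁻¹ = (x ^ i.val)⁻¹ := by
        rw [show (h⁻¹ * t * h) * x ^ i.val * (h⁻¹ * t * h)⁻¹ = h⁻¹ * (t * (h * x ^ i.val * h⁻¹) * t⁻¹) * h by group,
          hh, show t * (t * y) * t⁻¹ = (t * t) * y * t⁻¹ by group, h2, one_mul]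
        rw [show (x ^ i.val)⁻¹ = h⁻¹ * (h * x ^ i.val * h⁻¹)⁻¹ * h by group, hh, mul_inv_rev,
          inv_eq_of_mul_eq_one_right hy2]
      have e1 := congrArg (· ^ i⁻¹.val) e0
      simp only [inv_pow, conj_pow, pow_val_mul hx, mul_inv_cancel₀ hi, pow_val_one hx] at e1
      exact e1
    have hmem' : t⁻¹ * (h⁻¹ * t * h) ∈ Subgroup.centralizer ({x} : Set G) := by
      rw [Subgroup.mem_centralizer_singleton_iff]
      calc t⁻¹ * (h⁻¹ * t * h) * x = t⁻¹ * ((h⁻¹ * t * h) * x * (h⁻¹ * t * h)⁻¹) * (h⁻¹ * t * h) := by group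
        _ = t⁻¹ * (t * x * t⁻¹) * (h⁻¹ * t * h) := by rw [hinv', hinv]
        _ = _ := by group
    rw [hC] at hmem'
    obtain ⟨a, ha⟩ := (Submonoid.mem_powers_iff _ _).1 (mem_powers_iff_mem_zpowers.2 hmem')
    set j : ℕ := ((a : ZMod p) * (2 : ZMod p)⁻¹).val with hj
    have e2 : x ^ j * x ^ j = x ^ a := by
      rw [← pow_add, pow_eq_pow_iff_modEq, hx, ← ZMod.natCast_eq_natCast_iff]
      push_cast
      rw [hj, ZMod.natCast_zmod_val]
      have h20 : (2 : ZMod p) ≠ 0 := by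
        intro h
        have := (ZMod.natCast_eq_zero_iff 2 p).1 (by exact_mod_cast h)
        have := Nat.le_of_dvd (by norm_num) this
        omega
      calc (a : ZMod p) * (2 : ZMod p)⁻¹ + (a : ZMod p) * (2 : ZMod p)⁻¹ =
          (a : ZMod p) * ((2 : ZMod p) * (2 : ZMod p)⁻¹) := by ring
        _ = a := by rw [mul_inv_cancel₀ h20, mul_one]
    have e3 : h⁻¹ * t * h = (x ^ j)⁻¹ * t * x ^ j := by
      have e4 : (x ^ j)⁻¹ * t = t * x ^ j := by
        rw [← inverts_pow t hinv j]; group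
      rw [e4, mul_assoc t, e2, ha, mul_inv_cancel_left]
    refine ⟨⟨h * (x ^ j)⁻¹, Subgroup.mem_centralizer_singleton_iff.2 ?_⟩, Subtype.ext ?_⟩
    · calc h * (x ^ j)⁻¹ * t = h * ((x ^ j)⁻¹ * t * x ^ j) * (x ^ j)⁻¹ := by group
        _ = _ := by rw [← e3]; group
    · show h * (x ^ j)⁻¹ * x ^ i.val * (h * (x ^ j)⁻¹)⁻¹ = t * y
      rw [← hh, show h * (x ^ j)⁻¹ * x ^ i.val * (h * (x ^ j)⁻¹)⁻¹ = h * ((x ^ j)⁻¹ * x ^ i.val * x ^ j) * h⁻¹ by group,
        mul_assoc (x ^ j)⁻¹, (Commute.pow_pow_self x i.val j).eq, inv_mul_cancel_left]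

/-- For an involution no conjugate of which inverts `x` there is nothing to count. -/
theorem involution_count_zero (hx : orderOf x = p) (hC : Subgroup.centralizer ({x} : Set G) = Subgroup.zpowers x)
    {t : G} (ht : orderOf t = 2) (hno : ∀ h : G, (h * t * h⁻¹) * x * (h * t * h⁻¹)⁻¹ ≠ x⁻¹)
    (i : ZMod p) (hi : i ≠ 0) :
    Nat.card {y // y ∈ (OddChar.clOf t).image (t * ·) ∧ IsConj y (x ^ i.val)} = 0 := by
  classical
  have h2 : t * t = 1 := by rw [← sq, ← ht]; exact pow_orderOf_eq_one t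
  rw [Nat.card_eq_zero]
  left
  refine ⟨fun ⟨z, hz, hzc⟩ => ?_⟩
  obtain ⟨y, hy, rfl⟩ := Finset.mem_image.1 hz
  obtain ⟨h, hh⟩ := isConj_iff.1 hzc
  obtain ⟨w, hw⟩ := isConj_iff.1 (OddChar.mem_clOf.1 hy)
  have hy2 : y * y = 1 := by
    rw [← hw, show w * t * w⁻¹ * (w * t * w⁻¹) = w * (t * t) * w⁻¹ by group, h2]; group
  refine hno h ?_
  have e0 : (h * t * h⁻¹) * x ^ i.val * (h * t * h⁻¹)⁻¹ = (x ^ i.val)⁻¹ := by
    rw [← hh, show (h * t * h⁻¹) * (h * (t * y) * h⁻¹) * (h * t * h⁻¹)⁻¹ = h * ((t * t) * y * t⁻¹) * h⁻¹ by group,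
      h2, one_mul, show (h * (t * y) * h⁻¹)⁻¹ = h * (y⁻¹ * t⁻¹) * h⁻¹ by group, inv_eq_of_mul_eq_one_right hy2]
  have e1 := congrArg (· ^ i⁻¹.val) e0
  simp only [inv_pow, conj_pow, pow_val_mul hx, mul_inv_cancel₀ hi, pow_val_one hx] at e1
  exact e1

/-- Degrees and the structure constant relation for `|N| = 2p`. -/
theorem involution_equation (hx : orderOf x = p) (hC : Subgroup.centralizer ({x} : Set G) = Subgroup.zpowers x)
    (hperf : commutator G = ⊤) (he : (expSet p x).card = 2) (hp7 : 7 ≤ p) {t : G} (ht : orderOf t = 2)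
    (hinv : t * x * t⁻¹ = x⁻¹) :
    ∃ A B α : ℤ, A + B = 1 ∧ (p : ℤ) ∣ A + 1 ∧ (p : ℤ) ∣ B - 2 ∧ A.natAbs ∣ Nat.card G ∧
      B.natAbs ∣ Nat.card G ∧ 1 < A.natAbs ∧ 1 < B.natAbs ∧ A.natAbs ^ 2 + B.natAbs ^ 2 < Nat.card G ∧
      (p : ℤ) * (Nat.card (Subgroup.centralizer ({t} : Set G)) : ℤ) ^ 2 * (A * (A - 1)) =
        (Nat.card G : ℤ) * (A - α) ^ 2 := by
  obtain ⟨A, B, α, h1, h2, h3, h4, h5, h6, h7, h8, h9, -⟩ :=
    involution_core hx hC hperf he hp7 ht (involution_count hx hC hp7 ht hinv)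
  refine ⟨A, B, α, h1, h2, h3, h4, h5, h6, h7, h8, ?_⟩
  rw [← Subgroup.index_mul_card (Subgroup.centralizer ({t} : Set G))]
  push_cast
  linear_combination (Nat.card (Subgroup.centralizer ({t} : Set G)) : ℤ) * h9

end Cfsg.Agent.SmallOrder.SelfCentDeg
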