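import Mathlib
import Cfsg.Agent.SmallOrder.M12GenData

/-!
Eight permutations of twelve points generating a sharply 5-transitive group.
-/

set_option autoImplicit false
set_option maxRecDepth 100000

namespace Cfsg.Agent.SmallOrder.M12Gen

def pval (n : ℕ) : Fin 12 := ⟨n % 12, Nat.mod_lt _ (by norm_num)⟩

/-- A generator as a function. -/
def tab (i : Fin 8) (x : Fin 12) : Fin 12 := pval ((tabs.getD i []).getD x 0)

def hasPt (M : ℕ) (x : Fin 12) : Bool := M.testBit x.val

def base : Fin 5 → Fin 12 := ![2, 1, 0, 3, 4]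

def ev (w : List ℕ) (x : Fin 12) : Fin 12 := w.foldr (fun i y => tab ⟨i % 8, Nat.mod_lt _ (by norm_num)⟩ y) x

def pair (i : Fin 15) (x : Fin 12) : Fin 12 := pval ((pairing.getD i []).getD x 0)

def sub (i : Fin 15) (k : Fin 4) : Fin 12 := pval ((subs.getD i []).getD k 0)

/-- The sixth point of the hexad through the base points. -/
def sixth : Fin 12 := 5

/-- The six points of the hexad through the base points. -/
def inSix (x : Fin 12) : Bool := decide (x.val < 6)

theorem inSix_cases : ∀ x : Fin 12, inSix x = true → x = sixth ∨ ∃ j, base j = x := by decide +kernel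

theorem masks_inj : ∀ p q : Fin 132,
    (∀ x, hasPt (masks.getD p 0) x = hasPt (masks.getD q 0) x) → p = q := by decide +kernel

theorem moves : ∀ (k : Fin 5) (x : Fin 12), (∀ j : Fin 5, j < k → x ≠ base j) →
    ∃ w ∈ words.getD k [], ev w x = base k ∧ ∀ j : Fin 5, j < k → ev w (base j) = base j := by
  decide +kernel

theorem moves11 : ∀ k : Fin 5, 0 < k.val → ∀ w ∈ words.getD k [], ∀ i ∈ w, i < 7 := by decide +kernel

theorem invariant : ∀ (i : Fin 8) (n : Fin 132),
    ((hexIdx.getD i []).getD n 0) < 132 ∧ ∀ x : Fin 12,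
      hasPt (masks.getD n 0) x = hasPt (masks.getD ((hexIdx.getD i []).getD n 0) 0) (tab i x) := by
  decide +kernel

theorem six_block : ∃ n : Fin 132, (∀ j, hasPt (masks.getD n 0) (base j) = true) ∧
    hasPt (masks.getD n 0) sixth = true := by decide +kernel

theorem six_unique : ∀ n : Fin 132, (∀ j, hasPt (masks.getD n 0) (base j) = true) →
    ∀ z : Fin 12, hasPt (masks.getD n 0) z = true → inSix z = true := by decide +kernel

theorem six_distinct : inSix sixth = true ∧ ∀ j, base j ≠ sixth := by decide +kernel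

theorem sub_six : ∀ (i : Fin 15) (k : Fin 4), inSix (sub i k) = true := by decide +kernel

theorem pair_block : ∀ (i : Fin 15) (x : Fin 12), inSix x = false →
    (inSix (pair i x) = false ∧ pair i x ≠ x ∧ ∃ n : Fin 132, (∀ k, hasPt (masks.getD n 0) (sub i k) = true) ∧
      hasPt (masks.getD n 0) x = true ∧ hasPt (masks.getD n 0) (pair i x) = true) := by
  decide +kernel

theorem pair_unique : ∀ (i : Fin 15) (x : Fin 12), inSix x = false → ∀ n : Fin 132,
    (∀ k, hasPt (masks.getD n 0) (sub i k) = true) → hasPt (masks.getD n 0) x = true →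
    ∀ z : Fin 12, hasPt (masks.getD n 0) z = true → inSix z = false → z = x ∨ z = pair i x := by
  decide +kernel

def x0 : Fin 12 := 6

theorem rigid : ∀ z : Fin 12, inSix z = false → z ≠ x0 → ∃ i j k : Fin 15,
    pair i (pair j x0) = pair k x0 ∧ pair i (pair j z) ≠ pair k z := by decide +kernel

theorem reach : ∀ x : Fin 12, inSix x = false → x = x0 ∨ ∃ i : Fin 15, pair i x0 = x := by
  decide +kernel

theorem x0_out : inSix x0 = false := by decide +kernel

variable (gen : Fin 8 → Equiv.Perm (Fin 12)) (hgen : ∀ i x, gen i x = tab i x)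

theorem word_mem (w : List ℕ) : (w.map fun i => gen ⟨i % 8, Nat.mod_lt _ (by norm_num)⟩).prod ∈
    Subgroup.closure (Set.range gen) :=
  list_prod_mem fun g hg => by
    obtain ⟨i, -, rfl⟩ := List.mem_map.1 hg
    exact Subgroup.subset_closure ⟨_, rfl⟩

include hgen in
theorem word_apply (w : List ℕ) (x : Fin 12) :
    (w.map fun i => gen ⟨i % 8, Nat.mod_lt _ (by norm_num)⟩).prod x = ev w x := by
  induction w with
  | nil => rfl
  | cons i w ih => rw [List.map_cons, List.prod_cons, Equiv.Perm.mul_apply, ih, hgen]; rfl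

include hgen in
theorem to_base (y : Fin 5 ↪ Fin 12) :
    ∃ g ∈ Subgroup.closure (Set.range gen), ∀ k, g (y k) = base k := by
  suffices h : ∀ m : ℕ, m ≤ 5 → ∃ g ∈ Subgroup.closure (Set.range gen),
      ∀ k : Fin 5, k.val < m → g (y k) = base k by
    obtain ⟨g, hg, h⟩ := h 5 le_rfl
    exact ⟨g, hg, fun k => h k k.2⟩
  intro m
  induction m with
  | zero => exact fun _ => ⟨1, one_mem _, fun k hk => absurd hk (by omega)⟩
  | succ m ih =>
    intro hm
    obtain ⟨g, hg, h⟩ := ih (by omega)
    have hx : ∀ j : Fin 5, j < ⟨m, by omega⟩ → g (y ⟨m, by omega⟩) ≠ base j := by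
      intro j hj e
      rw [← h j hj] at e
      exact hj.ne (y.injective (g.injective e)).symm
    obtain ⟨w, -, hw1, hw2⟩ := moves ⟨m, by omega⟩ _ hx
    refine ⟨_ * g, mul_mem (word_mem gen w) hg, fun k hk => ?_⟩
    rw [Equiv.Perm.mul_apply, word_apply gen hgen]
    rcases Nat.lt_or_eq_of_le (Nat.lt_succ_iff.1 hk) with h' | h'
    · rw [h k h']; exact hw2 k h'
    · rw [show k = ⟨m, by omega⟩ from Fin.ext h', hw1]

include hgen in
/-- The first seven generators suffice to normalise five-tuples starting at `2`. -/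
theorem to_base11 (y : Fin 5 ↪ Fin 12) (hy : y 0 = 2) :
    ∃ g ∈ Subgroup.closure (Set.range fun i : Fin 7 => gen ⟨i.val, by omega⟩), ∀ k, g (y k) = base k := by
  suffices h : ∀ m : ℕ, m ≤ 5 → 1 ≤ m →
      ∃ g ∈ Subgroup.closure (Set.range fun i : Fin 7 => gen ⟨i.val, by omega⟩),
      ∀ k : Fin 5, k.val < m → g (y k) = base k by
    obtain ⟨g, hg, h⟩ := h 5 le_rfl (by norm_num)
    exact ⟨g, hg, fun k => h k k.2⟩
  intro m
  induction m with
  | zero => exact fun _ h => absurd h (by norm_num)
  | succ m ih =>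
    intro hm _
    rcases Nat.eq_zero_or_pos m with rfl | hm0
    · refine ⟨1, one_mem _, fun k hk => ?_⟩
      rw [Equiv.Perm.one_apply, show k = 0 from Fin.ext (by simp; omega), hy]
      rfl
    obtain ⟨g, hg, h⟩ := ih (by omega) hm0
    have hx : ∀ j : Fin 5, j < ⟨m, by omega⟩ → g (y ⟨m, by omega⟩) ≠ base j := by
      intro j hj e
      rw [← h j hj] at e
      exact hj.ne (y.injective (g.injective e)).symm
    obtain ⟨w, hwm, hw1, hw2⟩ := moves ⟨m, by omega⟩ _ hx
    have hmem : (w.map fun i => gen ⟨i % 8, Nat.mod_lt _ (by norm_num)⟩).prod ∈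
        Subgroup.closure (Set.range fun i : Fin 7 => gen ⟨i.val, by omega⟩) :=
      list_prod_mem fun e he => by
        obtain ⟨i, hi, rfl⟩ := List.mem_map.1 he
        have hi7 := moves11 ⟨m, by omega⟩ hm0 w hwm i hi
        exact Subgroup.subset_closure ⟨⟨i, hi7⟩, congrArg gen (Fin.ext (Nat.mod_eq_of_lt (by omega)).symm)⟩
    refine ⟨_ * g, mul_mem hmem hg, fun k hk => ?_⟩
    rw [Equiv.Perm.mul_apply, word_apply gen hgen]
    rcases Nat.lt_or_eq_of_le (Nat.lt_succ_iff.1 hk) with h' | h'
    · rw [h k h']; exact hw2 k h'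
    · rw [show k = ⟨m, by omega⟩ from Fin.ext h', hw1]

include hgen in
theorem preserves {g : Equiv.Perm (Fin 12)} (hg : g ∈ Subgroup.closure (Set.range gen)) :
    ∀ n : Fin 132, ∃ n' : Fin 132, ∀ x, hasPt (masks.getD n 0) x = hasPt (masks.getD n' 0) (g x) := by
  induction hg using Subgroup.closure_induction with
  | mem g hg =>
    obtain ⟨i, rfl⟩ := hg
    intro n
    exact ⟨⟨_, (invariant i n).1⟩, fun x => by rw [hgen]; exact (invariant i n).2 x⟩
  | one => exact fun n => ⟨n, fun x => rfl⟩
  | mul a b _ _ ha hb =>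
    intro n
    obtain ⟨n1, h1⟩ := hb n
    obtain ⟨n2, h2⟩ := ha n1
    exact ⟨n2, fun x => (h1 x).trans (h2 _)⟩
  | inv a _ ha =>
    intro n
    choose f hf using ha
    have hinj : Function.Injective f := by
      intro p q e
      have key : ∀ x, hasPt (masks.getD p 0) x = hasPt (masks.getD q 0) x := fun x => by
        rw [hf p x, hf q x, e]
      exact masks_inj p q key
    obtain ⟨n', rfl⟩ := Finite.injective_iff_surjective.1 hinj n
    exact ⟨n', fun x => by rw [hf n' (a⁻¹ x)]; simp⟩

include hgen in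
theorem eq_one {g : Equiv.Perm (Fin 12)} (hg : g ∈ Subgroup.closure (Set.range gen))
    (hfix : ∀ j, g (base j) = base j) : g = 1 := by
  have hsix : ∀ x, inSix x = true → g x = x := by
    have hs : g sixth = sixth := by
      obtain ⟨n, hn, hn'⟩ := six_block
      obtain ⟨n', hn''⟩ := preserves gen hgen hg n
      have h1 := six_unique n' (fun j => by rw [← hfix j, ← hn'' (base j)]; exact hn j)
        (g sixth) (by rw [← hn'']; exact hn')
      rcases inSix_cases _ h1 with h1 | ⟨j, hj⟩
      · exact h1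
      · exact absurd (g.injective ((hfix j).trans hj)) (six_distinct.2 j)
    intro x hx
    rcases inSix_cases _ hx with rfl | ⟨j, rfl⟩
    · exact hs
    · exact hfix j
  have hout : ∀ x, inSix x = false → inSix (g x) = false := by
    intro x hx
    rw [Bool.eq_false_iff]
    intro h
    have h1 := g.injective (hsix (g x) h)
    rw [h1, hx] at h
    exact Bool.false_ne_true h
  have hcomm : ∀ (i : Fin 15) (x : Fin 12), inSix x = false → g (pair i x) = pair i (g x) := by
    intro i x hx
    obtain ⟨hp, hne, n, hs, hnx, hnp⟩ := pair_block i x hx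
    obtain ⟨n', hn'⟩ := preserves gen hgen hg n
    rcases pair_unique i (g x) (hout x hx) n'
      (fun k => by rw [← hsix _ (sub_six i k), ← hn']; exact hs k) (by rw [← hn']; exact hnx)
      (g (pair i x)) (by rw [← hn']; exact hnp) (hout _ hp) with e | e
    · exact absurd (g.injective e) hne
    · exact e
  have hx0 : g x0 = x0 := by
    by_contra hne
    obtain ⟨i, j, k, e1, e2⟩ := rigid (g x0) (hout _ x0_out) hne
    apply e2
    obtain ⟨hp, -⟩ := pair_block j x0 x0_out
    rw [← hcomm j _ x0_out, ← hcomm i _ hp, e1, hcomm k _ x0_out]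
  ext x
  rw [Equiv.Perm.one_apply]
  congr 1
  cases hx : inSix x with
  | true => exact hsix x hx
  | false =>
    rcases reach x hx with rfl | ⟨i, rfl⟩
    · exact hx0
    · rw [hcomm i _ x0_out, hx0]

end Cfsg.Agent.SmallOrder.M12Gen
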