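import Cfsg.Agent.FGS4.OrderType.SL32
import Cfsg.Agent.OddChar.Simple168
import Cfsg.Agent.OddChar.TICongr
import Mathlib.GroupTheory.SpecificGroups.Dihedral

/-!
The simple group of order 168, computed in the model `SL(3,2)`.
-/

set_option autoImplicit false
set_option maxRecDepth 100000

namespace Cfsg.Agent.SmallOrder.S168

open Cfsg.Agent.FGS4.OrderType

abbrev M := SL32

instance fintypeSL32 : Fintype M := ⟨⟨SL32.elems, SL32.nodup_elems⟩, SL32.mem_elems⟩

theorem card_model : Nat.card M = 168 := by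
  rw [Nat.card_eq_fintype_card]
  exact SL32.length_elems

/-- The elements of order seven. -/
def L7 : List M := SL32.elems.filter fun c => decide (c ≠ 1 ∧ c ^ 7 = 1)

theorem mem_L7 {c : M} : c ∈ L7 ↔ c ≠ 1 ∧ c ^ 7 = 1 := by
  simp [L7, SL32.mem_elems]

/-- A fixed element of order seven. -/
def t0 : M := ⟨⟨0, 0, 1, 1, 0, 1, 0, 1, 0⟩, by decide⟩

/-- A fixed element of order three. -/
def u0 : M := ⟨⟨1, 0, 0, 0, 0, 1, 0, 1, 1⟩, by decide⟩

def dA : M := ⟨⟨1, 1, 0, 0, 1, 1, 0, 0, 1⟩, by decide⟩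
def dB : M := ⟨⟨1, 1, 0, 0, 1, 0, 0, 0, 1⟩, by decide⟩

theorem t0_mem : t0 ∈ L7 := by decide +kernel

theorem l7_conj : ∀ c ∈ L7, ∃ g : M, g * t0 * g⁻¹ = c ∨ g * t0⁻¹ * g⁻¹ = c := by decide +kernel

theorem commutator_three : ∀ u : M, u ≠ 1 →
    ∃ g : M, u * g * u⁻¹ * g⁻¹ ≠ 1 ∧ (u * g * u⁻¹ * g⁻¹) ^ 3 = 1 := by decide +kernel

theorem commutator_seven : ∀ u : M, u ≠ 1 ∧ u ^ 3 = 1 → ∃ g : M, u * g * u⁻¹ * g⁻¹ ∈ L7 := by
  decide +kernel

theorem two_sevens : ∀ x : M, ∃ a ∈ L7, a⁻¹ * x ∈ L7 := by decide +kernel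

theorem simple : IsSimpleGroup M where
  exists_pair_ne := ⟨t0, 1, (mem_L7.1 t0_mem).1⟩
  eq_bot_or_eq_top_of_normal N hN := by
    refine or_iff_not_imp_left.2 fun hne => ?_
    obtain ⟨u, hu, hu1⟩ := (Subgroup.bot_or_exists_ne_one N).resolve_left hne
    obtain ⟨g', hg'⟩ := commutator_three u hu1
    replace hu : u * g' * u⁻¹ * g'⁻¹ ∈ N := by
      have := mul_mem hu (hN.conj_mem _ (inv_mem hu) g')
      simpa [mul_assoc] using this
    clear hu1
    generalize u * g' * u⁻¹ * g'⁻¹ = u at hu hg'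
    obtain ⟨g, hg⟩ := commutator_seven u hg'
    have hc : u * g * u⁻¹ * g⁻¹ ∈ N := by
      have := mul_mem hu (hN.conj_mem _ (inv_mem hu) g)
      simpa [mul_assoc] using this
    obtain ⟨k, hk⟩ := l7_conj _ hg
    have ht : t0 ∈ N := by
      rcases hk with e | e
      · have := hN.conj_mem _ hc k⁻¹
        rwa [← e, show k⁻¹ * (k * t0 * k⁻¹) * k⁻¹⁻¹ = t0 by group] at this
      · have := hN.conj_mem _ (inv_mem hc) k⁻¹
        rwa [← e, show k⁻¹ * (k * t0⁻¹ * k⁻¹)⁻¹ * k⁻¹⁻¹ = t0 by group] at this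
    have hall : ∀ c ∈ L7, c ∈ N := by
      intro c hc
      obtain ⟨j, e | e⟩ := l7_conj c hc
      · exact e ▸ hN.conj_mem _ ht j
      · exact e ▸ hN.conj_mem _ (inv_mem ht) j
    rw [eq_top_iff]
    intro x _
    obtain ⟨a, ha, hb⟩ := two_sevens x
    simpa using mul_mem (hall a ha) (hall _ hb)

theorem exists_equiv {G : Type*} [Group G] [Finite G] [IsSimpleGroup G] (h : Nat.card G = 168) :
    Nonempty (G ≃* M) := by
  have := simple
  obtain ⟨a⟩ := OddChar.Simple168.equiv_model h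
  obtain ⟨b⟩ := OddChar.Simple168.equiv_model card_model
  exact ⟨a.trans b.symm⟩

theorem orderOf_two {G : Type*} [Monoid G] {x : G} : orderOf x = 2 ↔ x ≠ 1 ∧ x ^ 2 = 1 := by
  rw [orderOf_eq_prime_iff]; exact and_comm

theorem orderOf_three {G : Type*} [Monoid G] {x : G} : orderOf x = 3 ↔ x ≠ 1 ∧ x ^ 3 = 1 := by
  haveI : Fact (Nat.Prime 3) := ⟨Nat.prime_three⟩
  rw [orderOf_eq_prime_iff]; exact and_comm

theorem orderOf_seven {G : Type*} [Monoid G] {x : G} : orderOf x = 7 ↔ x ≠ 1 ∧ x ^ 7 = 1 := by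
  haveI : Fact (Nat.Prime 7) := ⟨by norm_num⟩
  rw [orderOf_eq_prime_iff]; exact and_comm

theorem orderOf_four {G : Type*} [Monoid G] {x : G} : orderOf x = 4 ↔ x ^ 2 ≠ 1 ∧ x ^ 4 = 1 := by
  constructor
  · intro h
    exact ⟨fun e => by have := Nat.le_of_dvd two_pos (orderOf_dvd_of_pow_eq_one e); omega, h ▸ pow_orderOf_eq_one x⟩
  · rintro ⟨h1, h2⟩
    haveI : Fact (Nat.Prime 2) := ⟨Nat.prime_two⟩
    exact orderOf_eq_prime_pow (p := 2) (n := 1) (by simpa using h1) (by simpa using h2)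

/-- Transport of a count along an isomorphism. -/
theorem card_orderOf {G : Type*} [Group G] (e : G ≃* M) (n : ℕ) :
    Nat.card {g : G // orderOf g = n} = Nat.card {g : M // orderOf g = n} :=
  Nat.card_congr (e.toEquiv.subtypeEquiv fun g => by
    show orderOf g = n ↔ orderOf (e g) = n
    rw [e.orderOf_eq])

theorem card_two : Nat.card {g : M // orderOf g = 2} = 21 := by
  rw [Nat.card_congr (Equiv.subtypeEquivRight fun _ => orderOf_two), Nat.card_eq_fintype_card]
  decide +kernel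

theorem card_three : Nat.card {g : M // orderOf g = 3} = 56 := by
  rw [Nat.card_congr (Equiv.subtypeEquivRight fun _ => orderOf_three), Nat.card_eq_fintype_card]
  decide +kernel

theorem card_four : Nat.card {g : M // orderOf g = 4} = 42 := by
  rw [Nat.card_congr (Equiv.subtypeEquivRight fun _ => orderOf_four), Nat.card_eq_fintype_card]
  decide +kernel

theorem card_seven : Nat.card {g : M // orderOf g = 7} = 48 := by
  rw [Nat.card_congr (Equiv.subtypeEquivRight fun _ => orderOf_seven), Nat.card_eq_fintype_card]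
  decide +kernel

/-- Elements of prime order `p` when Sylow `p`-subgroups have order `p`. -/
theorem card_prime_elements {G : Type*} [Group G] [Finite G] {p m : ℕ} [hp : Fact p.Prime]
    (hc : Nat.card G = p ^ 1 * m) (hm : ¬ p ∣ m) :
    Nat.card {g : G // orderOf g = p} = (p - 1) * Nat.card (Sylow p G) := by
  classical
  have := Fintype.ofFinite G
  have := Fintype.ofFinite (Sylow p G)
  have hP : ∀ P : Sylow p G, Nat.card P = p := fun P => by
    rw [(SmallOrder.sylow_arith P hc hm).1, pow_one]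
  let Sg := Σ P : Sylow p G, {x : (P : Subgroup G) // x ≠ 1}
  let f : Sg → {g : G // orderOf g = p} := fun s => ⟨s.2.1.1, by
    rw [Subgroup.orderOf_coe]
    have h1 := orderOf_dvd_natCard s.2.1
    rw [hP s.1] at h1
    exact ((Nat.dvd_prime hp.out).1 h1).resolve_left fun e => s.2.2 (orderOf_eq_one_iff.1 e)⟩
  have hgen : ∀ (P : Sylow p G) (x : G), x ∈ (P : Subgroup G) → orderOf x = p →
      Subgroup.zpowers x = (P : Subgroup G) := fun P x hx ho =>
    Subgroup.eq_of_le_of_card_ge (Subgroup.zpowers_le.2 hx) (by rw [Nat.card_zpowers, ho, hP])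
  have hbij : Function.Bijective f := by
    constructor
    · rintro ⟨P, ⟨⟨a, ha⟩, ha1⟩⟩ ⟨Q, ⟨⟨b, hb⟩, hb1⟩⟩ hab
      obtain rfl : a = b := congrArg Subtype.val hab
      have ho := (f ⟨P, ⟨⟨a, ha⟩, ha1⟩⟩).2
      obtain rfl : P = Q := Sylow.ext ((hgen P a ha ho).symm.trans (hgen Q a hb ho))
      rfl
    · rintro ⟨g, hg⟩
      obtain ⟨P, hPg⟩ := (IsPGroup.of_card (p := p) (n := 1) (G := Subgroup.zpowers g)
        (by rw [Nat.card_zpowers, hg, pow_one])).exists_le_sylow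
      exact ⟨⟨P, ⟨⟨g, hPg (Subgroup.mem_zpowers g)⟩, fun e => hp.out.ne_one (by
        rw [← hg, show g = 1 from congrArg Subtype.val e]; exact orderOf_one)⟩⟩, rfl⟩
  rw [← Nat.card_eq_of_bijective f hbij, Nat.card_sigma]
  rw [Finset.sum_eq_multiset_sum]
  simp only [show ∀ P : Sylow p G, Nat.card {x : (P : Subgroup G) // x ≠ 1} = p - 1 from fun P => by
    rw [Nat.card_eq_fintype_card, Fintype.card_subtype_compl, Fintype.card_subtype_eq,
      ← Nat.card_eq_fintype_card, hP]]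
  simp [Nat.card_eq_fintype_card, mul_comm]

theorem pow_cases : ∀ x : M, x = 1 ∨ x ^ 2 = 1 ∨ x ^ 3 = 1 ∨ x ^ 4 = 1 ∨ x ^ 7 = 1 := by
  decide +kernel

theorem orders (x : M) :
    orderOf x = 1 ∨ orderOf x = 2 ∨ orderOf x = 3 ∨ orderOf x = 4 ∨ orderOf x = 7 := by
  by_cases h1 : x = 1
  · exact Or.inl (h1 ▸ orderOf_one)
  by_cases h2 : x ^ 2 = 1
  · exact Or.inr (Or.inl (orderOf_two.2 ⟨h1, h2⟩))
  rcases pow_cases x with h | h | h | h | h
  · exact absurd h h1
  · exact absurd h h2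
  · exact Or.inr (Or.inr (Or.inl (orderOf_three.2 ⟨h1, h⟩)))
  · exact Or.inr (Or.inr (Or.inr (Or.inl (orderOf_four.2 ⟨h2, h⟩))))
  · exact Or.inr (Or.inr (Or.inr (Or.inr (orderOf_seven.2 ⟨h1, h⟩))))

theorem conj_two_rep : ∀ s : M, (s ≠ 1 ∧ s ^ 2 = 1) →
    ∃ g : M, g * dB * g⁻¹ = s := by decide +kernel

theorem conj_three_rep : ∀ s : M, (s ≠ 1 ∧ s ^ 3 = 1) → ∃ g : M, g * u0 * g⁻¹ = s := by
  decide +kernel

theorem conj_four_rep : ∀ s : M, (s ^ 2 ≠ 1 ∧ s ^ 4 = 1) →
    ∃ g : M, g * dA * g⁻¹ = s := by decide +kernel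

theorem conj_trans {s t r g k : M} (hg : g * r * g⁻¹ = s) (hk : k * r * k⁻¹ = t) :
    ∃ c : M, c * s * c⁻¹ = t := ⟨k * g⁻¹, by rw [← hg, ← hk]; group⟩

theorem conj_two (s t : M) (hs : s ≠ 1 ∧ s ^ 2 = 1) (ht : t ≠ 1 ∧ t ^ 2 = 1) :
    ∃ g : M, g * s * g⁻¹ = t := by
  obtain ⟨g, hg⟩ := conj_two_rep s hs
  obtain ⟨k, hk⟩ := conj_two_rep t ht
  exact conj_trans hg hk

theorem conj_three (s t : M) (hs : s ≠ 1 ∧ s ^ 3 = 1) (ht : t ≠ 1 ∧ t ^ 3 = 1) :
    ∃ g : M, g * s * g⁻¹ = t := by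
  obtain ⟨g, hg⟩ := conj_three_rep s hs
  obtain ⟨k, hk⟩ := conj_three_rep t ht
  exact conj_trans hg hk

theorem conj_four (s t : M) (hs : s ^ 2 ≠ 1 ∧ s ^ 4 = 1) (ht : t ^ 2 ≠ 1 ∧ t ^ 4 = 1) :
    ∃ g : M, g * s * g⁻¹ = t := by
  obtain ⟨g, hg⟩ := conj_four_rep s hs
  obtain ⟨k, hk⟩ := conj_four_rep t ht
  exact conj_trans hg hk

theorem seven_not_real : ∀ x : M, x ≠ 1 ∧ x ^ 7 = 1 → ∀ g : M, g * x * g⁻¹ ≠ x⁻¹ := by decide +kernel

theorem seven_class : ∀ x : M, x ≠ 1 ∧ x ^ 7 = 1 →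
    (SL32.elems.filter fun g => decide (g * x = x * g)).length = 7 := by decide +kernel

theorem card_conj_seven {x : M} (hx : x ≠ 1 ∧ x ^ 7 = 1) : Nat.card {g : M // IsConj x g} = 24 := by
  have hC : Nat.card (Subgroup.centralizer ({x} : Set M)) = 7 := by
    rw [← seven_class x hx, ← List.toFinset_card_of_nodup (SL32.nodup_elems.filter _)]
    exact Nat.subtype_card _ fun g => by
      simp [SL32.mem_elems, Subgroup.mem_centralizer_singleton_iff]
  have h1 := (Subgroup.centralizer ({x} : Set M)).card_mul_index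
  rw [hC, card_model] at h1
  have h2 : Nat.card {g : M // IsConj x g} = (OddChar.clOf x).card :=
    Nat.subtype_card _ fun g => by simp [OddChar.mem_clOf]
  rw [h2, OddChar.card_clOf]
  omega

/-! ### The Sylow 2-subgroup of upper unitriangular matrices -/

/-- Membership in the upper unitriangular group. -/
abbrev InT (u : M) : Prop := u.1.a = 1 ∧ u.1.e = 1 ∧ u.1.i = 1 ∧ u.1.d = 0 ∧ u.1.g = 0 ∧ u.1.h = 0

theorem inT_mul : ∀ u v : M, InT u → InT v → InT (u * v) := by decide +kernel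
theorem inT_inv : ∀ u : M, InT u → InT u⁻¹ := by decide +kernel

def T0 : Subgroup M where
  carrier := {u | InT u}
  one_mem' := by decide +kernel
  mul_mem' := fun {a b} ha hb => inT_mul a b ha hb
  inv_mem' := fun {a} ha => inT_inv a ha

theorem mem_T0 {u : M} : u ∈ T0 ↔ InT u := Iff.rfl

theorem card_T0 : Nat.card T0 = 8 := by
  rw [Nat.card_congr (Equiv.subtypeEquivRight fun u => mem_T0 (u := u)), Nat.card_eq_fintype_card]
  decide +kernel

theorem exists_sylow_equiv {G : Type*} [Group G] [Finite G] [IsSimpleGroup G] (h : Nat.card G = 168)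
    (T : Sylow 2 G) : ∃ e : G ≃* M, (T : Subgroup G).map e.toMonoidHom = T0 := by
  haveI : Fact (Nat.Prime 2) := ⟨Nat.prime_two⟩
  obtain ⟨e⟩ := exists_equiv h
  have h8 : (Nat.card M).factorization 2 = 3 := by
    rw [card_model, show 168 = 2 ^ 3 * 21 by norm_num,
      Nat.factorization_mul (by norm_num) (by norm_num)]
    rw [Finsupp.add_apply, Nat.factorization_eq_zero_of_not_dvd (show ¬ 2 ∣ 21 by norm_num),
      Nat.prime_two.factorization_pow, Finsupp.single_eq_same]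
  have hT : Nat.card T = 8 := by
    rw [(SmallOrder.sylow_arith T (a := 3) (m := 21) (by rw [h]; norm_num) (by norm_num)).1]; norm_num
  have hTm : Nat.card ((T : Subgroup G).map e.toMonoidHom) = 8 := by
    rw [← Nat.card_congr ((T : Subgroup G).equivMapOfInjective e.toMonoidHom e.injective).toEquiv, hT]
  let P : Sylow 2 M := Sylow.ofCard ((T : Subgroup G).map e.toMonoidHom) (by rw [h8, hTm]; norm_num)
  let Q : Sylow 2 M := Sylow.ofCard T0 (by rw [h8, card_T0]; norm_num)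
  obtain ⟨g, hg⟩ := MulAction.exists_smul_eq M P Q
  refine ⟨e.trans (MulAut.conj g), ?_⟩
  have h1 := congrArg (fun S : Sylow 2 M => (S : Subgroup M)) hg
  rw [Sylow.coe_subgroup_smul] at h1
  refine Eq.trans ?_ h1
  show _ = ((T : Subgroup G).map e.toMonoidHom).map (MulAut.conj g).toMonoidHom
  rw [Subgroup.map_map]
  rfl

/-- Generators of the dihedral group of order eight. -/

def dFun : DihedralGroup 4 → M
  | .r i => dA ^ i.val
  | .sr i => dB * dA ^ i.val

theorem dFun_mul : ∀ x y : DihedralGroup 4, dFun (x * y) = dFun x * dFun y := by decide +kernel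
theorem dFun_inj : ∀ x : DihedralGroup 4, dFun x = 1 → x = 1 := by decide +kernel
theorem dFun_mem : ∀ x : DihedralGroup 4, InT (dFun x) := by decide +kernel

theorem nonempty_T0_dihedral : Nonempty (T0 ≃* DihedralGroup 4) := by
  let φ : DihedralGroup 4 →* T0 :=
    MonoidHom.mk' (fun x => ⟨dFun x, dFun_mem x⟩) fun x y => Subtype.ext (dFun_mul x y)
  have hinj : Function.Injective φ :=
    (injective_iff_map_eq_one φ).2 fun x hx => dFun_inj x (congrArg Subtype.val hx)
  exact ⟨(MulEquiv.ofBijective φ ((Nat.bijective_iff_injective_and_card φ).2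
    ⟨hinj, by rw [card_T0, DihedralGroup.nat_card]⟩)).symm⟩

theorem normalizer_T0_le : ∀ g : M, (∀ t : M, InT t → InT (g * t * g⁻¹)) → InT g := by decide +kernel

theorem normalizer_T0 : Subgroup.normalizer (T0 : Set M) = T0 := by
  refine le_antisymm (fun g hg => normalizer_T0_le g fun t ht => ?_) Subgroup.le_normalizer
  exact (Subgroup.mem_normalizer_iff.1 hg t).1 ht

theorem center_T0 : ∀ z : M, InT z → z ≠ 1 → (∀ t : M, InT t → t * z = z * t) →
    ∀ g : M, g * z = z * g ↔ InT g := by decide +kernel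

/-! ### The two Klein four-groups of `T0` and their normalisers -/

abbrev InV1 (u : M) : Prop := InT u ∧ u.1.f = 0
abbrev InV2 (u : M) : Prop := InT u ∧ u.1.b = 0

theorem inV1_mul : ∀ u v : M, InV1 u → InV1 v → InV1 (u * v) := by decide +kernel
theorem inV1_inv : ∀ u : M, InV1 u → InV1 u⁻¹ := by decide +kernel
theorem inV2_mul : ∀ u v : M, InV2 u → InV2 v → InV2 (u * v) := by decide +kernel
theorem inV2_inv : ∀ u : M, InV2 u → InV2 u⁻¹ := by decide +kernel

def V1 : Subgroup M where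
  carrier := {u | InV1 u}
  one_mem' := by decide +kernel
  mul_mem' := fun {a b} ha hb => inV1_mul a b ha hb
  inv_mem' := fun {a} ha => inV1_inv a ha

def V2 : Subgroup M where
  carrier := {u | InV2 u}
  one_mem' := by decide +kernel
  mul_mem' := fun {a b} ha hb => inV2_mul a b ha hb
  inv_mem' := fun {a} ha => inV2_inv a ha

theorem mem_V1 {u : M} : u ∈ V1 ↔ InV1 u := Iff.rfl
theorem mem_V2 {u : M} : u ∈ V2 ↔ InV2 u := Iff.rfl

theorem card_V1 : Nat.card V1 = 4 := by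
  rw [Nat.card_congr (Equiv.subtypeEquivRight fun u => mem_V1 (u := u)), Nat.card_eq_fintype_card]
  decide +kernel

theorem card_V2 : Nat.card V2 = 4 := by
  rw [Nat.card_congr (Equiv.subtypeEquivRight fun u => mem_V2 (u := u)), Nat.card_eq_fintype_card]
  decide +kernel

theorem sq_V1 : ∀ u : M, InV1 u → u ^ 2 = 1 := by decide +kernel
theorem sq_V2 : ∀ u : M, InV2 u → u ^ 2 = 1 := by decide +kernel
theorem invol_T0 : ∀ u : M, InT u → u ^ 2 = 1 → InV1 u ∨ InV2 u := by decide +kernel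
theorem mixed_T0 : ∀ u v : M, InV1 u → ¬ InV2 u → InV2 v → ¬ InV1 v → (u * v) ^ 2 ≠ 1 := by decide +kernel

theorem isKleinFour_of {G : Type*} [Group G] [Finite G] {U : Subgroup G} (h4 : Nat.card U = 4)
    (h2 : ∀ u ∈ U, u ^ 2 = 1) : IsKleinFour U := by
  refine ⟨h4, ?_⟩
  have hd : Monoid.exponent U ∣ 2 := Monoid.exponent_dvd_of_forall_pow_eq_one fun u => Subtype.ext (h2 u u.2)
  rcases (Nat.dvd_prime Nat.prime_two).1 hd with h | h
  · exfalso
    have := Monoid.exp_eq_one_iff.1 h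
    have := Finite.card_le_one_iff_subsingleton.2 this
    omega
  · exact h

theorem klein_sq {G : Type*} [Group G] {U : Subgroup G} (hU : IsKleinFour U) {u : G} (hu : u ∈ U) :
    u ^ 2 = 1 := by
  have h := Monoid.pow_exponent_eq_one (⟨u, hu⟩ : U)
  rw [hU.exponent_two] at h
  exact congrArg Subtype.val h

theorem klein_le_T0 {U : Subgroup M} (hUT : U ≤ T0) (hU : IsKleinFour U) : U = V1 ∨ U = V2 := by
  have hcl : (∀ u ∈ U, InV1 u) ∨ (∀ u ∈ U, InV2 u) := by
    by_contra hcon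
    push Not at hcon
    obtain ⟨⟨v, hv, hv1⟩, ⟨u, hu, hu2⟩⟩ := hcon
    have hv2 := (invol_T0 v (hUT hv) (klein_sq hU hv)).resolve_left hv1
    have hu1 := (invol_T0 u (hUT hu) (klein_sq hU hu)).resolve_right hu2
    exact mixed_T0 u v hu1 hu2 hv2 hv1 (klein_sq hU (mul_mem hu hv))
  rcases hcl with h | h
  · exact Or.inl (Subgroup.eq_of_le_of_card_ge h (by rw [card_V1, hU.card_four]))
  · exact Or.inr (Subgroup.eq_of_le_of_card_ge h (by rw [card_V2, hU.card_four]))

theorem V_not_conj : ∀ g : M, (∃ v : M, InV1 v ∧ ¬ InV2 (g * v * g⁻¹)) ∧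
    ∃ v : M, InV2 v ∧ ¬ InV1 (g * v * g⁻¹) := by decide +kernel

/-- The coordinates of the image of an even subset of four points. -/
def coord (v : Fin 4 → ZMod 2) : ZMod 2 × ZMod 2 × ZMod 2 := (v 3, v 1 + v 3, v 2 + v 3)

/-- The matrix of a permutation of four points on the even subsets. -/
def permMat (σ : Equiv.Perm (Fin 4)) : M3 :=
  let c1 := coord (fun i => (![1, 1, 1, 1] : Fin 4 → ZMod 2) (σ.symm i))
  let c2 := coord (fun i => (![1, 1, 0, 0] : Fin 4 → ZMod 2) (σ.symm i))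
  let c3 := coord (fun i => (![1, 0, 1, 0] : Fin 4 → ZMod 2) (σ.symm i))
  ⟨c1.1, c2.1, c3.1, c1.2.1, c2.2.1, c3.2.1, c1.2.2, c2.2.2, c3.2.2⟩

theorem permMat_det : ∀ σ : Equiv.Perm (Fin 4), (permMat σ).det = 1 := by decide +kernel

def f1 (σ : Equiv.Perm (Fin 4)) : M := ⟨permMat σ, permMat_det σ⟩

/-- The graph automorphism `u ↦ w (u⁻¹)ᵀ w`. -/
def dual (u : M3) : M3 :=
  ⟨(M3.adj u).i, (M3.adj u).f, (M3.adj u).c, (M3.adj u).h, (M3.adj u).e, (M3.adj u).b,
    (M3.adj u).g, (M3.adj u).d, (M3.adj u).a⟩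

theorem dual_det : ∀ u : M, (dual u.1).det = 1 := by decide +kernel

def f2 (σ : Equiv.Perm (Fin 4)) : M := ⟨dual (f1 σ).1, dual_det (f1 σ)⟩

theorem f1_mul : ∀ σ τ : Equiv.Perm (Fin 4), f1 (σ * τ) = f1 σ * f1 τ := by decide +kernel
theorem f2_mul : ∀ σ τ : Equiv.Perm (Fin 4), f2 (σ * τ) = f2 σ * f2 τ := by decide +kernel
theorem f1_inj : ∀ σ : Equiv.Perm (Fin 4), f1 σ = 1 → σ = 1 := by decide +kernel
theorem f2_inj : ∀ σ : Equiv.Perm (Fin 4), f2 σ = 1 → σ = 1 := by decide +kernel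

/-- The stabiliser of the first coordinate point. -/
abbrev InA (u : M) : Prop := u.1.a = 1 ∧ u.1.d = 0 ∧ u.1.g = 0

/-- The stabiliser of the last coordinate plane. -/
abbrev InB (u : M) : Prop := u.1.g = 0 ∧ u.1.h = 0 ∧ u.1.i = 1

theorem inA_norm : ∀ g : M, InA g ↔ ∀ v : M, InV1 v → InV1 (g * v * g⁻¹) := by decide +kernel
theorem inB_norm : ∀ g : M, InB g ↔ ∀ v : M, InV2 v → InV2 (g * v * g⁻¹) := by decide +kernel
theorem range_f1 : ∀ g : M, InA g ↔ ∃ σ, f1 σ = g := by decide +kernel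
theorem range_f2 : ∀ g : M, InB g ↔ ∃ σ, f2 σ = g := by decide +kernel

theorem mem_normalizer_of {G : Type*} [Group G] [Finite G] {U : Subgroup G} {g : G}
    (hg : ∀ v ∈ U, g * v * g⁻¹ ∈ U) : g ∈ Subgroup.normalizer (U : Set G) := by
  have he : U.map (MulAut.conj g).toMonoidHom = U :=
    Subgroup.eq_of_le_of_card_ge (fun x ⟨v, hv, e⟩ => e ▸ hg v hv)
      (by rw [← Nat.card_congr (U.equivMapOfInjective _ (MulAut.conj g).injective).toEquiv])
  rw [Subgroup.mem_normalizer_iff]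
  intro x
  constructor
  · exact hg x
  · intro hx
    rw [← he] at hx
    obtain ⟨v, hv, e⟩ := hx
    simp only [MulEquiv.coe_toMonoidHom, MulAut.conj_apply] at e
    rwa [← mul_left_cancel (mul_right_cancel e)]

theorem mem_normalizer_V1 {g : M} : g ∈ Subgroup.normalizer (V1 : Set M) ↔ InA g :=
  ⟨fun hg => (inA_norm g).2 fun v hv => (Subgroup.mem_normalizer_iff.1 hg v).1 hv,
    fun hg => mem_normalizer_of fun v hv => (inA_norm g).1 hg v hv⟩

theorem mem_normalizer_V2 {g : M} : g ∈ Subgroup.normalizer (V2 : Set M) ↔ InB g :=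
  ⟨fun hg => (inB_norm g).2 fun v hv => (Subgroup.mem_normalizer_iff.1 hg v).1 hv,
    fun hg => mem_normalizer_of fun v hv => (inB_norm g).1 hg v hv⟩

theorem normalizer_V1_perm : Nonempty (Subgroup.normalizer (V1 : Set M) ≃* Equiv.Perm (Fin 4)) := by
  let φ := MonoidHom.mk' f1 f1_mul
  have e : φ.range = Subgroup.normalizer (V1 : Set M) := by
    ext g; rw [mem_normalizer_V1, range_f1]; exact Iff.rfl
  exact ⟨((MulEquiv.subgroupCongr e).symm.trans
    (MonoidHom.ofInjective (f := φ) ((injective_iff_map_eq_one φ).2 f1_inj)).symm)⟩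

theorem normalizer_V2_perm : Nonempty (Subgroup.normalizer (V2 : Set M) ≃* Equiv.Perm (Fin 4)) := by
  let φ := MonoidHom.mk' f2 f2_mul
  have e : φ.range = Subgroup.normalizer (V2 : Set M) := by
    ext g; rw [mem_normalizer_V2, range_f2]; exact Iff.rfl
  exact ⟨((MulEquiv.subgroupCongr e).symm.trans
    (MonoidHom.ofInjective (f := φ) ((injective_iff_map_eq_one φ).2 f2_inj)).symm)⟩

end Cfsg.Agent.SmallOrder.S168
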