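import Cfsg.Agent.SmallOrder.Basic

/-!
Standard contradictions used to exclude simple groups of a given order.
-/

namespace Cfsg.Agent.SmallOrder

variable {G : Type*} [Group G] [Finite G] {p : ℕ} [hp : Fact p.Prime]

omit [Finite G] hp in
/-- A group whose order is `p^a * m` with `m > 1` prime to `p` and `a ≥ 1` is not of prime order. -/
theorem not_prime_of_dvd {N d : ℕ} (hd : d ∣ N) (h1 : d ≠ 1) (hN : d ≠ N) : ¬ N.Prime := fun h =>
  (h.eq_one_or_self_of_dvd d hd).elim h1 hN

/-- A Sylow subgroup of prime order whose normalizer order, divided by `p`, is prime to `p - 1`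
forces a normal complement. -/
theorem false_of_prime_sylow_coprime [IsSimpleGroup G] (hG : ¬ IsMulCommutative G) (P : Sylow p G)
    (hP : Nat.card P = p) {r : ℕ}
    (hN : Nat.card (Subgroup.normalizer ((P : Subgroup G) : Set G)) = p * r)
    (hc : Nat.Coprime r (p - 1)) : False := by
  obtain ⟨h1, h2⟩ := relIndex_prime_sylow hG P hP
  apply h2
  have : IsMulCommutative (P : Subgroup G) := by
    have : IsCyclic (P : Subgroup G) := isCyclic_of_prime_card hP
    infer_instance
  have hPC : (P : Subgroup G) ≤ Subgroup.centralizer ((P : Subgroup G) : Set G) :=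
    Subgroup.le_centralizer _
  have hdvd : (Subgroup.centralizer ((P : Subgroup G) : Set G)).relIndex
      (Subgroup.normalizer ((P : Subgroup G) : Set G)) ∣ r := by
    refine (Subgroup.relIndex_dvd_of_le_left _ hPC).trans ?_
    have h := ((P : Subgroup G).subgroupOf (Subgroup.normalizer ((P : Subgroup G) : Set G))).card_mul_index
    rw [Nat.card_congr (Subgroup.subgroupOfEquivOfLe Subgroup.le_normalizer).toEquiv] at h
    rw [hN] at h
    rw [Subgroup.relIndex]
    exact dvd_of_eq (Nat.eq_of_mul_eq_mul_left hp.out.pos (by rwa [hP] at h))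
  exact Nat.eq_one_of_dvd_coprimes hc hdvd h1

/-- The contradiction of `false_of_prime_sylow_coprime` from the number of Sylow subgroups. -/
theorem false_of_prime_card_sylow [IsSimpleGroup G] (hG : ¬ IsMulCommutative G) (P : Sylow p G)
    (hP : Nat.card P = p) {n r : ℕ} (hn : Nat.card (Sylow p G) = n) (hn0 : n ≠ 0)
    (hc : Nat.card G = p * r * n) (hr : Nat.Coprime r (p - 1)) : False := by
  refine false_of_prime_sylow_coprime hG P hP (r := r) ?_ hr
  have h := card_normalizer_mul_card_sylow P
  rw [hn, hc] at h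
  exact Nat.eq_of_mul_eq_mul_right (Nat.pos_of_ne_zero hn0) h

/-- Intersection argument: if `|P| = p^a` with `a ≥ 2` and `n_p` is not 1 modulo `p^2`, then some
proper subgroup (the normalizer of an intersection of two Sylow subgroups) has order divisible by
`p^a * s` where `s ≠ 1`, `s ∣ |G : P|` and `s % p = 1`. -/
theorem exists_subgroup_of_sylow_inf [IsSimpleGroup G] {a m : ℕ}
    (hcard : Nat.card G = p ^ a * m) (hm : ¬ p ∣ m) (ha : 2 ≤ a)
    (hn : Nat.card (Sylow p G) % p ^ 2 ≠ 1) :
    ∃ K : Subgroup G, K ≠ ⊤ ∧ ∃ s : ℕ, s ≠ 1 ∧ s ∣ m ∧ s % p = 1 ∧ p ^ a * s ∣ Nat.card K := by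
  obtain ⟨P⟩ := (inferInstance : Nonempty (Sylow p G))
  obtain ⟨hP, hPi, -, -⟩ := sylow_arith P hcard hm
  have hne : ¬ Nat.card (Sylow p G) ≡ 1 [MOD p ^ 2] := by
    intro h
    apply hn
    rw [h, Nat.mod_eq_of_lt]
    calc 1 < p := hp.out.one_lt
      _ ≤ p ^ 2 := Nat.le_self_pow (by norm_num) p
  obtain ⟨R, hRP, hidx⟩ := exists_sylow_inf_small_index 2 hne P
  rw [show p ^ (2 - 1) = p from pow_one p] at hidx
  have hR : Nat.card R = p ^ a := (sylow_arith R hcard hm).1
  have hrel : (R : Subgroup G).relIndex (P : Subgroup G) = p := by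
    refine (hp.out.eq_one_or_self_of_dvd _ hidx).resolve_left fun h1 => hRP ?_
    have hle : (P : Subgroup G) ≤ R := Subgroup.relIndex_eq_one.mp h1
    exact Sylow.ext (P.3 R.2 hle)
  let D : Subgroup G := (P : Subgroup G) ⊓ R
  have hDcard : Nat.card D * p = p ^ a := by
    have h := ((R : Subgroup G).subgroupOf (P : Subgroup G)).card_mul_index
    rw [← Subgroup.relIndex, hrel] at h
    rw [← hP, ← h, ← Subgroup.inf_subgroupOf_left,
      Nat.card_congr (Subgroup.subgroupOfEquivOfLe inf_le_left).toEquiv]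
  have hnorm : ∀ S : Sylow p G, D ≤ S → Nat.card S = p ^ a →
      (S : Subgroup G) ≤ Subgroup.normalizer (D : Set G) := by
    intro S hS hScard
    have hi : (D.subgroupOf (S : Subgroup G)).index = p := by
      have h := (D.subgroupOf (S : Subgroup G)).card_mul_index
      rw [Nat.card_congr (Subgroup.subgroupOfEquivOfLe hS).toEquiv, hScard, ← hDcard] at h
      exact Nat.eq_of_mul_eq_mul_left Nat.card_pos h
    have hmin : (Nat.card (S : Subgroup G)).minFac = p := by
      rw [hScard, Nat.pow_minFac (by omega), hp.out.minFac_eq]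
    have hnorm : (D.subgroupOf (S : Subgroup G)).Normal :=
      Subgroup.normal_of_index_eq_minFac_card (hi.trans hmin.symm)
    exact (Subgroup.normal_subgroupOf_iff_le_normalizer hS).mp hnorm
  have hPK := hnorm P inf_le_left hP
  have hRK := hnorm R inf_le_right hR
  refine ⟨Subgroup.normalizer (D : Set G), ?_, ?_⟩
  · intro htop
    have hDn : D.Normal := Subgroup.normalizer_eq_top_iff.mp htop
    have h1 : D ≠ ⊥ := by
      intro h
      rw [h, Subgroup.card_bot, one_mul] at hDcard
      have := Nat.pow_right_injective hp.out.two_le ((pow_one p).trans hDcard)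
      omega
    have h2 : D = ⊤ := hDn.eq_bot_or_eq_top.resolve_left h1
    apply hRP
    have hle : (P : Subgroup G) ≤ R := fun x _ => (h2 ▸ Subgroup.mem_top x : x ∈ D).2
    exact Sylow.ext (P.3 R.2 hle)
  · set K := Subgroup.normalizer (D : Set G) with hK
    have hs1 : Nat.card (Sylow p K) ≠ 1 := by
      intro h
      have := (Nat.card_eq_one_iff_unique.mp h).1
      exact hRP (Sylow.subtype_injective (hP := hRK) (hQ := hPK) (Subsingleton.elim _ _))
    have hPKc : Nat.card (P.subtype hPK) = p ^ a := by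
      rw [← hP]
      exact Nat.card_congr (Subgroup.subgroupOfEquivOfLe hPK).toEquiv
    have hmul : Nat.card (P.subtype hPK) * ((P.subtype hPK : Sylow p K) : Subgroup K).index = Nat.card K :=
      Subgroup.card_mul_index _
    refine ⟨Nat.card (Sylow p K), hs1, ?_, (card_sylow_dvd_and_mod (P.subtype hPK)).2, ?_⟩
    · refine (P.subtype hPK).card_dvd_index.trans ?_
      rw [Sylow.coe_subtype, ← Subgroup.relIndex, ← hPi]
      exact Subgroup.relIndex_dvd_index_of_le hPK
    · rw [← hmul, hPKc]
      exact Nat.mul_dvd_mul_left _ (P.subtype hPK).card_dvd_index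

/-- The same, as an index: some proper subgroup has index dividing `m / s`. -/
theorem exists_index_of_sylow_inf [IsSimpleGroup G] {a m : ℕ}
    (hcard : Nat.card G = p ^ a * m) (hm : ¬ p ∣ m) (ha : 2 ≤ a)
    (hn : Nat.card (Sylow p G) % p ^ 2 ≠ 1) :
    ∃ K : Subgroup G, K ≠ ⊤ ∧ ∃ s : ℕ, s ≠ 1 ∧ s % p = 1 ∧ s * K.index ∣ m := by
  obtain ⟨K, hK, s, hs1, -, hsp, hd⟩ := exists_subgroup_of_sylow_inf hcard hm ha hn
  refine ⟨K, hK, s, hs1, hsp, ?_⟩
  have h := Nat.mul_dvd_mul_right hd K.index
  rw [K.card_mul_index, hcard, mul_assoc] at h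
  exact Nat.dvd_of_mul_dvd_mul_left (pow_pos hp.out.pos a) h

omit hp in
/-- Bound from the intersection argument, in checkable form. -/
theorem false_of_index_dvd [IsSimpleGroup G] (hG : ¬ IsMulCommutative G) {N m : ℕ}
    (hN : Nat.card G = N) {K : Subgroup G} (hK : K ≠ ⊤) (hd : K.index ∣ m) (hm : m ≠ 0)
    (h : ∀ i ∈ m.divisors, i ≠ 1 → ¬ 2 * N ∣ i.factorial) : False :=
  h K.index (Nat.mem_divisors.mpr ⟨hd, hm⟩) (fun e => hK (Subgroup.index_eq_one.mp e))
    (hN ▸ two_mul_card_dvd_factorial hG K hK)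

end Cfsg.Agent.SmallOrder
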