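import Cfsg.Agent.PermGroups.RegularLinearIndexTwo
import Cfsg.Agent.Transfer.QuaternionSection
import Cfsg.Agent.S0688

/-!
Solvable linear groups regular on the non-zero vectors: semilinear coordinates, index two, and
the two exceptions.
-/

set_option autoImplicit false
set_option linter.style.haveILetI false
set_option linter.unusedSectionVars false

namespace Cfsg.Agent.SmallOrder.SolvReg

open Cfsg.Agent.PermGroups
open Cfsg.Agent.PermGroups.RegLin

open scoped Pointwise commutatorElement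

/-- A type with `N` elements and no algebraic structure of its own. -/
def Carrier (N : ℕ) : Type := Fin N

instance (N : ℕ) : Fintype (Carrier N) := inferInstanceAs (Fintype (Fin N))

variable {p : ℕ} [hp : Fact p.Prime] {V : Type*} [AddCommGroup V] [Module (ZMod p) V] [Finite V]
  {H : Subgroup (V ≃ₗ[ZMod p] V)}

/-- An irreducible normal abelian subgroup gives coordinates in which the group is semilinear. -/
theorem semilinear (hreg : IsReg H) [Nontrivial V] {A : Subgroup H} [A.Normal]
    (hA : IsMulCommutative A)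
    (hirr : ∀ W : Submodule (ZMod p) V,
      (∀ a ∈ A, ∀ v ∈ W, ((a : H) : V ≃ₗ[ZMod p] V) v ∈ W) → W = ⊥ ∨ W = ⊤) :
    ∃ (F : Type) (_ : Field F) (_ : Fintype F) (e : V ≃+ F),
      ∀ g : H, ∃ (a : F) (σ : F ≃+* F), ∀ v : V, e ((g : V ≃ₗ[ZMod p] V) v) = a * σ (e v) := by
  classical
  haveI := finite_genAlg A
  haveI := isDomain_genAlg hreg hA
  haveI := Fintype.ofFinite (genAlg A)
  letI : CommRing (genAlg A) :=
    { (inferInstance : Ring (genAlg A)) with
      mul_comm := fun r s => Subtype.ext (genAlg_comm hA r.2 s.2) }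
  haveI : IsDomain (genAlg A) := isDomain_genAlg hreg hA
  letI : Field (genAlg A) := (Finite.isDomain_to_isField (genAlg A)).toField
  obtain ⟨v₀, hv₀⟩ := exists_ne (0 : V)
  let ev : genAlg A →+ V :=
    AddMonoidHom.mk' (fun r => (r : Module.End (ZMod p) V) v₀) fun r s => by
      show ((r : Module.End (ZMod p) V) + (s : Module.End (ZMod p) V)) v₀ = _
      rfl
  have hinj : Function.Injective ev := by
    rw [injective_iff_map_eq_zero]
    exact fun r hr => Subtype.ext (hreg.genAlg_eq_zero hA r.2 hv₀ hr)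
  have hsurj : Function.Surjective ev := by
    let W : Submodule (ZMod p) V :=
      Submodule.map (LinearMap.applyₗ v₀) (Subalgebra.toSubmodule (genAlg A))
    have hW : ∀ x, x ∈ W ↔ ∃ r ∈ genAlg A, r v₀ = x := fun x => by
      simp [W, Submodule.mem_map]
    have htop : W = ⊤ := by
      refine (hirr W fun a ha x hx => ?_).resolve_left fun h0 => hv₀ ?_
      · obtain ⟨r, hr, rfl⟩ := (hW x).1 hx
        exact (hW _).2 ⟨toEnd a * r, mul_mem (mem_genAlg ha) hr, rfl⟩
      · have : v₀ ∈ W := (hW v₀).2 ⟨1, one_mem _, rfl⟩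
        rwa [h0, Submodule.mem_bot] at this
    intro x
    obtain ⟨r, hr, hrx⟩ := (hW x).1 (htop ▸ Submodule.mem_top)
    exact ⟨⟨r, hr⟩, hrx⟩
  let e₀ : genAlg A ≃+ V := AddEquiv.ofBijective ev ⟨hinj, hsurj⟩
  -- a copy of the field in the lowest universe
  obtain ⟨N, ⟨eq⟩⟩ : ∃ N : ℕ, Nonempty (genAlg A ≃ Carrier N) :=
    ⟨_, ⟨(Finite.equivFin (genAlg A))⟩⟩
  letI : Field (Carrier N) := eq.symm.field
  let er : genAlg A ≃+* Carrier N := (eq.symm.ringEquiv).symm
  refine ⟨Carrier N, inferInstance, inferInstance, e₀.symm.trans er.toAddEquiv, fun g => ?_⟩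
  let c : genAlg A → genAlg A := fun r => ⟨toEnd g * r.1 * toEnd g⁻¹, conj_mem_genAlg g r.2⟩
  have hcinj : Function.Injective c := fun r s e => by
    have e' : toEnd g * r.1 * toEnd g⁻¹ = toEnd g * s.1 * toEnd g⁻¹ := congrArg Subtype.val e
    have := congrArg (fun z => toEnd g⁻¹ * z * toEnd g) e'
    simp only [← mul_assoc, ← toEnd_mul, inv_mul_cancel, toEnd_one, one_mul] at this
    simp only [mul_assoc, ← toEnd_mul, inv_mul_cancel, toEnd_one, mul_one] at this
    exact Subtype.ext this
  let σ : genAlg A ≃+* genAlg A :=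
    { Equiv.ofBijective c (Finite.injective_iff_bijective.1 hcinj) with
      map_mul' := fun r s => Subtype.ext (by
        show toEnd g * (r.1 * s.1) * toEnd g⁻¹ = toEnd g * r.1 * toEnd g⁻¹ * (toEnd g * s.1 * toEnd g⁻¹)
        simp only [mul_assoc]
        rw [← mul_assoc (toEnd g⁻¹) (toEnd g), ← toEnd_mul, inv_mul_cancel, toEnd_one, one_mul])
      map_add' := fun r s => Subtype.ext (by
        show toEnd g * (r.1 + s.1) * toEnd g⁻¹ = _
        rw [mul_add, add_mul]; rfl) }
  obtain ⟨b, hb⟩ := hsurj ((g : V ≃ₗ[ZMod p] V) v₀)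
  refine ⟨er b, (er.symm.trans σ).trans er, fun v => ?_⟩
  obtain ⟨r, rfl⟩ := e₀.surjective v
  have hgr : (g : V ≃ₗ[ZMod p] V) (e₀ r) = e₀ (b * σ r) := by
    rw [mul_comm]
    show toEnd g (r.1 v₀) = (toEnd g * r.1 * toEnd g⁻¹) (b.1 v₀)
    rw [show b.1 v₀ = toEnd g v₀ from hb]
    show toEnd g (r.1 v₀) = toEnd g (r.1 (toEnd g⁻¹ (toEnd g v₀)))
    rw [show toEnd g⁻¹ (toEnd g v₀) = (toEnd g⁻¹ * toEnd g) v₀ from rfl, ← toEnd_mul, inv_mul_cancel,
      toEnd_one, Module.End.one_apply]
  show er (e₀.symm ((g : V ≃ₗ[ZMod p] V) (e₀ r))) = er b * er (σ (er.symm (er (e₀.symm (e₀ r)))))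
  rw [hgr, e₀.symm_apply_apply, e₀.symm_apply_apply, er.symm_apply_apply, map_mul]

/-- With an irreducible normal abelian subgroup, even order gives a subgroup of index two. -/
theorem index_two_of_irreducible (hreg : IsReg H) [Nontrivial V] (heven : 2 ∣ Nat.card H)
    {A : Subgroup H} [A.Normal] (hA : IsMulCommutative A)
    (hirr : ∀ W : Submodule (ZMod p) V,
      (∀ a ∈ A, ∀ v ∈ W, ((a : H) : V ≃ₗ[ZMod p] V) v ∈ W) → W = ⊥ ∨ W = ⊤) :
    ∃ M : Subgroup H, M.index = 2 := by
  haveI := finite_group H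
  haveI : Fact (Nat.Prime 2) := ⟨Nat.prime_two⟩
  have hcomm := hreg.centralizer_comm_of_irreducible (A := A) hirr
  set C := Subgroup.centralizer (A : Set H)
  have hCc : IsMulCommutative C := ⟨⟨fun a b => Subtype.ext (hcomm a b a.2 b.2 hA)⟩⟩
  have hCcyc : IsCyclic C := (hreg.isCyclic_and_dvd hCc).1
  by_cases hidx : 2 ∣ C.index
  · have hq : ∀ x y : H ⧸ C, x * y = y * x := by
      intro x y
      induction x using QuotientGroup.induction_on with
      | H x =>
        induction y using QuotientGroup.induction_on with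
        | H y =>
          refine QuotientGroup.eq.2 ((hreg.index_centralizer_dvd hA).2 ?_)
          rw [show (x * y)⁻¹ * (y * x) = ⁅y⁻¹, x⁻¹⁆ by rw [commutatorElement_def]; group]
          exact Subgroup.commutator_mem_commutator (Subgroup.mem_top _) (Subgroup.mem_top _)
    let P : Sylow 2 (H ⧸ C) := default
    obtain ⟨M, hM⟩ := exists_index_two_of_normalizer_le P
      (fun g _ => Subgroup.mem_centralizer_iff.2 fun z _ => hq z g) hidx
    exact ⟨M.comap (QuotientGroup.mk' C), by
      rw [M.index_comap_of_surjective (QuotientGroup.mk'_surjective C), hM]⟩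
  · let P : Sylow 2 H := default
    have hPC : (P : Subgroup H) ≤ C := by
      intro x hx
      rw [← QuotientGroup.eq_one_iff, ← orderOf_eq_one_iff]
      obtain ⟨k, hk⟩ := P.isPGroup' ⟨x, hx⟩
      have h1 : orderOf (QuotientGroup.mk' C x) ∣ 2 ^ k := orderOf_dvd_of_pow_eq_one (by
        rw [← map_pow, show x ^ 2 ^ k = 1 from congrArg Subtype.val hk, map_one])
      have h2 : orderOf (QuotientGroup.mk' C x) ∣ C.index := orderOf_dvd_natCard _
      exact Nat.eq_one_of_dvd_coprimes
        ((Nat.Prime.coprime_iff_not_dvd Nat.prime_two).2 hidx |>.pow_left k) h1 h2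
    have hPcyc : IsCyclic (P : Subgroup H) :=
      isCyclic_of_injective (Subgroup.inclusion hPC) (Subgroup.inclusion_injective hPC)
    refine exists_index_two_of_normalizer_le P (IsCyclic.normalizer_le_centralizer ?_ hPcyc) heven
    exact (Nat.minFac_eq_two_iff _).2 heven

/-- A group of order 24 with a normal quaternion subgroup not centralized by an element of order three. -/
theorem mulEquiv_SL23 {M : Type*} [Group M] [Finite M] (hM : Nat.card M = 24)
    (ι : QuaternionGroup 2 →* M) (hι : Function.Injective ι) (hn : ι.range.Normal) {y : M}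
    (hy : orderOf y = 3) (hyC : y ∉ Subgroup.centralizer ((ι.range : Subgroup M) : Set M)) :
    Nonempty (M ≃* Matrix.SpecialLinearGroup (Fin 2) (ZMod 3)) := by
  obtain ⟨L, K, hK, ⟨e⟩⟩ := Transfer.QSec.exists_section ι hι (g := y) (j := 1) (by rw [hy, pow_one])
    (by rw [Subgroup.normalizer_eq_top_iff.mpr hn]; exact Subgroup.mem_top _) hyC
  have hSL : Nat.card (Matrix.SpecialLinearGroup (Fin 2) (ZMod 3)) = 24 := by
    rw [Nat.card_eq_fintype_card]; decide +kernel
  have hq : Nat.card (L ⧸ K.subgroupOf L) = 24 := by rw [Nat.card_congr e.toEquiv, hSL]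
  have hmul := Subgroup.card_eq_card_quotient_mul_card_subgroup (K.subgroupOf L)
  rw [hq] at hmul
  have hL : Nat.card L ∣ 24 := hM ▸ Subgroup.card_subgroup_dvd_card L
  have hK1 : Nat.card (K.subgroupOf L) = 1 := by
    have h1 : Nat.card L ≤ 24 := Nat.le_of_dvd (by norm_num) hL
    have h0 : 0 < Nat.card (K.subgroupOf L) := Nat.card_pos
    omega
  have hLtop : L = ⊤ := Subgroup.eq_top_of_card_eq _ (by rw [hM, hmul, hK1])
  exact ⟨((Subgroup.topEquiv.symm.trans (MulEquiv.subgroupCongr hLtop.symm)).trans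
    ((QuotientGroup.quotientBot (G := L)).symm.trans
      (QuotientGroup.quotientMulEquivOfEq (Subgroup.card_eq_one.mp hK1).symm))).trans e⟩

/-- Transport of regularity, and the statement for a subgroup of linear maps. -/
theorem main (hreg : IsReg H) [Nontrivial V] (hsol : Group.IsSolvable H) :
    ((∃ (F : Type) (_ : Field F) (_ : Fintype F) (e : V ≃+ F),
        ∀ g : H, ∃ (a : F) (σ : F ≃+* F), ∀ v : V, e ((g : V ≃ₗ[ZMod p] V) v) = a * σ (e v)) ∨
      Nat.card V ∈ ({25, 49, 121, 529} : Set ℕ)) ∧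
    (p ≠ 2 → (∃ N : Subgroup H, N.Normal ∧ N.index = 2) ∨
      (Nat.card V = 25 ∧ Nonempty (H ≃* Matrix.SpecialLinearGroup (Fin 2) (ZMod 3))) ∨
      (Nat.card V = 121 ∧
        Nonempty (H ≃* Matrix.SpecialLinearGroup (Fin 2) (ZMod 3) × Multiplicative (ZMod 5)))) := by
  classical
  haveI := finite_group H
  have heven : p ≠ 2 → 2 ∣ Nat.card H := fun hp2 => by
    have h1 := hreg.card_eq
    rw [Module.natCard_eq_pow_finrank (K := ZMod p) (V := V), Nat.card_zmod] at h1
    have h2 : p ^ Module.finrank (ZMod p) V % 2 = 1 :=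
      Nat.odd_iff.mp ((hp.out.odd_of_ne_two hp2).pow)
    omega
  by_cases hI : NoIrrCyclic H
  swap
  · unfold NoIrrCyclic at hI
    push Not at hI
    obtain ⟨A, hAn, hAc, hirr⟩ := hI
    haveI := hAn
    have hA : IsMulCommutative A := inferInstance
    have hirr' : ∀ W : Submodule (ZMod p) V,
        (∀ a ∈ A, ∀ v ∈ W, ((a : H) : V ≃ₗ[ZMod p] V) v ∈ W) → W = ⊥ ∨ W = ⊤ := fun W hW => by
      by_contra hcon
      push Not at hcon
      obtain ⟨a, ha, v, hv, hnot⟩ := hirr W hcon.1 hcon.2
      exact hnot (hW a ha v hv)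
    refine ⟨Or.inl (semilinear hreg hA hirr'), fun hp2 => Or.inl ?_⟩
    obtain ⟨M, hM⟩ := index_two_of_irreducible hreg (heven hp2) hA hirr'
    exact ⟨M, Subgroup.normal_of_index_eq_two hM, hM⟩
  obtain ⟨A, hA⟩ := exists_isMaxAb H
  obtain ⟨N, hN⟩ := exists_isMinNA hreg hI hA
  obtain ⟨hCA, hCN, hV, hcase⟩ := structure_of_minNA hreg hI hA hN
  haveI := hA.1
  haveI := hN.1
  rcases hcase with ⟨⟨e⟩, -, hps⟩ | ⟨⟨e⟩, -, hH60, -⟩
  swap
  · exfalso
    haveI := hsol
    haveI : Group.IsSolvable N := solvable_of_solvable_injective (f := N.subtype) N.subtype_injective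
    have hsT : Group.IsSolvable FGS4.Zass.T5 := solvable_of_surjective (f := e.toMonoidHom) e.surjective
    -- `SL(2,5)` is not solvable
    exact S0688.not_isSolvable_T5 hsT
  refine ⟨Or.inr (by rw [hV]; rcases hps with rfl | rfl | rfl | rfl <;> simp), fun hp2 => ?_⟩
  have hcard : Nat.card H + 1 = p ^ 2 := hreg.card_eq.trans hV
  -- conjugation on `N`
  set f : H →* MulAut N := MulAut.conjNormal with hf
  have hker : f.ker = A := by
    rw [← hCN]
    ext g
    rw [MonoidHom.mem_ker, Subgroup.mem_centralizer_iff]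
    refine ⟨fun hg n hn => ?_, fun hg => MulEquiv.ext fun n => Subtype.ext ?_⟩
    · have := congrArg Subtype.val (DFunLike.congr_fun hg (⟨n, hn⟩ : N))
      rw [MulAut.conjNormal_apply] at this
      exact (mul_inv_eq_iff_eq_mul.1 this).symm
    · rw [MulAut.conjNormal_apply]
      exact mul_inv_eq_iff_eq_mul.2 (hg _ n.2).symm
  obtain ⟨s4⟩ := S3742.result
  have hidx24 : A.index ∣ 24 := by
    rw [← hker, Subgroup.index_ker, ← card_mulAut_quat, ← Nat.card_congr (MulAut.congr e).toEquiv]
    exact Subgroup.card_subgroup_dvd_card _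
  have hmul := A.index_mul_card
  haveI hAcomm : IsMulCommutative A := hA.2.1
  have hAdvd : Nat.card A ∣ p - 1 := by
    obtain ⟨-, hdvd⟩ := hreg.isCyclic_and_dvd hA.2.1
    obtain ⟨d, hd, hq⟩ := two_le_degree hreg hI hA
    rw [card_genAlg] at hdvd hq
    rw [hcard, ← pow_mul] at hq
    have hk2 : Module.finrank (ZMod p) (genAlg A) * d = 2 := (Nat.pow_right_injective hp.out.two_le hq).symm
    have hk1 : Module.finrank (ZMod p) (genAlg A) = 1 := by nlinarith
    rwa [hk1, pow_one] at hdvd
  -- the inner automorphisms of `N` give four cosets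
  have hN8 : Nat.card N = 8 := (Nat.card_congr e.toEquiv).trans quat_two_card
  have h4 : 4 ∣ A.index := by
    have h1 : A.relIndex N ∣ A.index := Subgroup.relIndex_dvd_index_of_normal A N
    have hle : A.subgroupOf N ≤ Subgroup.center N := by
      intro n hn
      rw [Subgroup.mem_center_iff]
      intro m
      have hn' : (n : H) ∈ Subgroup.centralizer (N : Set H) := hCN.symm ▸ hn
      exact Subtype.ext (Subgroup.mem_centralizer_iff.mp hn' m m.2)
    have hcen : Nat.card (Subgroup.center N) = 2 := by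
      have hc : Nat.card (Subgroup.center (QuaternionGroup 2)) = 2 := by
        rw [Nat.card_eq_fintype_card]; decide +kernel
      rw [← hc]
      refine Nat.card_congr (Equiv.subtypeEquiv e.toEquiv fun n => ?_)
      simp only [Subgroup.mem_center_iff]
      refine ⟨fun h m => ?_, fun h m => e.injective (by rw [map_mul, map_mul]; exact h (e m))⟩
      obtain ⟨m', rfl⟩ := e.surjective m
      show e m' * e n = e n * e m'
      rw [← map_mul, ← map_mul, h]
    have h2 := Subgroup.card_mul_index (A.subgroupOf N)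
    have h3 : Nat.card (A.subgroupOf N) ∣ 2 := hcen ▸ Subgroup.card_dvd_of_le hle
    refine dvd_trans ?_ h1
    show 4 ∣ (A.subgroupOf N).index
    rw [hN8] at h2
    rcases (Nat.dvd_prime Nat.prime_two).mp h3 with h | h <;> rw [h] at h2 <;> omega
  obtain ⟨c, hc⟩ := h4
  have hc6 : c ∣ 6 := by
    rw [hc, show (24 : ℕ) = 4 * 6 from rfl] at hidx24
    exact Nat.dvd_of_mul_dvd_mul_left (by norm_num) hidx24
  have hA0 : 0 < Nat.card A := Nat.card_pos
  have hcle : c ≤ 6 := Nat.le_of_dvd (by norm_num) hc6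
  rw [hc] at hmul
  have hone : c = 1 ∨ c = 2 ∨ c = 3 ∨ c = 6 := by interval_cases c <;> omega
  rcases hone with rfl | rfl | rfl | rfl
  · obtain ⟨M, hM⟩ := exists_index_two_of_index_pow (K := A) (k := 1) (by rw [hc]; rfl)
    exact Or.inl ⟨M, Subgroup.normal_of_index_eq_two hM, hM⟩
  · obtain ⟨M, hM⟩ := exists_index_two_of_index_pow (K := A) (k := 2) (by rw [hc]; rfl)
    exact Or.inl ⟨M, Subgroup.normal_of_index_eq_two hM, hM⟩
  swap
  · -- all automorphisms are induced: the sign gives index two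
    let g : H →* ℤˣ := Equiv.Perm.sign.comp (s4.toMonoidHom.comp ((MulAut.congr e).toMonoidHom.comp f))
    have hsurj : Function.Surjective f := by
      rw [← MonoidHom.range_eq_top]
      apply Subgroup.eq_top_of_card_eq
      rw [Nat.card_congr (MulAut.congr e).toEquiv, card_mulAut_quat, ← Subgroup.index_ker, hker, hc]
    have hg : Function.Surjective g := (Equiv.Perm.sign_surjective (Fin 4)).comp
      (s4.surjective.comp ((MulAut.congr e).surjective.comp hsurj))
    refine Or.inl ⟨g.ker, inferInstance, ?_⟩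
    rw [Subgroup.index_ker, MonoidHom.range_eq_top.mpr hg, Subgroup.card_top, Nat.card_eq_fintype_card,
      Fintype.card_units_int]
  -- the exceptions
  have hcases : (p = 5 ∧ Nat.card A = 2) ∨ (p = 11 ∧ Nat.card A = 10) := by
    rcases hps with rfl | rfl | rfl | rfl <;> norm_num at hcard hAdvd ⊢
    · omega
    · exfalso
      have : Nat.card A = 4 := by omega
      rw [this] at hAdvd; omega
    · omega
    · exfalso
      have : Nat.card A = 44 := by omega
      rw [this] at hAdvd; omega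
  let ι : QuaternionGroup 2 →* H := N.subtype.comp e.symm.toMonoidHom
  have hι : Function.Injective ι := N.subtype_injective.comp e.symm.injective
  have hιr : ι.range = N := by
    rw [MonoidHom.range_comp, MonoidHom.range_eq_top.mpr e.symm.surjective, ← MonoidHom.range_eq_map,
      Subgroup.range_subtype]
  haveI : Fact (Nat.Prime 3) := ⟨Nat.prime_three⟩
  obtain ⟨y, hy⟩ := exists_prime_orderOf_dvd_card' (G := H) 3 (by rw [← hmul]; exact ⟨4 * Nat.card A, by ring⟩)
  have h3A : ¬ 3 ∣ Nat.card A := by rcases hcases with ⟨-, h⟩ | ⟨-, h⟩ <;> rw [h] <;> norm_num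
  have hyC : y ∉ Subgroup.centralizer ((ι.range : Subgroup H) : Set H) := by
    rw [hιr, hCN]
    exact fun h => h3A (hy ▸ Subgroup.orderOf_dvd_natCard A h)
  rcases hcases with ⟨rfl, hA2⟩ | ⟨rfl, hA10⟩
  · rw [hA2] at hmul
    exact Or.inr (Or.inl ⟨by rw [hV]; norm_num, mulEquiv_SL23 (by omega) ι hι (hιr ▸ inferInstance) hy hyC⟩)
  refine Or.inr (Or.inr ⟨by rw [hV]; norm_num, ?_⟩)
  rw [hA10] at hmul
  haveI : Fact (Nat.Prime 5) := ⟨by norm_num⟩
  obtain ⟨⟨z, hzA⟩, hz⟩ := exists_prime_orderOf_dvd_card' (G := A) 5 (by rw [hA10]; norm_num)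
  rw [Subgroup.orderOf_mk] at hz
  have hzc : ∀ h : H, z * h = h * z := fun h =>
    Subgroup.mem_centralizer_iff.mp (hCA ▸ Subgroup.mem_top h : h ∈ Subgroup.centralizer (A : Set H)) z hzA
  set M := N ⊔ Subgroup.zpowers y with hMdef
  have hM24 : Nat.card M = 24 := by
    have hnorm : Subgroup.zpowers y ≤ Subgroup.normalizer (N : Set H) := by
      rw [Subgroup.normalizer_eq_top_iff.mpr hN.1]; exact le_top
    have hset : (M : Set H) = (N : Set H) * (Subgroup.zpowers y : Set H) := Subgroup.normal_mul N _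
    have hdis : Disjoint N (Subgroup.zpowers y) := Subgroup.disjoint_of_coprime_natCard
      (by rw [hN8, Nat.card_zpowers, hy]; norm_num)
    show Nat.card (M : Set H) = 24
    rw [hset, ← Nat.card_congr (Equiv.ofBijective
      (fun x : N × Subgroup.zpowers y => (⟨x.1.1 * x.2.1, Set.mul_mem_mul x.1.2 x.2.2⟩ :
        ((N : Set H) * (Subgroup.zpowers y : Set H) : Set H))) ⟨fun a b h => ?_, fun w => ?_⟩),
      Nat.card_prod, hN8, Nat.card_zpowers, hy]
    · exact Subgroup.mul_injective_of_disjoint hdis (congrArg Subtype.val h)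
    · obtain ⟨w, a, ha, b, hb, rfl⟩ := w
      exact ⟨(⟨a, ha⟩, ⟨b, hb⟩), rfl⟩
  let ιM : QuaternionGroup 2 →* M := ι.codRestrict M fun q =>
    (le_sup_left : N ≤ M) (hιr ▸ ⟨q, rfl⟩)
  have hιMr : ιM.range = N.subgroupOf M := by
    ext w
    rw [Subgroup.mem_subgroupOf, ← hιr]
    constructor
    · rintro ⟨q, rfl⟩; exact ⟨q, rfl⟩
    · rintro ⟨q, hq⟩; exact ⟨q, Subtype.ext hq⟩
  obtain ⟨eM⟩ := mulEquiv_SL23 hM24 ιM (fun a b h => hι (congrArg (fun w : M => (w : H)) h))
    (by rw [hιMr]; exact hN.1.subgroupOf M)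
    (y := ⟨y, (le_sup_right : Subgroup.zpowers y ≤ M) (Subgroup.mem_zpowers y)⟩)
    (by rw [Subgroup.orderOf_mk, hy]) (by
      intro h
      refine hyC ?_
      rw [Subgroup.mem_centralizer_iff] at h ⊢
      rintro n ⟨q, rfl⟩
      exact congrArg Subtype.val (h (ιM q) ⟨q, rfl⟩))
  have hdisj : Disjoint M (Subgroup.zpowers z) := Subgroup.disjoint_of_coprime_natCard
    (by rw [hM24, Nat.card_zpowers, hz]; norm_num)
  let prod : M × Subgroup.zpowers z →* H :=
    { toFun := fun x => x.1.1 * x.2.1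
      map_one' := by simp
      map_mul' := fun a b => by
        have hc : Commute (a.2.1 : H) b.1.1 := by
          obtain ⟨i, hi⟩ := a.2.2
          show a.2.1 * b.1.1 = b.1.1 * a.2.1
          rw [← hi]
          exact ((show Commute z b.1.1 from hzc _).zpow_left i).eq
        show a.1.1 * b.1.1 * (a.2.1 * b.2.1) = a.1.1 * a.2.1 * (b.1.1 * b.2.1)
        simp only [mul_assoc]
        rw [← mul_assoc b.1.1 a.2.1, ← hc.eq, mul_assoc] }
  have hinjp : Function.Injective prod := fun a b h => Subgroup.mul_injective_of_disjoint hdisj h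
  have hcardp : Nat.card (M × Subgroup.zpowers z) = Nat.card H := by
    rw [Nat.card_prod, hM24, Nat.card_zpowers, hz, ← hmul]
  have hbij : Function.Bijective prod := ⟨hinjp, (Nat.bijective_iff_injective_and_card prod).mpr ⟨hinjp, hcardp⟩ |>.2⟩
  haveI : IsCyclic (Subgroup.zpowers z) := inferInstance
  exact ⟨(MulEquiv.ofBijective prod hbij).symm.trans (eM.prodCongr
    (mulEquivOfCyclicCardEq (by rw [Nat.card_zpowers, hz]; simp [Nat.card_eq_fintype_card])))⟩

end Cfsg.Agent.SmallOrder.SolvReg
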