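import Cfsg.Agent.Chars.Order7920Sylow3
import Cfsg.Agent.S2490
import Cfsg.Agent.Golay.Mathieu
import Cfsg.Agent.SmallOrder.S168

/-!
Groups of order 7920: element counts in the simple one, and simplicity from a self-centralising
element of order eleven.
-/

set_option autoImplicit false

namespace Cfsg.Agent.SmallOrder.M11Facts

open Cfsg Cfsg.Agent

universe u

variable {G : Type u} [Group G]

theorem prime_cases {r : ℕ} (hr : r.Prime) (h : r ∣ 7920) : r = 2 ∨ r = 3 ∨ r = 5 ∨ r = 11 :=
  by
  have h' : r ∣ 2 * 2 * 2 * 2 * (3 * 3) * 5 * 11 := h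
  simp only [hr.dvd_mul, Nat.prime_dvd_prime_iff_eq hr Nat.prime_two,
    Nat.prime_dvd_prime_iff_eq hr (by norm_num : Nat.Prime 3), Nat.prime_dvd_prime_iff_eq hr (by norm_num : Nat.Prime 5),
    Nat.prime_dvd_prime_iff_eq hr (by norm_num : Nat.Prime 11)] at h'
  omega

/-- Centralisers of elements of prime order in a simple group of order 7920. -/
theorem centralizer_prime [Fintype G] [IsSimpleGroup G] (hG : Nat.card G = 7920) {r : ℕ} (hr : r.Prime)
    {y : G} (hy : orderOf y = r) :
    (r = 5 ∧ Nat.card (Subgroup.centralizer ({y} : Set G)) = 5) ∨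
    (r = 11 ∧ Nat.card (Subgroup.centralizer ({y} : Set G)) = 11) ∨
    ((r = 2 ∨ r = 3) ∧ Nat.card (Subgroup.centralizer ({y} : Set G)) ∣ 144) := by
  have : Fact (Nat.Prime 5) := ⟨by norm_num⟩
  have : Fact (Nat.Prime 11) := ⟨by norm_num⟩
  have hrd : r ∣ 7920 := by rw [← hG, ← hy]; exact orderOf_dvd_natCard y
  rcases prime_cases hr hrd with rfl | rfl | rfl | rfl
  · obtain ⟨L⟩ := Chars.Order7920.exists_labels hG
    rw [(Chars.Order7920.involution hG L hy).1]
    exact Or.inr (Or.inr ⟨Or.inl rfl, by norm_num⟩)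
  · refine Or.inr (Or.inr ⟨Or.inr rfl, ?_⟩)
    have key : ∀ q : ℕ, q = 5 ∨ q = 11 → ¬ q ∣ Nat.card (Subgroup.centralizer ({y} : Set G)) := by
      intro q hq hd
      have hqp : q.Prime := by rcases hq with rfl | rfl <;> norm_num
      have : Fact q.Prime := ⟨hqp⟩
      obtain ⟨⟨v, hvC⟩, hv⟩ := exists_prime_orderOf_dvd_card' q hd
      rw [Subgroup.orderOf_mk] at hv
      have hcv : Nat.card (Subgroup.centralizer ({v} : Set G)) = q := by
        rcases hq with rfl | rfl
        · exact Chars.Order7920.card_centralizer_five hG hv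
        · exact Chars.Order7920.card_centralizer_eleven hG hv
      have hyv : y ∈ Subgroup.centralizer ({v} : Set G) :=
        Subgroup.mem_centralizer_singleton_iff.2 (Subgroup.mem_centralizer_singleton_iff.1 hvC).symm
      have h3 := Subgroup.orderOf_dvd_natCard _ hyv
      rw [hy, hcv] at h3
      rcases hq with rfl | rfl <;> norm_num at h3
    have hd : Nat.card (Subgroup.centralizer ({y} : Set G)) ∣ 144 * 5 * 11 := by
      have := Subgroup.card_subgroup_dvd_card (Subgroup.centralizer ({y} : Set G))
      rw [hG] at this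
      simpa using this
    exact (((Fact.out : Nat.Prime 5).coprime_iff_not_dvd.2 (key 5 (Or.inl rfl))).symm).dvd_of_dvd_mul_right
      ((((Fact.out : Nat.Prime 11).coprime_iff_not_dvd.2 (key 11 (Or.inr rfl))).symm).dvd_of_dvd_mul_right hd)
  · exact Or.inl ⟨rfl, Chars.Order7920.card_centralizer_five hG hy⟩
  · exact Or.inr (Or.inl ⟨rfl, Chars.Order7920.card_centralizer_eleven hG hy⟩)

/-- Every class size is 1, a multiple of 55, or that of an element of order 5 or 11. -/
theorem class_size [Fintype G] [IsSimpleGroup G] (hG : Nat.card G = 7920) (x : G) (hx : x ≠ 1) :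
    55 ∣ (Subgroup.centralizer ({x} : Set G)).index ∨
    (orderOf x = 5 ∧ (Subgroup.centralizer ({x} : Set G)).index = 1584) ∨
    (orderOf x = 11 ∧ (Subgroup.centralizer ({x} : Set G)).index = 720) := by
  have hmul := (Subgroup.centralizer ({x} : Set G)).card_mul_index
  rw [hG] at hmul
  have hle : ∀ k : ℕ, Subgroup.centralizer ({x} : Set G) ≤ Subgroup.centralizer ({x ^ k} : Set G) :=
    fun k g hg => Subgroup.mem_centralizer_singleton_iff.2
      (Commute.pow_right (Subgroup.mem_centralizer_singleton_iff.1 hg) k)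
  have h144 : ∀ d : ℕ, Nat.card (Subgroup.centralizer ({x} : Set G)) ∣ d → d ∣ 144 →
      55 ∣ (Subgroup.centralizer ({x} : Set G)).index := by
    intro d h1 h2
    obtain ⟨k, hk⟩ := h1.trans h2
    refine ⟨k, Nat.eq_of_mul_eq_mul_left (Nat.card_pos (α := Subgroup.centralizer ({x} : Set G))) ?_⟩
    rw [hmul, Nat.mul_left_comm, ← hk]
  obtain ⟨r, hr, hrd⟩ := Nat.exists_prime_and_dvd (fun e => hx (orderOf_eq_one_iff.1 e))
  obtain ⟨k, hk⟩ := hrd
  have hy : orderOf (x ^ k) = r := by
    rw [orderOf_pow, hk, Nat.gcd_mul_left_left]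
    exact Nat.mul_div_cancel _ (Nat.pos_of_ne_zero fun e => by
      rw [e, mul_zero] at hk; exact (orderOf_pos x).ne' hk)
  have hxy : x ∈ Subgroup.centralizer ({x ^ k} : Set G) :=
    hle k (Subgroup.mem_centralizer_singleton_iff.2 rfl)
  have hd := Subgroup.orderOf_dvd_natCard _ hxy
  rcases centralizer_prime hG hr hy with ⟨rfl, hc⟩ | ⟨rfl, hc⟩ | ⟨-, hc⟩
  · rw [hc] at hd
    have ho : orderOf x = 5 := ((Nat.dvd_prime hr).1 hd).resolve_left fun e => hx (orderOf_eq_one_iff.1 e)
    refine Or.inr (Or.inl ⟨ho, ?_⟩)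
    have := Fact.mk hr
    have : Fact (Nat.Prime 11) := ⟨by norm_num⟩
    rw [Chars.Order7920.card_centralizer_five hG ho] at hmul
    omega
  · rw [hc] at hd
    have ho : orderOf x = 11 := ((Nat.dvd_prime hr).1 hd).resolve_left fun e => hx (orderOf_eq_one_iff.1 e)
    refine Or.inr (Or.inr ⟨ho, ?_⟩)
    have := Fact.mk hr
    rw [Chars.Order7920.card_centralizer_eleven hG ho] at hmul
    omega
  · exact Or.inl (h144 _ (Subgroup.card_dvd_of_le (hle k)) hc)

/-- A divisor of all class sizes of elements of order `n` divides their number. -/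
theorem dvd_count [Fintype G] {n d : ℕ}
    (h : ∀ x : G, orderOf x = n → d ∣ (Subgroup.centralizer ({x} : Set G)).index) :
    d ∣ Nat.card {g : G // orderOf g = n} := by
  classical
  rw [Nat.card_eq_fintype_card, Fintype.card_subtype,
    Finset.card_eq_sum_card_fiberwise (f := ConjClasses.mk) (t := Finset.univ) (fun x _ => Finset.mem_univ _)]
  refine Finset.dvd_sum fun c _ => ?_
  rcases Finset.eq_empty_or_nonempty ((Finset.univ.filter fun g : G => orderOf g = n).filter
    fun x => ConjClasses.mk x = c) with he | ⟨x, hx⟩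
  · rw [he]; simp
  · obtain ⟨hxn, rfl⟩ := Finset.mem_filter.1 hx
    rw [Finset.mem_filter] at hxn
    have e : ((Finset.univ.filter fun g : G => orderOf g = n).filter
        fun y => ConjClasses.mk y = ConjClasses.mk x) = Finset.univ.filter fun y => IsConj x y := by
      ext y
      simp only [Finset.mem_filter, Finset.mem_univ, true_and, ConjClasses.mk_eq_mk_iff_isConj]
      constructor
      · exact fun hh => hh.2.symm
      · intro hxy
        obtain ⟨c, rfl⟩ := isConj_iff.1 hxy
        refine ⟨?_, hxy.symm⟩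
        rw [← MulAut.conj_apply, MulEquiv.orderOf_eq]
        exact hxn.2
    rw [e]
    refine (h x hxn.2).trans (dvd_of_eq ?_)
    rw [← Chars.card_filter_isConj x]
    congr 1
    ext y
    simp

/-- Numbers that are not the number of elements of some order in a simple group of order 7920. -/
theorem count_ne [Fintype G] [IsSimpleGroup G] (hG : Nat.card G = 7920) {v : ℕ}
    (hv : v = 10 ∨ v = 120 ∨ v = 450 ∨ v = 5760) (n : ℕ) : Nat.card {g : G // orderOf g = n} ≠ v := by
  intro hc
  have : Fact (Nat.Prime 11) := ⟨by norm_num⟩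
  by_cases h11 : n = 11
  · subst h11
    have hmul : Nat.card G = 11 ^ 1 * 720 := by rw [hG]; norm_num
    have hcount := SmallOrder.S168.card_prime_elements (p := 11) hmul (by norm_num)
    obtain ⟨P⟩ := (inferInstance : Nonempty (Sylow 11 G))
    obtain ⟨hP, -, hd, hm⟩ := SmallOrder.sylow_arith P hmul (by norm_num)
    obtain ⟨x, hx⟩ := exists_prime_orderOf_dvd_card' (G := G) 11 (by rw [hG]; norm_num)
    have hdd : 720 ∣ Nat.card {g : G // orderOf g = 11} := dvd_count fun y hy => by
      rcases class_size hG y (fun e => by rw [e, orderOf_one] at hy; omega) with h | ⟨h, -⟩ | ⟨-, h⟩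
      · exfalso
        have hm := (Subgroup.centralizer ({y} : Set G)).card_mul_index
        rw [hG, Chars.Order7920.card_centralizer_eleven hG hy] at hm
        omega
      · omega
      · rw [h]
    rw [hc] at hcount hdd
    rcases hv with rfl | rfl | rfl | rfl <;> omega
  by_cases h5 : n = 5
  · subst h5
    have hdd : 1584 ∣ Nat.card {g : G // orderOf g = 5} := dvd_count fun y hy => by
      rcases class_size hG y (fun e => by rw [e, orderOf_one] at hy; omega) with h | ⟨-, h⟩ | ⟨h, -⟩
      · exfalso
        have : Fact (Nat.Prime 5) := ⟨by norm_num⟩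
        have hm := (Subgroup.centralizer ({y} : Set G)).card_mul_index
        rw [hG, Chars.Order7920.card_centralizer_five hG hy] at hm
        omega
      · rw [h]
      · omega
    rw [hc] at hdd
    omega
  by_cases h1 : n = 1
  · subst h1
    have : Nat.card {g : G // orderOf g = 1} = 1 :=
      Nat.card_eq_one_iff_exists.2 ⟨⟨1, orderOf_one⟩, fun g => Subtype.ext (orderOf_eq_one_iff.1 g.2)⟩
    omega
  have hdd : 55 ∣ Nat.card {g : G // orderOf g = n} := dvd_count fun y hy => by
    rcases class_size hG y (fun e => by rw [e, orderOf_one] at hy; omega) with h | ⟨h, -⟩ | ⟨h, -⟩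
    · exact h
    · omega
    · omega
  rw [hc] at hdd
  omega

/-- An element of order eleven commuting with no element of other prime order gives simplicity. -/
theorem simple_of_eleven [Finite G] (hG : Nat.card G = 7920)
    (h : ∀ x : G, orderOf x = 11 → Nat.card (Subgroup.centralizer ({x} : Set G)) = 11) : IsSimpleGroup G := by
  refine S2490.result hG ⟨{11}, ⟨11, rfl, by norm_num, by rw [hG]; norm_num⟩,
    ⟨2, by simp, Nat.prime_two, by rw [hG]; norm_num⟩, ?_⟩
  rintro a rfl b hb - hbp - - ⟨g, hg⟩
  rw [Set.mem_singleton_iff] at hb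
  have ho : orderOf (g ^ b) = 11 := by
    rw [orderOf_pow, hg, Nat.gcd_mul_left_left, Nat.mul_div_cancel _ hbp.pos]
  have hd := Subgroup.orderOf_dvd_natCard (Subgroup.centralizer ({g ^ b} : Set G))
    (Subgroup.mem_centralizer_singleton_iff.2 (Commute.self_pow g b))
  rw [hg, h _ ho] at hd
  have := Nat.le_of_dvd (by norm_num) hd
  have := hbp.two_le
  omega

end Cfsg.Agent.SmallOrder.M11Facts
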