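import Mathlib
import Cfsg.Agent.SmallOrder.AffineGroup

/-!
The double cover `2.S₅` with quaternion Sylow 2-subgroups inside `GL(4, 7)`, by tables.
-/

namespace Cfsg.Agent.SmallOrder

open Matrix

/-- First generator. -/
def twoS5A : GL (Fin 4) (ZMod 7) :=
  ⟨!![0, 0, 2, 3; 0, 0, 3, 5; 2, 3, 3, 1; 3, 5, 1, 4], !![3, 1, 5, 4; 1, 4, 4, 2; 5, 4, 0, 0; 4, 2, 0, 0], by decide +kernel, by decide +kernel⟩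

/-- Second generator. -/
def twoS5B : GL (Fin 4) (ZMod 7) :=
  ⟨!![0, 6, 0, 2; 1, 0, 5, 0; 4, 0, 6, 1; 0, 4, 6, 6], !![6, 1, 0, 5; 6, 6, 2, 0; 3, 0, 0, 6; 0, 3, 1, 0], by decide +kernel, by decide +kernel⟩

/-- Part 0 of `s5Elt`. -/
def s5EltPart0 : Fin 30 → Matrix (Fin 4) (Fin 4) (ZMod 7) := ![
    !![1, 0, 0, 0; 0, 1, 0, 0; 0, 0, 1, 0; 0, 0, 0, 1],
    !![0, 0, 2, 3; 0, 0, 3, 5; 2, 3, 3, 1; 3, 5, 1, 4],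
    !![0, 6, 0, 2; 1, 0, 5, 0; 4, 0, 6, 1; 0, 4, 6, 6],
    !![6, 0, 2, 0; 0, 6, 0, 2; 2, 0, 2, 0; 0, 2, 0, 2],
    !![1, 5, 2, 6; 5, 6, 6, 5; 1, 2, 4, 6; 2, 6, 6, 3],
    !![6, 3, 6, 3; 3, 1, 3, 1; 1, 2, 6, 1; 2, 6, 1, 1],
    !![6, 1, 0, 5; 6, 6, 2, 0; 3, 0, 0, 6; 0, 3, 1, 0],
    !![4, 6, 4, 6; 6, 3, 6, 3; 4, 6, 3, 1; 6, 3, 1, 4],
    !![1, 1, 5, 0; 6, 1, 0, 5; 1, 5, 5, 6; 2, 1, 1, 5],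
    !![1, 1, 1, 5; 6, 1, 2, 1; 5, 0, 5, 6; 0, 5, 1, 5],
    !![6, 2, 3, 5; 2, 1, 5, 4; 4, 2, 0, 0; 2, 3, 0, 0],
    !![0, 5, 0, 2; 2, 0, 5, 0; 1, 2, 6, 2; 5, 1, 5, 6],
    !![6, 6, 6, 1; 6, 1, 1, 1; 5, 3, 3, 0; 3, 2, 0, 4],
    !![1, 4, 6, 1; 4, 6, 1, 1; 4, 2, 5, 5; 2, 3, 5, 2],
    !![5, 0, 2, 0; 0, 5, 0, 2; 2, 0, 1, 0; 0, 2, 0, 1],
    !![1, 6, 6, 6; 6, 6, 6, 1; 4, 0, 5, 3; 0, 3, 3, 2],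
    !![3, 1, 6, 6; 1, 4, 6, 1; 0, 3, 3, 1; 3, 0, 1, 4],
    !![0, 6, 0, 0; 1, 0, 0, 0; 4, 2, 0, 1; 5, 4, 6, 0],
    !![3, 0, 6, 1; 0, 4, 1, 1; 0, 3, 3, 2; 3, 0, 2, 4],
    !![5, 5, 6, 5; 2, 5, 2, 6; 6, 5, 3, 2; 2, 6, 5, 3],
    !![0, 6, 4, 2; 1, 0, 5, 4; 0, 0, 0, 1; 0, 0, 6, 0],
    !![6, 3, 3, 5; 3, 1, 5, 4; 4, 0, 0, 6; 0, 3, 6, 0],
    !![5, 1, 2, 5; 6, 5, 2, 2; 5, 0, 2, 6; 0, 5, 1, 2],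
    !![1, 2, 0, 2; 5, 1, 5, 0; 6, 2, 0, 5; 5, 6, 2, 0],
    !![2, 5, 2, 3; 5, 5, 3, 5; 1, 2, 5, 6; 2, 6, 6, 2],
    !![1, 2, 5, 5; 5, 1, 2, 5; 4, 5, 6, 5; 2, 4, 2, 6],
    !![0, 3, 6, 0; 3, 0, 0, 1; 1, 2, 0, 1; 2, 6, 1, 0],
    !![4, 6, 2, 3; 6, 3, 3, 5; 2, 3, 0, 0; 3, 5, 0, 0],
    !![2, 6, 2, 0; 1, 2, 0, 2; 5, 2, 5, 1; 5, 5, 6, 5],
    !![2, 2, 4, 2; 2, 5, 2, 3; 6, 1, 6, 3; 1, 1, 3, 1]]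

/-- Part 1 of `s5Elt`. -/
def s5EltPart1 : Fin 30 → Matrix (Fin 4) (Fin 4) (ZMod 7) := ![
    !![2, 6, 5, 2; 1, 2, 5, 5; 2, 0, 5, 1; 0, 2, 6, 5],
    !![4, 0, 0, 6; 0, 3, 6, 0; 1, 4, 4, 2; 4, 6, 2, 3],
    !![0, 0, 4, 2; 0, 0, 2, 3; 3, 5, 1, 5; 5, 4, 5, 6],
    !![1, 2, 4, 5; 5, 1, 2, 4; 5, 5, 6, 5; 2, 5, 2, 6],
    !![3, 1, 0, 4; 1, 4, 4, 0; 1, 1, 3, 1; 1, 6, 1, 4],
    !![6, 1, 6, 3; 1, 1, 3, 1; 5, 5, 3, 5; 5, 2, 5, 4],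
    !![1, 1, 0, 4; 6, 1, 3, 0; 3, 2, 6, 6; 5, 3, 1, 6],
    !![0, 1, 4, 0; 1, 0, 0, 3; 3, 5, 1, 4; 5, 4, 4, 6],
    !![1, 1, 3, 2; 6, 1, 5, 3; 0, 4, 6, 6; 3, 0, 1, 6],
    !![1, 0, 0, 3; 0, 6, 3, 0; 0, 6, 1, 2; 6, 0, 2, 6],
    !![5, 3, 3, 0; 3, 2, 0, 4; 1, 1, 1, 6; 1, 6, 6, 6],
    !![2, 1, 5, 0; 6, 2, 0, 5; 1, 5, 6, 6; 2, 1, 1, 6],
    !![6, 3, 3, 0; 3, 1, 0, 4; 1, 4, 2, 6; 4, 6, 6, 5],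
    !![2, 0, 1, 0; 0, 2, 0, 1; 2, 0, 5, 0; 0, 2, 0, 5],
    !![6, 0, 0, 3; 0, 6, 4, 0; 0, 3, 1, 0; 4, 0, 0, 1],
    !![4, 5, 0, 3; 5, 3, 3, 0; 6, 1, 4, 0; 1, 1, 0, 3],
    !![1, 5, 0, 2; 2, 1, 5, 0; 1, 2, 0, 2; 5, 1, 5, 0],
    !![5, 4, 6, 0; 3, 5, 0, 6; 3, 5, 2, 3; 2, 3, 4, 2],
    !![6, 0, 2, 6; 0, 1, 6, 5; 2, 3, 2, 1; 3, 5, 1, 5],
    !![6, 0, 0, 0; 0, 6, 0, 0; 0, 0, 6, 0; 0, 0, 0, 6],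
    !![4, 6, 0, 3; 6, 3, 3, 0; 6, 6, 4, 6; 6, 1, 6, 3],
    !![0, 5, 0, 6; 2, 0, 1, 0; 1, 6, 4, 0; 1, 1, 0, 4],
    !![0, 1, 3, 0; 6, 0, 0, 3; 0, 5, 1, 6; 2, 0, 1, 1],
    !![2, 4, 4, 0; 4, 5, 0, 3; 6, 6, 6, 1; 6, 1, 1, 1],
    !![5, 6, 2, 0; 1, 5, 0, 2; 6, 2, 1, 1; 5, 6, 6, 1],
    !![4, 2, 0, 1; 5, 4, 6, 0; 0, 1, 0, 0; 6, 0, 0, 0],
    !![0, 6, 1, 2; 6, 0, 2, 6; 6, 0, 0, 4; 0, 1, 4, 0],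
    !![0, 1, 0, 5; 6, 0, 2, 0; 3, 0, 1, 6; 0, 3, 1, 1],
    !![2, 1, 1, 2; 1, 5, 2, 6; 2, 3, 5, 2; 3, 5, 2, 2],
    !![4, 5, 1, 1; 2, 4, 6, 1; 1, 1, 0, 4; 6, 1, 3, 0]]

/-- Part 2 of `s5Elt`. -/
def s5EltPart2 : Fin 30 → Matrix (Fin 4) (Fin 4) (ZMod 7) := ![
    !![5, 6, 6, 2; 1, 5, 5, 6; 2, 0, 1, 1; 0, 2, 6, 1],
    !![1, 6, 1, 2; 6, 6, 2, 6; 6, 3, 1, 4; 3, 1, 4, 6],
    !![0, 5, 1, 6; 2, 0, 1, 1; 0, 6, 4, 0; 1, 0, 0, 4],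
    !![4, 6, 3, 1; 6, 3, 1, 4; 3, 1, 3, 1; 1, 4, 1, 4],
    !![5, 6, 2, 3; 6, 2, 3, 5; 2, 6, 1, 0; 6, 5, 0, 6],
    !![1, 5, 1, 2; 2, 1, 5, 1; 0, 2, 0, 2; 5, 0, 5, 0],
    !![3, 0, 1, 4; 0, 4, 4, 6; 2, 6, 6, 3; 6, 5, 3, 1],
    !![5, 5, 2, 5; 5, 2, 5, 5; 2, 6, 1, 1; 6, 5, 1, 6],
    !![2, 1, 5, 1; 6, 2, 6, 5; 1, 6, 2, 4; 1, 1, 3, 2],
    !![0, 4, 4, 6; 4, 0, 6, 3; 3, 1, 6, 6; 1, 4, 6, 1],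
    !![6, 2, 0, 5; 5, 6, 2, 0; 6, 5, 0, 5; 2, 6, 2, 0],
    !![1, 2, 5, 6; 2, 6, 6, 2; 5, 2, 5, 4; 2, 2, 4, 2],
    !![3, 1, 1, 2; 1, 4, 2, 6; 2, 6, 6, 2; 6, 5, 2, 1],
    !![6, 2, 2, 1; 5, 6, 6, 2; 1, 1, 5, 0; 6, 1, 0, 5],
    !![1, 1, 5, 1; 1, 6, 1, 2; 5, 2, 5, 5; 2, 2, 5, 2],
    !![2, 3, 0, 0; 3, 5, 0, 0; 3, 1, 5, 4; 1, 4, 4, 2],
    !![4, 5, 6, 5; 2, 4, 2, 6; 6, 5, 2, 2; 2, 6, 5, 2],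
    !![5, 1, 1, 5; 1, 2, 5, 6; 3, 1, 1, 2; 1, 4, 2, 6],
    !![6, 3, 5, 1; 3, 1, 1, 2; 6, 3, 3, 0; 3, 1, 0, 4],
    !![5, 4, 5, 6; 4, 2, 6, 2; 6, 0, 2, 6; 0, 1, 6, 5],
    !![0, 2, 0, 2; 5, 0, 5, 0; 6, 2, 6, 5; 5, 6, 2, 6],
    !![0, 0, 5, 4; 0, 0, 4, 2; 5, 4, 4, 6; 4, 2, 6, 3],
    !![2, 1, 1, 5; 6, 2, 2, 1; 5, 0, 6, 6; 0, 5, 1, 6],
    !![6, 1, 6, 5; 1, 1, 5, 1; 1, 4, 6, 3; 4, 6, 3, 1],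
    !![4, 2, 0, 0; 2, 3, 0, 0; 1, 5, 4, 2; 5, 6, 2, 3],
    !![5, 3, 5, 1; 4, 5, 6, 5; 1, 6, 5, 6; 1, 1, 1, 5],
    !![6, 2, 5, 1; 2, 1, 1, 2; 6, 5, 3, 1; 5, 1, 1, 4],
    !![6, 0, 2, 3; 0, 6, 4, 2; 2, 3, 4, 2; 4, 2, 5, 4],
    !![6, 5, 2, 1; 5, 1, 1, 5; 2, 5, 2, 3; 5, 5, 3, 5],
    !![4, 6, 6, 5; 6, 3, 5, 1; 5, 1, 1, 5; 1, 2, 5, 6]]

/-- Part 3 of `s5Elt`. -/
def s5EltPart3 : Fin 30 → Matrix (Fin 4) (Fin 4) (ZMod 7) := ![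
    !![0, 2, 0, 5; 5, 0, 2, 0; 6, 5, 1, 5; 2, 6, 2, 1],
    !![3, 5, 1, 5; 5, 4, 5, 6; 0, 0, 3, 5; 0, 0, 5, 4],
    !![2, 0, 2, 0; 0, 2, 0, 2; 1, 0, 5, 0; 0, 1, 0, 5],
    !![1, 6, 2, 4; 1, 1, 3, 2; 5, 6, 2, 6; 1, 5, 1, 2],
    !![1, 4, 1, 4; 4, 6, 4, 6; 6, 5, 1, 6; 5, 1, 6, 6],
    !![1, 6, 0, 2; 1, 1, 5, 0; 4, 0, 0, 1; 0, 4, 6, 0],
    !![1, 6, 5, 6; 1, 1, 1, 5; 2, 4, 2, 6; 3, 2, 1, 2],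
    !![5, 1, 6, 0; 1, 2, 0, 1; 5, 6, 2, 3; 6, 2, 3, 5],
    !![2, 0, 2, 1; 0, 2, 6, 2; 1, 1, 1, 5; 6, 1, 2, 1],
    !![4, 0, 6, 3; 0, 3, 3, 1; 5, 1, 1, 4; 1, 2, 4, 6],
    !![2, 3, 1, 0; 4, 2, 0, 1; 4, 2, 5, 4; 5, 4, 3, 5],
    !![1, 6, 4, 0; 1, 1, 0, 4; 0, 2, 0, 1; 5, 0, 6, 0],
    !![6, 5, 3, 1; 5, 1, 1, 4; 1, 5, 2, 6; 5, 6, 6, 5],
    !![2, 3, 4, 2; 4, 2, 5, 4; 1, 0, 5, 4; 0, 1, 3, 5],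
    !![4, 0, 5, 3; 0, 3, 3, 2; 6, 1, 1, 1; 1, 1, 1, 6],
    !![2, 0, 1, 1; 0, 2, 6, 1; 2, 1, 1, 5; 6, 2, 2, 1],
    !![0, 2, 6, 5; 5, 0, 2, 6; 0, 5, 1, 5; 2, 0, 2, 1],
    !![5, 3, 1, 6; 4, 5, 1, 1; 5, 1, 5, 6; 6, 5, 1, 5],
    !![6, 1, 4, 0; 1, 1, 0, 3; 3, 2, 0, 4; 2, 4, 4, 0],
    !![6, 6, 2, 6; 6, 1, 6, 5; 2, 5, 2, 2; 5, 5, 2, 5],
    !![0, 2, 6, 1; 5, 0, 6, 6; 0, 1, 3, 0; 6, 0, 0, 3],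
    !![5, 0, 2, 6; 0, 5, 1, 2; 2, 6, 5, 2; 1, 2, 5, 5],
    !![1, 4, 2, 6; 4, 6, 6, 5; 1, 4, 4, 0; 4, 6, 0, 3],
    !![2, 0, 5, 0; 0, 2, 0, 5; 5, 0, 6, 0; 0, 5, 0, 6],
    !![0, 3, 1, 0; 4, 0, 0, 1; 1, 0, 0, 4; 0, 1, 3, 0],
    !![1, 2, 6, 1; 2, 6, 1, 1; 1, 4, 1, 4; 4, 6, 4, 6],
    !![3, 5, 0, 6; 2, 3, 1, 0; 0, 6, 0, 0; 1, 0, 0, 0],
    !![6, 6, 0, 3; 1, 6, 4, 0; 4, 5, 1, 1; 2, 4, 6, 1],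
    !![0, 3, 6, 6; 3, 0, 6, 1; 1, 1, 0, 3; 1, 6, 3, 0],
    !![0, 0, 6, 0; 0, 0, 0, 6; 1, 0, 0, 0; 0, 1, 0, 0]]

/-- Part 4 of `s5Elt`. -/
def s5EltPart4 : Fin 30 → Matrix (Fin 4) (Fin 4) (ZMod 7) := ![
    !![3, 5, 1, 4; 5, 4, 4, 6; 0, 6, 3, 0; 6, 0, 0, 4],
    !![3, 0, 0, 6; 0, 3, 1, 0; 1, 6, 0, 2; 1, 1, 5, 0],
    !![5, 1, 6, 6; 1, 2, 6, 1; 5, 5, 2, 5; 5, 2, 5, 5],
    !![6, 6, 2, 0; 1, 6, 0, 2; 6, 2, 2, 1; 5, 6, 6, 2],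
    !![2, 5, 2, 2; 5, 5, 2, 5; 1, 1, 5, 1; 1, 6, 1, 2],
    !![0, 3, 1, 1; 4, 0, 6, 1; 1, 1, 3, 2; 6, 1, 5, 3],
    !![3, 5, 2, 2; 5, 4, 2, 5; 1, 4, 6, 1; 4, 6, 1, 1],
    !![6, 3, 1, 4; 3, 1, 4, 6; 6, 1, 6, 5; 1, 1, 5, 1],
    !![1, 0, 5, 0; 0, 1, 0, 5; 5, 0, 5, 0; 0, 5, 0, 5],
    !![6, 1, 3, 0; 6, 6, 0, 3; 0, 5, 0, 6; 2, 0, 1, 0],
    !![4, 0, 1, 6; 0, 3, 6, 6; 0, 4, 4, 5; 4, 0, 5, 3],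
    !![0, 0, 0, 1; 0, 0, 6, 0; 0, 1, 3, 5; 6, 0, 2, 3],
    !![2, 3, 3, 1; 3, 5, 1, 4; 0, 0, 5, 4; 0, 0, 4, 2],
    !![6, 6, 0, 4; 6, 1, 4, 0; 0, 3, 6, 6; 3, 0, 6, 1],
    !![6, 6, 6, 2; 1, 6, 5, 6; 2, 0, 2, 1; 0, 2, 6, 2],
    !![1, 5, 4, 2; 5, 6, 2, 3; 3, 5, 0, 0; 5, 4, 0, 0],
    !![6, 0, 0, 4; 0, 1, 4, 0; 0, 1, 6, 5; 1, 0, 5, 1],
    !![0, 4, 6, 0; 3, 0, 0, 6; 6, 0, 0, 3; 0, 6, 4, 0],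
    !![6, 5, 1, 6; 5, 1, 6, 6; 6, 3, 6, 3; 3, 1, 3, 1],
    !![2, 2, 5, 2; 2, 5, 2, 2; 5, 1, 6, 6; 1, 2, 6, 1],
    !![1, 4, 4, 2; 4, 6, 2, 3; 3, 0, 0, 1; 0, 4, 1, 0],
    !![3, 0, 1, 6; 0, 3, 1, 1; 0, 6, 0, 2; 1, 0, 5, 0],
    !![2, 3, 5, 2; 3, 5, 2, 2; 5, 6, 6, 5; 6, 2, 5, 1],
    !![1, 5, 5, 6; 2, 1, 1, 5; 6, 6, 2, 0; 1, 6, 0, 2],
    !![1, 1, 1, 6; 1, 6, 6, 6; 2, 4, 4, 0; 4, 5, 0, 3],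
    !![6, 3, 1, 6; 3, 1, 6, 6; 3, 5, 2, 2; 5, 4, 2, 5],
    !![5, 2, 5, 1; 5, 5, 6, 5; 5, 1, 5, 0; 6, 5, 0, 5],
    !![5, 4, 3, 5; 3, 5, 2, 3; 6, 0, 2, 3; 0, 6, 4, 2],
    !![4, 2, 6, 2; 2, 3, 2, 1; 0, 0, 4, 2; 0, 0, 2, 3],
    !![0, 4, 4, 5; 4, 0, 5, 3; 3, 0, 6, 1; 0, 4, 1, 1]]

/-- Part 5 of `s5Elt`. -/
def s5EltPart5 : Fin 30 → Matrix (Fin 4) (Fin 4) (ZMod 7) := ![
    !![0, 5, 1, 2; 2, 0, 5, 1; 0, 2, 6, 2; 5, 0, 5, 6],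
    !![3, 1, 5, 4; 1, 4, 4, 2; 5, 4, 0, 0; 4, 2, 0, 0],
    !![2, 3, 2, 1; 3, 5, 1, 5; 1, 0, 5, 1; 0, 6, 1, 2],
    !![0, 5, 0, 5; 2, 0, 2, 0; 1, 5, 1, 2; 2, 1, 5, 1],
    !![3, 5, 0, 0; 5, 4, 0, 0; 6, 2, 3, 5; 2, 1, 5, 4],
    !![0, 1, 6, 5; 1, 0, 5, 1; 1, 0, 0, 3; 0, 6, 3, 0],
    !![5, 6, 2, 6; 1, 5, 1, 2; 6, 1, 5, 3; 6, 6, 4, 5],
    !![5, 1, 1, 4; 1, 2, 4, 6; 3, 0, 1, 4; 0, 4, 4, 6],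
    !![4, 2, 5, 4; 5, 4, 3, 5; 5, 4, 6, 0; 3, 5, 0, 6],
    !![6, 1, 1, 1; 1, 1, 1, 6; 3, 0, 2, 4; 0, 4, 4, 5],
    !![5, 6, 6, 1; 1, 5, 6, 6; 2, 6, 5, 3; 1, 2, 4, 5],
    !![6, 5, 0, 6; 5, 1, 6, 0; 0, 3, 6, 0; 3, 0, 0, 1],
    !![0, 5, 1, 5; 2, 0, 2, 1; 0, 5, 1, 2; 2, 0, 5, 1],
    !![1, 5, 6, 6; 2, 1, 1, 6; 5, 6, 2, 0; 1, 5, 0, 2],
    !![0, 4, 1, 1; 4, 0, 1, 6; 6, 6, 0, 4; 6, 1, 4, 0],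
    !![1, 2, 4, 6; 2, 6, 6, 3; 6, 2, 5, 1; 2, 1, 1, 2],
    !![5, 2, 5, 5; 2, 2, 5, 2; 6, 6, 2, 6; 6, 1, 6, 5],
    !![6, 5, 2, 2; 2, 6, 5, 2; 3, 2, 1, 2; 5, 3, 5, 1],
    !![1, 2, 6, 2; 5, 1, 5, 6; 0, 2, 0, 5; 5, 0, 2, 0],
    !![5, 0, 5, 0; 0, 5, 0, 5; 6, 0, 2, 0; 0, 6, 0, 2],
    !![2, 1, 5, 4; 1, 5, 4, 2; 5, 1, 6, 0; 1, 2, 0, 1],
    !![2, 6, 5, 3; 1, 2, 4, 5; 2, 1, 1, 6; 6, 2, 1, 1],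
    !![5, 4, 4, 6; 4, 2, 6, 3; 0, 0, 2, 3; 0, 0, 3, 5],
    !![2, 6, 6, 3; 6, 5, 3, 1; 4, 0, 6, 3; 0, 3, 3, 1],
    !![4, 2, 5, 5; 2, 3, 5, 2; 6, 3, 1, 6; 3, 1, 6, 6],
    !![0, 0, 1, 0; 0, 0, 0, 1; 6, 0, 0, 0; 0, 6, 0, 0],
    !![2, 6, 2, 1; 1, 2, 6, 2; 5, 3, 1, 6; 4, 5, 1, 1],
    !![4, 6, 1, 1; 6, 3, 1, 6; 0, 4, 4, 6; 4, 0, 6, 3],
    !![0, 1, 0, 0; 6, 0, 0, 0; 3, 5, 0, 6; 2, 3, 1, 0],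
    !![3, 2, 6, 6; 5, 3, 1, 6; 6, 6, 0, 3; 1, 6, 4, 0]]

/-- Part 6 of `s5Elt`. -/
def s5EltPart6 : Fin 30 → Matrix (Fin 4) (Fin 4) (ZMod 7) := ![
    !![3, 2, 1, 2; 5, 3, 5, 1; 1, 2, 5, 5; 5, 1, 2, 5],
    !![0, 2, 0, 1; 5, 0, 6, 0; 6, 1, 3, 0; 6, 6, 0, 3],
    !![0, 3, 3, 2; 3, 0, 2, 4; 4, 0, 1, 6; 0, 3, 6, 6],
    !![3, 1, 3, 1; 1, 4, 1, 4; 3, 1, 4, 6; 1, 4, 6, 3],
    !![6, 1, 2, 1; 6, 6, 6, 2; 5, 3, 5, 1; 4, 5, 6, 5],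
    !![6, 5, 3, 2; 2, 6, 5, 3; 2, 2, 1, 2; 5, 2, 5, 1],
    !![0, 4, 6, 6; 3, 0, 1, 6; 6, 6, 4, 5; 1, 6, 2, 4],
    !![2, 2, 1, 2; 5, 2, 5, 1; 1, 2, 4, 5; 5, 1, 2, 4],
    !![0, 1, 3, 5; 6, 0, 2, 3; 0, 0, 0, 6; 0, 0, 1, 0],
    !![0, 3, 3, 1; 3, 0, 1, 4; 4, 6, 1, 1; 6, 3, 1, 6],
    !![5, 4, 2, 5; 4, 2, 5, 5; 2, 1, 1, 2; 1, 5, 2, 6],
    !![0, 0, 0, 6; 0, 0, 1, 0; 0, 6, 4, 2; 1, 0, 5, 4],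
    !![6, 5, 1, 5; 2, 6, 2, 1; 0, 5, 0, 2; 2, 0, 5, 0],
    !![2, 4, 6, 1; 3, 2, 6, 6; 2, 6, 2, 1; 1, 2, 6, 2],
    !![1, 6, 3, 0; 6, 6, 0, 4; 4, 5, 0, 3; 5, 3, 3, 0],
    !![4, 0, 0, 1; 0, 4, 6, 0; 6, 1, 0, 5; 6, 6, 2, 0],
    !![2, 4, 2, 6; 3, 2, 1, 2; 6, 1, 2, 1; 6, 6, 6, 2],
    !![2, 6, 1, 0; 6, 5, 0, 6; 2, 1, 5, 4; 1, 5, 4, 2],
    !![6, 5, 0, 5; 2, 6, 2, 0; 1, 5, 0, 2; 2, 1, 5, 0],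
    !![5, 2, 5, 4; 2, 2, 4, 2; 6, 5, 2, 1; 5, 1, 1, 5],
    !![0, 4, 1, 0; 4, 0, 0, 6; 6, 5, 0, 6; 5, 1, 6, 0],
    !![6, 6, 4, 6; 6, 1, 6, 3; 3, 1, 0, 4; 1, 4, 4, 0],
    !![4, 0, 6, 1; 0, 4, 6, 6; 0, 1, 0, 5; 6, 0, 2, 0],
    !![2, 1, 1, 6; 6, 2, 1, 1; 5, 1, 2, 4; 6, 5, 3, 2],
    !![0, 6, 3, 0; 6, 0, 0, 4; 4, 2, 6, 3; 2, 3, 3, 1],
    !![1, 4, 6, 3; 4, 6, 3, 1; 1, 6, 1, 2; 6, 6, 2, 6],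
    !![6, 1, 5, 3; 6, 6, 4, 5; 2, 1, 5, 1; 6, 2, 6, 5],
    !![0, 2, 6, 2; 5, 0, 5, 6; 0, 2, 6, 5; 5, 0, 2, 6],
    !![5, 4, 0, 0; 4, 2, 0, 0; 4, 6, 2, 3; 6, 3, 3, 5],
    !![1, 0, 5, 1; 0, 6, 1, 2; 5, 4, 5, 6; 4, 2, 6, 2]]

/-- Part 7 of `s5Elt`. -/
def s5EltPart7 : Fin 30 → Matrix (Fin 4) (Fin 4) (ZMod 7) := ![
    !![5, 1, 5, 0; 6, 5, 0, 5; 2, 5, 2, 6; 2, 2, 1, 2],
    !![5, 5, 3, 5; 5, 2, 5, 4; 1, 6, 1, 4; 6, 6, 4, 6],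
    !![3, 0, 2, 4; 0, 4, 4, 5; 1, 6, 6, 6; 6, 6, 6, 1],
    !![2, 6, 6, 2; 6, 5, 2, 1; 4, 6, 6, 5; 6, 3, 5, 1],
    !![5, 1, 2, 4; 6, 5, 3, 2; 5, 6, 6, 1; 1, 5, 6, 6],
    !![1, 4, 4, 0; 4, 6, 0, 3; 6, 3, 5, 1; 3, 1, 1, 2],
    !![5, 0, 5, 6; 0, 5, 1, 5; 6, 6, 6, 2; 1, 6, 5, 6],
    !![1, 1, 0, 3; 1, 6, 3, 0; 0, 4, 1, 1; 4, 0, 1, 6],
    !![3, 2, 0, 4; 2, 4, 4, 0; 1, 6, 3, 0; 6, 6, 0, 4],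
    !![3, 1, 4, 6; 1, 4, 6, 3; 4, 6, 4, 6; 6, 3, 6, 3],
    !![1, 0, 5, 4; 0, 1, 3, 5; 5, 4, 3, 5; 3, 5, 2, 3],
    !![0, 0, 3, 5; 0, 0, 5, 4; 4, 2, 6, 2; 2, 3, 2, 1],
    !![1, 2, 0, 1; 2, 6, 1, 0; 0, 4, 1, 0; 4, 0, 0, 6],
    !![3, 0, 0, 1; 0, 4, 1, 0; 6, 3, 3, 5; 3, 1, 5, 4],
    !![1, 1, 3, 1; 1, 6, 1, 4; 4, 6, 0, 3; 6, 3, 3, 0],
    !![2, 5, 2, 6; 2, 2, 1, 2; 2, 6, 2, 0; 1, 2, 0, 2],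
    !![2, 6, 1, 1; 6, 5, 1, 6; 2, 2, 5, 2; 2, 5, 2, 2],
    !![1, 6, 1, 4; 6, 6, 4, 6; 2, 2, 4, 2; 2, 5, 2, 3],
    !![6, 6, 4, 5; 1, 6, 2, 4; 0, 3, 1, 1; 4, 0, 6, 1],
    !![2, 0, 5, 1; 0, 2, 6, 5; 5, 1, 2, 5; 6, 5, 2, 2],
    !![4, 2, 6, 3; 2, 3, 3, 1; 0, 1, 4, 0; 1, 0, 0, 3],
    !![6, 2, 1, 1; 5, 6, 6, 1; 2, 1, 5, 0; 6, 2, 0, 5],
    !![5, 0, 6, 0; 0, 5, 0, 6; 5, 0, 2, 0; 0, 5, 0, 2],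
    !![1, 0, 0, 4; 0, 1, 3, 0; 0, 4, 6, 0; 3, 0, 0, 6],
    !![5, 0, 6, 6; 0, 5, 1, 6; 5, 6, 6, 2; 1, 5, 5, 6],
    !![5, 1, 5, 6; 6, 5, 1, 5; 2, 4, 6, 1; 3, 2, 6, 6],
    !![6, 2, 6, 5; 5, 6, 2, 6; 0, 5, 0, 5; 2, 0, 2, 0],
    !![0, 6, 4, 0; 1, 0, 0, 4; 0, 2, 6, 1; 5, 0, 6, 6],
    !![5, 6, 6, 5; 6, 2, 5, 1; 5, 4, 2, 5; 4, 2, 5, 5],
    !![3, 5, 2, 3; 2, 3, 4, 2; 2, 3, 1, 0; 4, 2, 0, 1]]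

/-- The elements. -/
def s5Elt (k : Fin 240) : Matrix (Fin 4) (Fin 4) (ZMod 7) :=
  (![s5EltPart0, s5EltPart1, s5EltPart2, s5EltPart3, s5EltPart4, s5EltPart5, s5EltPart6, s5EltPart7] : Fin 8 → Fin 30 → Matrix (Fin 4) (Fin 4) (ZMod 7))
    ⟨k.1 / 30, by omega⟩ ⟨k.1 % 30, by omega⟩

/-- Part 0 of `s5MulA`. -/
def s5MulAPart0 : Fin 30 → Fin 240 := ![
    1, 3, 5, 7, 9, 11, 13, 14, 16, 18, 20, 21, 23, 25, 27, 28, 30, 32, 33, 35, 37, 17, 40, 42, 44, 45, 47, 49, 50, 52]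

/-- Part 1 of `s5MulA`. -/
def s5MulAPart1 : Fin 30 → Fin 240 := ![
    53, 55, 57, 29, 60, 62, 64, 65, 67, 68, 70, 72, 73, 75, 58, 41, 78, 79, 38, 81, 82, 84, 86, 46, 89, 91, 93, 94, 96, 97]

/-- Part 2 of `s5MulA`. -/
def s5MulAPart2 : Fin 30 → Fin 240 := ![
    99, 101, 102, 43, 87, 61, 106, 107, 109, 111, 112, 114, 95, 69, 117, 119, 108, 121, 123, 125, 127, 128, 66, 129, 131, 133, 134, 136, 137, 6]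

/-- Part 3 of `s5MulA`. -/
def s5MulAPart3 : Fin 30 → Fin 240 := ![
    140, 141, 63, 124, 90, 145, 118, 147, 149, 150, 152, 135, 98, 155, 146, 157, 159, 161, 163, 36, 165, 144, 8, 151, 142, 168, 148, 170, 171, 172]

/-- Part 4 of `s5MulA`. -/
def s5MulAPart4 : Fin 30 → Fin 240 := ![
    80, 174, 176, 177, 179, 122, 180, 181, 183, 10, 185, 120, 92, 160, 130, 188, 156, 190, 192, 193, 178, 138, 196, 189, 198, 167, 201, 56, 202, 187]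

/-- Part 5 of `s5MulA`. -/
def s5MulAPart5 : Fin 30 → Fin 240 := ![
    15, 0, 186, 205, 191, 206, 74, 207, 209, 210, 71, 158, 212, 213, 214, 216, 59, 218, 31, 219, 220, 199, 169, 162, 76, 132, 200, 22, 221, 197]

/-- Part 6 of `s5MulA`. -/
def s5MulAPart6 : Fin 30 → Fin 240 := ![
    194, 154, 19, 113, 164, 211, 226, 227, 204, 229, 85, 230, 223, 222, 231, 126, 217, 103, 215, 233, 100, 234, 115, 88, 236, 51, 166, 104, 175, 228]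

/-- Part 7 of `s5MulA`. -/
def s5MulAPart7 : Fin 30 → Fin 240 := ![
    34, 237, 225, 195, 24, 143, 182, 203, 54, 232, 39, 2, 239, 116, 105, 224, 235, 110, 139, 12, 153, 77, 208, 238, 173, 26, 83, 4, 184, 48]

/-- Index of `g * twoS5A`. -/
def s5MulA (k : Fin 240) : Fin 240 :=
  (![s5MulAPart0, s5MulAPart1, s5MulAPart2, s5MulAPart3, s5MulAPart4, s5MulAPart5, s5MulAPart6, s5MulAPart7] : Fin 8 → Fin 30 → Fin 240)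
    ⟨k.1 / 30, by omega⟩ ⟨k.1 % 30, by omega⟩

/-- Part 0 of `s5MulB`. -/
def s5MulBPart0 : Fin 30 → Fin 240 := ![
    2, 4, 6, 8, 10, 12, 0, 15, 17, 19, 1, 22, 24, 26, 25, 29, 31, 3, 34, 36, 38, 39, 41, 43, 5, 46, 48, 37, 51, 7]

/-- Part 1 of `s5MulB`. -/
def s5MulBPart1 : Fin 30 → Fin 240 := ![
    54, 56, 58, 59, 61, 63, 9, 66, 44, 69, 71, 11, 74, 76, 20, 77, 14, 80, 13, 57, 83, 85, 87, 88, 90, 92, 16, 95, 64, 98]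

/-- Part 2 of `s5MulB`. -/
def s5MulBPart2 : Fin 30 → Fin 240 := ![
    100, 18, 103, 104, 32, 105, 27, 108, 110, 21, 113, 115, 67, 116, 118, 120, 23, 122, 124, 126, 82, 86, 47, 130, 132, 28, 135, 93, 138, 139]

/-- Part 3 of `s5MulB`. -/
def s5MulBPart3 : Fin 30 → Fin 240 := ![
    30, 142, 143, 52, 144, 49, 146, 148, 33, 151, 153, 96, 154, 156, 35, 158, 160, 162, 72, 164, 147, 163, 166, 167, 131, 40, 169, 134, 42, 141]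

/-- Part 4 of `s5MulB`. -/
def s5MulBPart4 : Fin 30 → Fin 240 := ![
    173, 175, 45, 178, 133, 137, 161, 182, 123, 184, 50, 186, 165, 78, 187, 81, 189, 191, 53, 194, 136, 195, 197, 55, 199, 200, 101, 68, 190, 201]

/-- Part 5 of `s5MulB`. -/
def s5MulBPart5 : Fin 30 → Fin 240 := ![
    203, 204, 174, 60, 172, 177, 62, 208, 65, 211, 176, 79, 171, 168, 215, 84, 217, 70, 111, 73, 221, 107, 102, 75, 222, 202, 106, 223, 128, 216]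

/-- Part 6 of `s5MulB`. -/
def s5MulBPart6 : Fin 30 → Fin 240 := ![
    198, 196, 224, 159, 225, 179, 114, 117, 228, 140, 97, 125, 229, 207, 89, 119, 210, 91, 232, 94, 209, 205, 121, 235, 99, 149, 237, 214, 230, 145]

/-- Part 7 of `s5MulB`. -/
def s5MulBPart7 : Fin 30 → Fin 240 := ![
    181, 183, 227, 226, 193, 109, 185, 112, 213, 212, 206, 238, 152, 155, 127, 129, 218, 219, 233, 231, 157, 192, 180, 188, 239, 150, 234, 220, 170, 236]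

/-- Index of `g * twoS5B`. -/
def s5MulB (k : Fin 240) : Fin 240 :=
  (![s5MulBPart0, s5MulBPart1, s5MulBPart2, s5MulBPart3, s5MulBPart4, s5MulBPart5, s5MulBPart6, s5MulBPart7] : Fin 8 → Fin 30 → Fin 240)
    ⟨k.1 / 30, by omega⟩ ⟨k.1 % 30, by omega⟩

/-- Part 0 of `s5Sq`. -/
def s5SqPart0 : Fin 30 → Fin 240 := ![
    0, 3, 6, 14, 19, 23, 2, 49, 54, 60, 44, 70, 20, 38, 128, 47, 137, 49, 147, 76, 49, 36, 49, 80, 41, 49, 46, 113, 49, 117]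

/-- Part 1 of `s5Sq`. -/
def s5SqPart1 : Fin 30 → Fin 240 := ![
    49, 210, 233, 49, 114, 22, 49, 228, 49, 232, 103, 8, 185, 49, 49, 100, 11, 49, 82, 0, 114, 171, 129, 103, 8, 158, 106, 6, 134, 111]

/-- Part 2 of `s5Sq`. -/
def s5SqPart2 : Fin 30 → Fin 240 := ![
    9, 162, 176, 49, 123, 150, 153, 90, 105, 49, 11, 52, 180, 160, 65, 49, 187, 49, 168, 101, 198, 3, 9, 162, 49, 163, 19, 116, 52, 180]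

/-- Part 3 of `s5Sq`. -/
def s5SqPart3 : Fin 30 → Fin 240 := ![
    70, 49, 49, 181, 23, 2, 110, 57, 107, 153, 49, 237, 49, 49, 178, 85, 236, 143, 188, 65, 176, 125, 168, 128, 49, 33, 158, 49, 175, 49]

/-- Part 4 of `s5Sq`. -/
def s5SqPart4 : Fin 30 → Fin 240 := ![
    30, 93, 43, 54, 169, 146, 28, 167, 14, 237, 147, 87, 49, 119, 60, 44, 232, 49, 33, 90, 36, 96, 95, 160, 20, 38, 179, 49, 49, 17]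

/-- Part 5 of `s5Sq`. -/
def s5SqPart5 : Fin 30 → Fin 240 := ![
    236, 113, 101, 198, 49, 106, 105, 25, 131, 47, 98, 92, 192, 156, 175, 49, 169, 49, 207, 49, 123, 121, 49, 25, 28, 49, 141, 137, 49, 111]

/-- Part 6 of `s5Sq`. -/
def s5SqPart6 : Fin 30 → Fin 240 := ![
    187, 171, 17, 49, 110, 49, 146, 76, 49, 49, 95, 87, 207, 143, 188, 93, 163, 57, 80, 41, 46, 49, 96, 98, 228, 167, 181, 192, 49, 82]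

/-- Part 7 of `s5Sq`. -/
def s5SqPart7 : Fin 30 → Fin 240 := ![
    49, 117, 178, 49, 121, 185, 107, 119, 100, 49, 116, 233, 92, 210, 49, 179, 43, 22, 49, 125, 30, 156, 49, 49, 85, 141, 150, 129, 134, 131]

/-- Index of `g ^ 2`. -/
def s5Sq (k : Fin 240) : Fin 240 :=
  (![s5SqPart0, s5SqPart1, s5SqPart2, s5SqPart3, s5SqPart4, s5SqPart5, s5SqPart6, s5SqPart7] : Fin 8 → Fin 30 → Fin 240)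
    ⟨k.1 / 30, by omega⟩ ⟨k.1 % 30, by omega⟩

/-- Part 0 of `s5Cube`. -/
def s5CubePart0 : Fin 30 → Fin 240 := ![
    0, 7, 0, 49, 63, 75, 0, 183, 0, 0, 32, 0, 108, 37, 0, 45, 50, 178, 53, 49, 188, 29, 30, 49, 69, 167, 77, 7, 210, 21]

/-- Part 1 of `s5Cube`. -/
def s5CubePart1 : Fin 30 → Fin 240 := ![
    22, 174, 10, 185, 177, 120, 117, 13, 228, 122, 130, 49, 138, 232, 233, 15, 49, 100, 224, 49, 16, 206, 49, 18, 0, 220, 102, 49, 224, 225]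

/-- Part 2 of `s5Cube`. -/
def s5CubePart2 : Fin 30 → Fin 240 := ![
    0, 132, 184, 219, 69, 49, 75, 77, 231, 189, 0, 154, 63, 193, 165, 208, 0, 213, 172, 84, 0, 183, 49, 172, 154, 105, 219, 131, 84, 219]

/-- Part 3 of `s5Cube`. -/
def s5CubePart3 : Fin 30 → Fin 240 := ![
    49, 148, 169, 121, 208, 49, 141, 91, 160, 208, 47, 49, 165, 147, 182, 156, 49, 98, 12, 102, 96, 179, 132, 49, 137, 215, 87, 36, 217, 175]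

/-- Part 4 of `s5Cube`. -/
def s5CubePart4 : Fin 30 → Fin 240 := ![
    35, 171, 39, 49, 222, 111, 223, 173, 0, 0, 40, 158, 172, 164, 49, 221, 226, 114, 42, 213, 211, 176, 148, 107, 194, 204, 125, 103, 91, 212]

/-- Part 5 of `s5Cube`. -/
def s5CubePart5 : Fin 30 → Fin 240 := ![
    0, 183, 154, 49, 84, 165, 163, 205, 116, 218, 143, 166, 49, 85, 133, 102, 161, 25, 49, 92, 189, 181, 132, 127, 31, 119, 110, 34, 17, 146]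

/-- Part 6 of `s5Cube`. -/
def s5CubePart6 : Fin 30 → Fin 240 := ![
    49, 93, 104, 7, 202, 33, 229, 0, 20, 69, 91, 239, 0, 216, 144, 214, 234, 148, 0, 189, 213, 224, 235, 73, 145, 157, 195, 0, 75, 201]

/-- Part 7 of `s5Cube`. -/
def s5CubePart7 : Fin 30 → Fin 240 := ![
    28, 140, 149, 77, 51, 115, 203, 118, 159, 63, 191, 135, 124, 126, 201, 186, 136, 230, 38, 59, 227, 196, 43, 44, 68, 62, 0, 0, 201, 55]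

/-- Index of `g ^ 3`. -/
def s5Cube (k : Fin 240) : Fin 240 :=
  (![s5CubePart0, s5CubePart1, s5CubePart2, s5CubePart3, s5CubePart4, s5CubePart5, s5CubePart6, s5CubePart7] : Fin 8 → Fin 30 → Fin 240)
    ⟨k.1 / 30, by omega⟩ ⟨k.1 % 30, by omega⟩

/-- Part 0 of `s5Five`. -/
def s5FivePart0 : Fin 30 → Fin 240 := ![
    0, 27, 6, 113, 72, 66, 2, 7, 54, 60, 135, 70, 144, 145, 128, 159, 177, 17, 130, 180, 20, 140, 22, 153, 64, 25, 67, 1, 28, 211]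

/-- Part 1 of `s5Five`. -/
def s5FivePart1 : Fin 30 → Fin 240 := ![
    30, 223, 221, 33, 50, 227, 36, 204, 38, 136, 53, 123, 215, 43, 44, 218, 90, 47, 58, 49, 34, 49, 101, 40, 8, 49, 109, 95, 48, 49]

/-- Part 2 of `s5Five`. -/
def s5FivePart2 : Fin 30 → Fin 240 := ![
    9, 112, 49, 63, 24, 106, 5, 26, 49, 69, 11, 152, 4, 49, 155, 75, 187, 77, 83, 88, 198, 151, 134, 78, 84, 0, 89, 0, 79, 86]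

/-- Part 3 of `s5Five`. -/
def s5FivePart3 : Fin 30 → Fin 240 := ![
    46, 91, 92, 0, 99, 57, 0, 190, 0, 94, 100, 52, 102, 103, 212, 0, 65, 0, 194, 56, 0, 0, 61, 3, 114, 138, 0, 117, 164, 119]

/-- Part 4 of `s5Five`. -/
def s5FivePart4 : Fin 30 → Fin 240 := ![
    230, 0, 226, 41, 166, 0, 174, 205, 14, 237, 18, 0, 132, 217, 82, 10, 39, 137, 115, 200, 21, 0, 197, 0, 12, 13, 0, 147, 148, 182]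

/-- Part 5 of `s5Five`. -/
def s5FivePart5 : Fin 30 → Fin 240 := ![
    236, 81, 71, 23, 154, 74, 0, 173, 0, 15, 0, 222, 168, 0, 118, 165, 124, 167, 162, 169, 199, 0, 172, 157, 126, 175, 0, 16, 178, 0]

/-- Part 6 of `s5Five`. -/
def s5FivePart6 : Fin 30 → Fin 240 := ![
    19, 0, 149, 183, 49, 185, 49, 76, 188, 189, 97, 49, 207, 49, 108, 49, 49, 142, 80, 170, 139, 201, 49, 49, 37, 127, 49, 192, 208, 238]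

/-- Part 7 of `s5Five`. -/
def s5FivePart7 : Fin 30 → Fin 240 := ![
    210, 29, 104, 213, 49, 42, 49, 133, 45, 219, 49, 32, 161, 31, 224, 49, 122, 35, 228, 49, 120, 49, 232, 233, 49, 49, 150, 129, 209, 49]

/-- Index of `g ^ 5`. -/
def s5Five (k : Fin 240) : Fin 240 :=
  (![s5FivePart0, s5FivePart1, s5FivePart2, s5FivePart3, s5FivePart4, s5FivePart5, s5FivePart6, s5FivePart7] : Fin 8 → Fin 30 → Fin 240)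
    ⟨k.1 / 30, by omega⟩ ⟨k.1 % 30, by omega⟩

/-- `2.S₅`. -/
def twoS5 : Subgroup (GL (Fin 4) (ZMod 7)) := Subgroup.closure {twoS5A, twoS5B}

theorem s5Elt_zero : s5Elt 0 = 1 := by
  decide +kernel

theorem s5Elt_neg : s5Elt 49 = -1 := by
  decide +kernel

theorem s5Elt_mulA : ∀ k, s5Elt k * (twoS5A : Matrix (Fin 4) (Fin 4) (ZMod 7)) = s5Elt (s5MulA k) := by
  decide +kernel

theorem s5Elt_mulB : ∀ k, s5Elt k * (twoS5B : Matrix (Fin 4) (Fin 4) (ZMod 7)) = s5Elt (s5MulB k) := by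
  decide +kernel

theorem s5Elt_sq : ∀ k, s5Elt k * s5Elt k = s5Elt (s5Sq k) := by
  decide +kernel

theorem s5Elt_cube : ∀ k, s5Elt (s5Sq k) * s5Elt k = s5Elt (s5Cube k) := by
  decide +kernel

theorem s5Elt_five : ∀ k, s5Elt (s5Sq (s5Sq k)) * s5Elt k = s5Elt (s5Five k) := by
  decide +kernel

theorem s5_classify : ∀ k : Fin 240, k = 0 ∨ s5Cube k = 0 ∨ s5Five k = 0 ∨ k = 49 ∨ s5Sq k = 49 ∨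
    s5Cube k = 49 ∨ s5Sq (s5Sq k) = 49 ∨ s5Five k = 49 ∨ s5Sq (s5Cube k) = 49 := by
  decide +kernel

theorem s5_sum_three : ∀ k : Fin 240, s5Cube k ≠ 0 ∨ k = 0 ∨ 1 + s5Elt k + s5Elt (s5Sq k) = 0 := by
  decide +kernel

theorem s5_sum_five : ∀ k : Fin 240, s5Five k ≠ 0 ∨ k = 0 ∨
    1 + s5Elt k + s5Elt (s5Sq k) + s5Elt (s5Cube k) + s5Elt (s5Sq (s5Sq k)) = 0 := by
  decide +kernel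

theorem twoS5_mem {g : GL (Fin 4) (ZMod 7)} (hg : g ∈ twoS5) : ∃ k, (g : Matrix (Fin 4) (Fin 4) (ZMod 7)) = s5Elt k := by
  have hg' : g ∈ Submonoid.closure ({twoS5A, twoS5B} : Set (GL (Fin 4) (ZMod 7))) := by
    rw [← Subgroup.closure_toSubmonoid_of_finite]; exact hg
  induction hg' using Submonoid.closure_induction_right with
  | one => exact ⟨0, s5Elt_zero.symm⟩
  | mul_right x hx y hy ih =>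
    have hx' : x ∈ twoS5 := by
      have := hx; rw [← Subgroup.closure_toSubmonoid_of_finite] at this; exact this
    obtain ⟨k, hk⟩ := ih hx'
    rcases hy with rfl | rfl
    · exact ⟨s5MulA k, by rw [Units.val_mul, hk, s5Elt_mulA]⟩
    · exact ⟨s5MulB k, by rw [Units.val_mul, hk, s5Elt_mulB]⟩

theorem twoS5_pow (k : Fin 240) : s5Elt k ^ 2 = s5Elt (s5Sq k) ∧ s5Elt k ^ 3 = s5Elt (s5Cube k) ∧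
    s5Elt k ^ 4 = s5Elt (s5Sq (s5Sq k)) ∧ s5Elt k ^ 5 = s5Elt (s5Five k) ∧
    s5Elt k ^ 6 = s5Elt (s5Sq (s5Cube k)) := by
  have h2 : s5Elt k ^ 2 = s5Elt (s5Sq k) := by rw [pow_two, s5Elt_sq]
  have h3 : s5Elt k ^ 3 = s5Elt (s5Cube k) := by rw [pow_succ, h2, s5Elt_cube]
  have h4 : s5Elt k ^ 4 = s5Elt (s5Sq (s5Sq k)) := by
    rw [← s5Elt_sq, ← h2, ← pow_add]
  have h5 : s5Elt k ^ 5 = s5Elt (s5Five k) := by rw [pow_succ, h4, s5Elt_five]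
  have h6 : s5Elt k ^ 6 = s5Elt (s5Sq (s5Cube k)) := by
    rw [← s5Elt_sq, ← h3, ← pow_add]
  exact ⟨h2, h3, h4, h5, h6⟩

/-- Every element is trivial, of order dividing `3` or `5` with zero norm, or has a power equal to `-1`. -/
theorem twoS5_cases {g : GL (Fin 4) (ZMod 7)} (hg : g ∈ twoS5) :
    g = 1 ∨
    ((g : Matrix (Fin 4) (Fin 4) (ZMod 7)) ^ 3 = 1 ∧ ∑ i ∈ Finset.range 3, (g : Matrix (Fin 4) (Fin 4) (ZMod 7)) ^ i = 0) ∨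
    ((g : Matrix (Fin 4) (Fin 4) (ZMod 7)) ^ 5 = 1 ∧ ∑ i ∈ Finset.range 5, (g : Matrix (Fin 4) (Fin 4) (ZMod 7)) ^ i = 0) ∨
    ∃ m, (m = 1 ∨ m = 2 ∨ m = 3 ∨ m = 4 ∨ m = 5 ∨ m = 6) ∧ (g : Matrix (Fin 4) (Fin 4) (ZMod 7)) ^ m = -1 := by
  obtain ⟨k, hk⟩ := twoS5_mem hg
  obtain ⟨h2, h3, h4, h5, h6⟩ := twoS5_pow k
  rw [← s5Elt_neg, hk]
  rcases s5_classify k with rfl | h | h | h | h | h | h | h | h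
  · exact Or.inl (Units.ext (by rw [hk, s5Elt_zero]; rfl))
  · rcases s5_sum_three k with h' | rfl | h'
    · exact absurd h h'
    · exact Or.inl (Units.ext (by rw [hk, s5Elt_zero]; rfl))
    · refine Or.inr (Or.inl ⟨by rw [h3, h, s5Elt_zero], ?_⟩)
      simp only [Finset.sum_range_succ, Finset.sum_range_zero, zero_add, pow_zero, pow_one, h2]
      exact h'
  · rcases s5_sum_five k with h' | rfl | h'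
    · exact absurd h h'
    · exact Or.inl (Units.ext (by rw [hk, s5Elt_zero]; rfl))
    · refine Or.inr (Or.inr (Or.inl ⟨by rw [h5, h, s5Elt_zero], ?_⟩))
      simp only [Finset.sum_range_succ, Finset.sum_range_zero, zero_add, pow_zero, pow_one, h2, h3, h4]
      exact h'
  · exact Or.inr (Or.inr (Or.inr ⟨1, by simp, by rw [pow_one, h]⟩))
  · exact Or.inr (Or.inr (Or.inr ⟨2, by simp, by rw [h2, h]⟩))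
  · exact Or.inr (Or.inr (Or.inr ⟨3, by simp, by rw [h3, h]⟩))
  · exact Or.inr (Or.inr (Or.inr ⟨4, by simp, by rw [h4, h]⟩))
  · exact Or.inr (Or.inr (Or.inr ⟨5, by simp, by rw [h5, h]⟩))
  · exact Or.inr (Or.inr (Or.inr ⟨6, by simp, by rw [h6, h]⟩))

end Cfsg.Agent.SmallOrder
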