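import Cfsg.Agent.SmallOrder.ExtPrimitive

/-!
Manning's theorem: in an extremely primitive group a point stabilizer is faithful on each of its
non-trivial orbits.
-/

namespace Cfsg.Agent.SmallOrder

open scoped Pointwise

variable {G : Type*} [Group G] {Ω : Type*} [MulAction G Ω]

/-- The size of the suborbit of `b` relative to `a`. -/
noncomputable def suborbitCard (G : Type*) [Group G] {Ω : Type*} [MulAction G Ω] (a b : Ω) : ℕ :=
  Nat.card (MulAction.orbit (MulAction.stabilizer G a) b)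

theorem suborbitCard_smul (g : G) (a b : Ω) : suborbitCard G (g • a) (g • b) = suborbitCard G a b := by
  refine (Nat.card_congr (Equiv.subtypeEquiv (MulAction.toPerm g) fun ω => ?_)).symm
  show ω ∈ MulAction.orbit _ b ↔ g • ω ∈ MulAction.orbit _ (g • b)
  constructor
  · rintro ⟨⟨x, hx⟩, rfl⟩
    refine ⟨⟨g * x * g⁻¹, ?_⟩, ?_⟩
    · show (g * x * g⁻¹) • g • a = g • a
      rw [mul_smul, mul_smul, inv_smul_smul, show x • a = a from hx]
    · show (g * x * g⁻¹) • g • b = g • x • b
      rw [mul_smul, mul_smul, inv_smul_smul]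
  · rintro ⟨⟨x, hx⟩, hω⟩
    have hω' : x • g • b = g • ω := hω
    refine ⟨⟨g⁻¹ * x * g, ?_⟩, ?_⟩
    · show (g⁻¹ * x * g) • a = a
      rw [mul_smul, mul_smul, show x • g • a = g • a from hx, inv_smul_smul]
    · show (g⁻¹ * x * g) • b = ω
      rw [mul_smul, mul_smul, hω', inv_smul_smul]

theorem suborbitCard_comm [Finite G] [MulAction.IsPretransitive G Ω] (a b : Ω) :
    suborbitCard G a b = suborbitCard G b a := by
  have h : ∀ a b : Ω, suborbitCard G a b * Nat.card (MulAction.stabilizer G a ⊓ MulAction.stabilizer G b : Subgroup G)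
      = Nat.card (MulAction.stabilizer G a) := by
    intro a b
    have e : (MulAction.stabilizer G b).subgroupOf (MulAction.stabilizer G a)
        = MulAction.stabilizer (MulAction.stabilizer G a) b := by
      ext ⟨x, hx⟩; rfl
    rw [suborbitCard, Nat.card_congr (MulAction.orbitEquivQuotientStabilizer _ b), ← e, ← Subgroup.index,
      ← Subgroup.relIndex, ← Subgroup.inf_relIndex_left, mul_comm, ← Subgroup.relIndex_bot_left,
      Subgroup.relIndex_mul_relIndex _ _ _ bot_le inf_le_left, Subgroup.relIndex_bot_left]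
  have h1 := h a b
  have h2 := h b a
  obtain ⟨g, hg⟩ := MulAction.exists_smul_eq G a b
  rw [inf_comm, show Nat.card (MulAction.stabilizer G b) = Nat.card (MulAction.stabilizer G a) from
    (Nat.card_congr (MulAction.stabilizerEquivStabilizerOfOrbitRel
      (⟨g⁻¹, inv_smul_eq_iff.mpr hg.symm⟩ : (MulAction.orbitRel G Ω) a b)).toEquiv).symm, ← h1] at h2
  exact (Nat.eq_of_mul_eq_mul_right Nat.card_pos h2).symm

theorem manning [Finite G] [Fintype Ω] [FaithfulSMul G Ω] (hprim : MulAction.IsPreprimitive G Ω)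
    (hH : ∀ α : Ω, MulAction.stabilizer G α ≠ ⊥)
    (hep : ∀ (α ω : Ω), MulAction.IsPreprimitive (MulAction.stabilizer G α) (MulAction.orbit (MulAction.stabilizer G α) ω))
    {α ω : Ω} (hω : ω ≠ α) {h : G} (hα : h ∈ MulAction.stabilizer G α)
    (hfix : ∀ x ∈ MulAction.orbit (MulAction.stabilizer G α) ω, h • x = x) : h = 1 := by
  classical
  have : Nontrivial Ω := nontrivial_of_ne ω α hω
  obtain ⟨γ₀, -, hmax⟩ := Finset.exists_max_image (Finset.univ : Finset (Ω × Ω))
    (fun q => suborbitCard G q.1 q.2) ⟨(α, α), Finset.mem_univ _⟩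
  set M := suborbitCard G γ₀.1 γ₀.2
  have hle : ∀ a b, suborbitCard G a b ≤ M := fun a b => hmax (a, b) (Finset.mem_univ _)
  -- two different stabilizers generate the group
  have hgen : ∀ {a b : Ω}, b ≠ a → ∀ S : Set Ω, (∀ x ∈ MulAction.stabilizer G a, ∀ y ∈ S, x • y ∈ S) →
      (∀ x ∈ MulAction.stabilizer G b, ∀ y ∈ S, x • y ∈ S) → S.Nonempty → S = Set.univ := by
    intro a b hba S h1 h2 hne
    have hiff : ∀ (c : Ω), (∀ x ∈ MulAction.stabilizer G c, ∀ y ∈ S, x • y ∈ S) →
        MulAction.stabilizer G c ≤ MulAction.stabilizer G S := by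
      intro c hc x hx
      refine MulAction.mem_stabilizer_iff.mpr (Set.Subset.antisymm ?_ ?_)
      · rintro _ ⟨y, hy, rfl⟩; exact hc x hx y hy
      · intro y hy
        exact ⟨x⁻¹ • y, hc x⁻¹ (Subgroup.inv_mem _ hx) y hy, smul_inv_smul x y⟩
    rcases (MulAction.IsPreprimitive.isCoatom_stabilizer_of_isPreprimitive G a).le_iff.mp (hiff a h1) with h | h
    · obtain ⟨y, hy⟩ := hne
      refine Set.eq_univ_of_forall fun z => ?_
      obtain ⟨g, rfl⟩ := MulAction.exists_smul_eq G y z
      have hg : g • S = S := MulAction.mem_stabilizer_iff.mp (h ▸ Subgroup.mem_top g)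
      exact hg ▸ Set.smul_mem_smul_set hy
    · exfalso
      obtain ⟨g, hg⟩ := MulAction.exists_smul_eq G a b
      refine stabilizer_ne_of_ne (hH a) hba (Subgroup.eq_of_le_of_card_ge (h ▸ hiff b h2) ?_)
      exact (Nat.card_congr (MulAction.stabilizerEquivStabilizerOfOrbitRel
        (⟨g⁻¹, inv_smul_eq_iff.mpr hg.symm⟩ : (MulAction.orbitRel G Ω) a b)).toEquiv).le
  -- a normal subgroup moving a point is transitive on its suborbit
  have htrans : ∀ (a x : Ω) (D : Subgroup G), D ≤ MulAction.stabilizer G a →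
      (MulAction.stabilizer G a ≤ Subgroup.normalizer (D : Set G)) → (∃ d ∈ D, d • x ≠ x) →
      ∀ y ∈ MulAction.orbit (MulAction.stabilizer G a) x, ∃ d ∈ D, d • x = y := by
    intro a x D hD hDn ⟨d, hd, hdx⟩ y hy
    let D' : Subgroup (MulAction.stabilizer G a) := D.subgroupOf _
    have : D'.Normal := Subgroup.normal_subgroupOf_iff_le_normalizer hD |>.mpr hDn
    have hB := MulAction.IsBlock.orbit_of_normal (G := MulAction.stabilizer G a) (N := D')
      (⟨x, MulAction.mem_orbit_self _⟩ : MulAction.orbit (MulAction.stabilizer G a) x)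
    rcases (hep a x).isTrivialBlock_of_isBlock hB with hs | hu
    · exfalso
      exact hdx (congrArg Subtype.val (hs (MulAction.mem_orbit
        (⟨x, MulAction.mem_orbit_self _⟩ : MulAction.orbit (MulAction.stabilizer G a) x)
        (⟨⟨d, hD hd⟩, hd⟩ : D')) (MulAction.mem_orbit_self _)))
    · obtain ⟨⟨⟨e, he⟩, heD⟩, hey⟩ : (⟨y, hy⟩ : MulAction.orbit (MulAction.stabilizer G a) x) ∈
          MulAction.orbit D' (⟨x, MulAction.mem_orbit_self _⟩ : MulAction.orbit (MulAction.stabilizer G a) x) :=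
        hu ▸ Set.mem_univ _
      exact ⟨e, heD, congrArg Subtype.val hey⟩
  -- a moved orbit is properly contained in an orbit of another stabilizer
  have hgrow : ∀ (a b x : Ω) (D : Subgroup G), b ≠ a → D ≤ MulAction.stabilizer G a → D ≤ MulAction.stabilizer G b →
      (MulAction.stabilizer G a ≤ Subgroup.normalizer (D : Set G)) → (∃ d ∈ D, d • x ≠ x) →
      MulAction.orbit (MulAction.stabilizer G a) x ⊆ MulAction.orbit (MulAction.stabilizer G b) x ∧
      suborbitCard G a x < suborbitCard G b x := by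
    intro a b x D hba hDa hDb hDn hmv
    have hsub : MulAction.orbit (MulAction.stabilizer G a) x ⊆ MulAction.orbit (MulAction.stabilizer G b) x := by
      intro y hy
      obtain ⟨d, hd, rfl⟩ := htrans a x D hDa hDn hmv y hy
      exact ⟨⟨d, hDb hd⟩, rfl⟩
    refine ⟨hsub, ?_⟩
    by_contra hlt
    push Not at hlt
    have hfin : (MulAction.orbit (MulAction.stabilizer G b) x).Finite := Set.toFinite _
    have heq := Set.eq_of_subset_of_ncard_le hsub hlt hfin
    have hu := hgen hba (MulAction.orbit (MulAction.stabilizer G a) x)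
      (fun g hg y hy => by
        obtain ⟨k, rfl⟩ := hy
        exact ⟨⟨g, hg⟩ * k, mul_smul _ _ _⟩)
      (fun g hg y hy => by
        rw [heq] at hy ⊢
        obtain ⟨k, rfl⟩ := hy
        exact ⟨⟨g, hg⟩ * k, mul_smul _ _ _⟩)
      ⟨x, MulAction.mem_orbit_self _⟩
    obtain ⟨⟨k, hk⟩, hka⟩ : a ∈ MulAction.orbit (MulAction.stabilizer G a) x := hu ▸ Set.mem_univ a
    obtain ⟨d, hd, hdx⟩ := hmv
    have hxa : x = a := by
      have h1 : k • x = a := hka
      rw [← inv_smul_eq_iff.mpr h1.symm, show k⁻¹ • a = a from Subgroup.inv_mem _ hk]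
    exact hdx (hxa ▸ hDa hd)
  -- the elements fixing all largest suborbits
  let K : Ω → Subgroup G := fun a =>
    { carrier := {g | g • a = a ∧ ∀ x, suborbitCard G a x = M → g • x = x}
      one_mem' := ⟨one_smul G a, fun x _ => one_smul G x⟩
      mul_mem' := fun {g k} hg hk => ⟨by rw [mul_smul, hk.1, hg.1], fun x hx => by rw [mul_smul, hk.2 x hx, hg.2 x hx]⟩
      inv_mem' := fun {g} hg => ⟨inv_smul_eq_iff.mpr hg.1.symm, fun x hx => inv_smul_eq_iff.mpr (hg.2 x hx).symm⟩ }
  have hKa : ∀ a, K a ≤ MulAction.stabilizer G a := fun a g hg => hg.1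
  have hKconj : ∀ (g : G) a, ∀ k ∈ K a, g * k * g⁻¹ ∈ K (g • a) := by
    intro g a k hk
    refine ⟨by rw [mul_smul, mul_smul, inv_smul_smul, hk.1], fun x hx => ?_⟩
    rw [mul_smul, mul_smul, hk.2 (g⁻¹ • x) (by rw [← suborbitCard_smul g, smul_inv_smul]; exact hx), smul_inv_smul]
  have hKn : ∀ a, MulAction.stabilizer G a ≤ Subgroup.normalizer (K a : Set G) := by
    intro a g hg
    have hg' : g • a = a := hg
    rw [Subgroup.mem_normalizer_iff]
    refine fun k => ⟨fun hk => ?_, fun hk => ?_⟩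
    · have := hKconj g a k hk
      rwa [hg'] at this
    · have := hKconj g⁻¹ a _ hk
      rw [show g⁻¹ • a = a from inv_smul_eq_iff.mpr hg'.symm] at this
      simpa [mul_assoc] using this
  -- kernels on suborbits lie in `K`
  have hker : ∀ a b : Ω, b ≠ a → ∀ k ∈ MulAction.stabilizer G a,
      (∀ y ∈ MulAction.orbit (MulAction.stabilizer G a) b, k • y = y) → k ∈ K a := by
    intro a b hba k hk hky
    refine ⟨hk, fun x hx => ?_⟩
    by_contra hmv
    let D : Subgroup G :=
      { carrier := {g | g • a = a ∧ ∀ y ∈ MulAction.orbit (MulAction.stabilizer G a) b, g • y = y}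
        one_mem' := ⟨one_smul G a, fun x _ => one_smul G x⟩
        mul_mem' := fun {g k} hg hk => ⟨by rw [mul_smul, hk.1, hg.1], fun x hx => by rw [mul_smul, hk.2 x hx, hg.2 x hx]⟩
        inv_mem' := fun {g} hg => ⟨inv_smul_eq_iff.mpr hg.1.symm, fun x hx => inv_smul_eq_iff.mpr (hg.2 x hx).symm⟩ }
    have hconj : ∀ g ∈ MulAction.stabilizer G a, ∀ d ∈ D, g * d * g⁻¹ ∈ D := by
      intro g hg d hd
      refine ⟨(MulAction.stabilizer G a).mul_mem ((MulAction.stabilizer G a).mul_mem hg hd.1) (Subgroup.inv_mem _ hg), ?_⟩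
      rintro _ ⟨z, rfl⟩
      have hz : g⁻¹ • (z : G) • b ∈ MulAction.orbit (MulAction.stabilizer G a) b :=
        ⟨⟨g⁻¹, Subgroup.inv_mem _ hg⟩ * z, by simp [mul_smul]; rfl⟩
      show (g * d * g⁻¹) • (z : G) • b = (z : G) • b
      rw [mul_smul, mul_smul, hd.2 _ hz, smul_inv_smul]
    have hDn : MulAction.stabilizer G a ≤ Subgroup.normalizer (D : Set G) := by
      intro g hg
      rw [Subgroup.mem_normalizer_iff]
      refine fun d => ⟨hconj g hg d, fun hd => ?_⟩
      simpa [mul_assoc] using hconj g⁻¹ (Subgroup.inv_mem _ hg) _ hd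
    have := (hgrow a b x D hba (fun g hg => hg.1) (fun g hg => hg.2 b (MulAction.mem_orbit_self _)) hDn
      ⟨k, ⟨hk, hky⟩, hmv⟩).2
    exact absurd (hle b x) (by omega)
  suffices hK : K α = ⊥ from Subgroup.mem_bot.mp (hK ▸ hker α ω hω h hα hfix)
  by_contra hne
  obtain ⟨k, hk, hk1⟩ := (K α).bot_or_exists_ne_one.resolve_left hne
  obtain ⟨x₀, hx₀⟩ : ∃ x, k • x ≠ x := by
    by_contra hcon
    push Not at hcon
    exact hk1 (FaithfulSMul.eq_of_smul_eq_smul (α := Ω) fun y => by rw [hcon y, one_smul])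
  obtain ⟨x, hxmv, hxmax⟩ := Finset.exists_max_image
    (Finset.univ.filter fun x => ∃ d ∈ K α, d • x ≠ x) (fun x => suborbitCard G α x)
    ⟨x₀, Finset.mem_filter.mpr ⟨Finset.mem_univ _, k, hk, hx₀⟩⟩
  -- a point in a largest suborbit
  obtain ⟨g₀, hg₀⟩ := MulAction.exists_smul_eq G γ₀.1 α
  set γ := g₀ • γ₀.2
  have hγM : suborbitCard G α γ = M := by rw [← hg₀, suborbitCard_smul]
  have hγα : γ ≠ α := by
    intro e
    have h1 : suborbitCard G α α = 1 := by
      have : MulAction.orbit (MulAction.stabilizer G α) α = {α} := by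
        refine Set.eq_singleton_iff_unique_mem.mpr ⟨MulAction.mem_orbit_self _, ?_⟩
        rintro y ⟨⟨z, hz⟩, rfl⟩
        exact hz
      rw [suborbitCard, this, Nat.card_unique]
    rw [e, h1] at hγM
    apply hH α
    rw [eq_bot_iff]
    intro g hg
    refine Subgroup.mem_bot.mpr (FaithfulSMul.eq_of_smul_eq_smul (α := Ω) fun y => ?_)
    rw [one_smul]
    have h2 := hle α y
    rw [← hγM] at h2
    have : Nonempty (MulAction.orbit (MulAction.stabilizer G α) y) := ⟨⟨y, MulAction.mem_orbit_self _⟩⟩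
    have h3 : Subsingleton (MulAction.orbit (MulAction.stabilizer G α) y) :=
      (Nat.card_eq_one_iff_unique.mp (le_antisymm h2 Nat.card_pos)).1
    exact congrArg Subtype.val (Subsingleton.elim
      (⟨g • y, ⟨⟨g, hg⟩, rfl⟩⟩ : MulAction.orbit (MulAction.stabilizer G α) y) ⟨y, MulAction.mem_orbit_self _⟩)
  obtain ⟨hsub, hlt⟩ := hgrow α γ x (K α) hγα (hKa α) (fun g hg => hg.2 γ hγM) (hKn α) (Finset.mem_filter.mp hxmv).2
  obtain ⟨g, hg⟩ := MulAction.exists_smul_eq G γ α
  have hKγ : K γ ≤ K α := by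
    intro j hj
    refine hker α x (fun e => ?_) j (hj.2 α (by rw [suborbitCard_comm, hγM])) fun y hy => ?_
    · obtain ⟨d, hd, hdx⟩ := (Finset.mem_filter.mp hxmv).2
      exact hdx (e ▸ hd.1)
    by_contra hjy
    have h1 := hxmax (g • y) (Finset.mem_filter.mpr ⟨Finset.mem_univ _, g * j * g⁻¹, hg ▸ hKconj g γ j hj, by
      rw [mul_smul, mul_smul, inv_smul_smul]
      exact fun e => hjy (smul_left_cancel g e)⟩)
    rw [← hg, suborbitCard_smul] at h1
    have h2 : suborbitCard G γ y = suborbitCard G γ x := by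
      have h3 : MulAction.orbit (MulAction.stabilizer G γ) y = MulAction.orbit (MulAction.stabilizer G γ) x :=
        MulAction.orbit_eq_iff.mpr (hsub hy)
      unfold suborbitCard
      rw [h3]
    rw [h2, hg] at h1
    omega
  have hcard : Nat.card (K α) ≤ Nat.card (K γ) := by
    refine Nat.card_le_card_of_injective (fun j : K α => (⟨g⁻¹ * j * g, ?_⟩ : K γ)) fun a b e => ?_
    · have := hKconj g⁻¹ α j j.2
      rwa [inv_inv, show g⁻¹ • α = γ from inv_smul_eq_iff.mpr hg.symm] at this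
    · have := congrArg Subtype.val e
      exact Subtype.ext (by simpa using this)
  have hKeq := Subgroup.eq_of_le_of_card_ge hKγ hcard
  have hinv : ∀ c, K c = K α → ∀ g ∈ MulAction.stabilizer G c, ∀ y ∈ {y : Ω | ∀ d ∈ K α, d • y = y},
      g • y ∈ {y : Ω | ∀ d ∈ K α, d • y = y} := by
    intro c hc g hg y hy d hd
    have hd' : g⁻¹ * d * g ∈ K α := by
      rw [← hc] at hd ⊢
      exact (Subgroup.mem_normalizer_iff''.mp (hKn c hg) d).mp hd
    have := hy _ hd'
    rwa [mul_smul, mul_smul, inv_smul_eq_iff] at this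
  have hu := hgen hγα {y : Ω | ∀ d ∈ K α, d • y = y} (hinv α rfl) (hinv γ hKeq) ⟨α, fun d hd => hd.1⟩
  obtain ⟨d, hd, hdx⟩ := (Finset.mem_filter.mp hxmv).2
  exact hdx ((hu ▸ Set.mem_univ x : x ∈ {y : Ω | ∀ d ∈ K α, d • y = y}) d hd)

end Cfsg.Agent.SmallOrder
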