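import Cfsg.Agent.SmallOrder.Derangements
import Mathlib

/-!
Derangement classes of affine primitive groups.
-/

namespace Cfsg.Agent.SmallOrder

variable {G : Type*} [Group G] {Ω : Type*} [MulAction G Ω]

/-- Data of a regular abelian normal subgroup. -/
structure AffineData (G : Type*) [Group G] (Ω : Type*) [MulAction G Ω] (N : Subgroup G) : Prop where
  normal : N.Normal
  comm : ∀ x ∈ N, ∀ y ∈ N, Commute x y
  trans : ∀ a b : Ω, ∃ u ∈ N, u • a = b
  regular : ∀ u ∈ N, ∀ a : Ω, u • a = a → u = 1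

variable {N : Subgroup G}

theorem AffineData.of_quasiprimitive [FaithfulSMul G Ω] (hqp : MulAction.IsQuasiPreprimitive G Ω)
    (hn : N.Normal) (hN : N ≠ ⊥) (hc : IsMulCommutative N) : AffineData G Ω N := by
  have htr : MulAction.IsPretransitive N Ω := by
    apply MulAction.IsQuasiPreprimitive.isPretransitive_of_normal
    intro h
    apply hN
    rw [eq_bot_iff]
    intro x hx
    refine Subgroup.mem_bot.mpr (FaithfulSMul.eq_of_smul_eq_smul (α := Ω) fun c => ?_)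
    rw [one_smul]
    exact (h.symm ▸ Set.mem_univ c : c ∈ MulAction.fixedPoints N Ω) ⟨x, hx⟩
  refine ⟨hn, fun x hx y hy => congrArg Subtype.val (hc.is_comm.comm ⟨x, hx⟩ ⟨y, hy⟩), fun a b => ?_,
    fun u hu a h => PermGroups.eq_one_of_centralizes htr (fun x hx => ?_) h⟩
  · obtain ⟨u, hu⟩ := htr.exists_smul_eq a b
    exact ⟨u, u.2, hu⟩
  · exact congrArg Subtype.val (hc.is_comm.comm ⟨x, hx⟩ ⟨u, hu⟩)

theorem AffineData.der (h : AffineData G Ω N) {u : G} (hu : u ∈ N) (h1 : u ≠ 1) (ω : Ω) : u • ω ≠ ω :=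
  fun e => h1 (h.regular u hu ω e)

theorem AffineData.split (h : AffineData G Ω N) (a : Ω) (g : G) :
    ∃ u ∈ N, ∃ k, k • a = a ∧ g = u * k := by
  obtain ⟨u, hu, e⟩ := h.trans a (g • a)
  exact ⟨u, hu, u⁻¹ * g, by rw [mul_smul, ← e, inv_smul_smul], by group⟩

/-- Conjugacy on `N` is given by the stabilizer. -/
theorem AffineData.conj_stab (h : AffineData G Ω N) (a : Ω) {x y : G} (hx : x ∈ N) (hxy : IsConj x y) :
    ∃ k, k • a = a ∧ k * x * k⁻¹ = y := by
  obtain ⟨c, rfl⟩ := isConj_iff.mp hxy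
  obtain ⟨u, hu, k, hk, rfl⟩ := h.split a c
  refine ⟨k, hk, ?_⟩
  have hkx := h.normal.conj_mem x hx k
  calc k * x * k⁻¹ = k * x * k⁻¹ * u * u⁻¹ := by group
    _ = u * (k * x * k⁻¹) * u⁻¹ := by rw [(h.comm _ hkx u hu).eq]
    _ = _ := by group

/-- A non-trivial element of the stabilizer centralizing a non-trivial element of `N` gives a derangement
outside `N`. -/
theorem AffineData.exists_outside [Finite G] (h : AffineData G Ω N) {a : Ω} {k : G} (hk : k • a = a) (hk1 : k ≠ 1)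
    {w : G} (hw : w ∈ N) (hw1 : w ≠ 1) (hwk : Commute w k) :
    ∃ x, x ∉ N ∧ ∀ ω : Ω, x • ω ≠ ω := by
  have hmap : ∀ u : N, (u : G) * (k * (u : G)⁻¹ * k⁻¹) ∈ N := fun u =>
    N.mul_mem u.2 (h.normal.conj_mem _ (N.inv_mem u.2) k)
  let f : N → N := fun u => ⟨_, hmap u⟩
  have hni : ¬ Function.Injective f := fun hi => hw1 (congrArg Subtype.val (hi (a₁ := ⟨w, hw⟩) (a₂ := 1) (by
    apply Subtype.ext
    show w * (k * w⁻¹ * k⁻¹) = ((1 : N) : G) * (k * ((1 : N) : G)⁻¹ * k⁻¹)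
    rw [OneMemClass.coe_one, ← hwk.inv_left.eq]
    group)))
  rw [Finite.injective_iff_surjective, Function.Surjective] at hni
  push Not at hni
  obtain ⟨v, hv⟩ := hni
  refine ⟨v * k, fun hm => hk1 (h.regular k (by simpa using N.mul_mem (N.inv_mem v.2) hm) a hk), fun ω e => ?_⟩
  obtain ⟨u, hu, rfl⟩ := h.trans a ω
  refine hv ⟨u, hu⟩ (Subtype.ext ?_)
  show u * (k * u⁻¹ * k⁻¹) = v
  have hm : k * u * k⁻¹ ∈ N := h.normal.conj_mem u hu k
  have h1 : u⁻¹ * ((v : G) * (k * u * k⁻¹)) = 1 := by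
    refine h.regular _ (N.mul_mem (N.inv_mem hu) (N.mul_mem v.2 hm)) a ?_
    rw [mul_smul, mul_smul, mul_smul, mul_smul, show k⁻¹ • a = a by rw [inv_smul_eq_iff, hk], inv_smul_eq_iff]
    rw [mul_smul] at e
    exact e
  rw [inv_mul_eq_one] at h1
  calc u * (k * u⁻¹ * k⁻¹) = (v : G) * (k * u * k⁻¹) * (k * u⁻¹ * k⁻¹) := by rw [← h1]
    _ = v := by group

/-- Elements fixing two points centralize a non-trivial element of `N`. -/
theorem AffineData.commute_of_two_fixed (h : AffineData G Ω N) {k : G} {a b : Ω} (hab : a ≠ b)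
    (ha : k • a = a) (hb : k • b = b) : ∃ w ∈ N, w ≠ 1 ∧ Commute w k := by
  obtain ⟨w, hw, e⟩ := h.trans a b
  refine ⟨w, hw, fun h1 => hab (by rw [← e, h1, one_smul]), ?_⟩
  have h1 : w⁻¹ * (k * w * k⁻¹) = 1 := by
    refine h.regular _ (N.mul_mem (N.inv_mem hw) (h.normal.conj_mem w hw k)) a ?_
    rw [mul_smul, mul_smul, mul_smul, show k⁻¹ • a = a by rw [inv_smul_eq_iff, ha], e, hb, inv_smul_eq_iff, e]
  rw [inv_mul_eq_one] at h1
  show w * k = k * w
  calc w * k = k * w * k⁻¹ * k := by rw [← h1]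
    _ = k * w := by group

/-- If the stabilizer of one point has fixed-point-free action, every derangement lies in `N`. -/
theorem AffineData.mem_of_der [Finite G] (h : AffineData G Ω N) (a : Ω)
    (hfpf : ∀ k, k • a = a → k ≠ 1 → ∀ w ∈ N, Commute w k → w = 1) {g : G} (hg : ∀ ω : Ω, g • ω ≠ ω) :
    g ∈ N := by
  obtain ⟨v, hv, k, hk, rfl⟩ := h.split a g
  by_cases hk1 : k = 1
  · rw [hk1, mul_one]; exact hv
  exfalso
  have hmap : ∀ u : N, (u : G) * (k * (u : G)⁻¹ * k⁻¹) ∈ N := fun u =>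
    N.mul_mem u.2 (h.normal.conj_mem _ (N.inv_mem u.2) k)
  let f : N → N := fun u => ⟨_, hmap u⟩
  have hinj : Function.Injective f := by
    rintro ⟨x, hx⟩ ⟨y, hy⟩ e
    have e' : x * (k * x⁻¹ * k⁻¹) = y * (k * y⁻¹ * k⁻¹) := congrArg Subtype.val e
    apply Subtype.ext
    have hc : Commute (y⁻¹ * x) k := by
      show y⁻¹ * x * k = k * (y⁻¹ * x)
      calc y⁻¹ * x * k = y⁻¹ * (x * (k * x⁻¹ * k⁻¹)) * k * x := by group
        _ = y⁻¹ * (y * (k * y⁻¹ * k⁻¹)) * k * x := by rw [e']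
        _ = k * (y⁻¹ * x) := by group
    have := hfpf k hk hk1 _ (N.mul_mem (N.inv_mem hy) hx) hc
    rw [inv_mul_eq_one] at this
    exact this.symm
  obtain ⟨u, hu⟩ := (Finite.injective_iff_surjective.mp hinj) ⟨v, hv⟩
  have hu' : (u : G) * (k * (u : G)⁻¹ * k⁻¹) = v := congrArg Subtype.val hu
  apply hg ((u : G) • a)
  show (v * k) • (u : G) • a = (u : G) • a
  rw [smul_smul, show v * k * u = (u : G) * k by rw [← hu']; group, mul_smul, hk]

/-- `fixedBy` has at most one point. -/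
theorem AffineData.fixed_le_one [Finite G] [Finite Ω] (h : AffineData G Ω N)
    (hfpf : ∀ (a : Ω) k, k • a = a → k ≠ 1 → ∀ w ∈ N, Commute w k → w = 1) {g : G} (hg : g ≠ 1) :
    Nat.card (MulAction.fixedBy Ω g) ≤ 1 := by
  rw [Finite.card_le_one_iff_subsingleton]
  refine ⟨fun x y => ?_⟩
  by_contra hxy
  obtain ⟨w, hw, hw1, hc⟩ := h.commute_of_two_fixed (fun e => hxy (Subtype.ext e)) x.2 y.2
  exact hw1 (hfpf x g x.2 hg w hw hc)

/-- If `N \ {1}` is a single orbit of a point stabilizer, the group is 2-transitive. -/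
theorem AffineData.two_transitive (h : AffineData G Ω N)
    (horb : ∀ (a : Ω) (x y : G), x ∈ N → y ∈ N → x ≠ 1 → y ≠ 1 → ∃ k, k • a = a ∧ k * x * k⁻¹ = y) :
    MulAction.IsMultiplyPretransitive G Ω 2 := by
  rw [MulAction.is_two_pretransitive_iff]
  intro a b c d hab hcd
  obtain ⟨u, hu, e1⟩ := h.trans a c
  obtain ⟨x, hx, e2⟩ := h.trans a b
  obtain ⟨y, hy, e3⟩ := h.trans c d
  obtain ⟨k, hk, e⟩ := horb c x y hx hy (fun h1 => hab (by rw [← e2, h1, one_smul]))
    (fun h1 => hcd (by rw [← e3, h1, one_smul]))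
  refine ⟨k * u, by rw [mul_smul, e1, hk], ?_⟩
  have e4 : u • b = x • c := by rw [← e2, smul_smul, (h.comm u hu x hx).eq, mul_smul, e1]
  rw [mul_smul, e4, ← e3, ← e, mul_smul, mul_smul, show k⁻¹ • c = c by rw [inv_smul_eq_iff, hk]]

theorem AffineData.exists_ne_one [Nontrivial Ω] (h : AffineData G Ω N) : ∃ u ∈ N, u ≠ 1 := by
  obtain ⟨x, y, hxy⟩ := exists_pair_ne Ω
  obtain ⟨u, hu, e⟩ := h.trans x y
  exact ⟨u, hu, fun h1 => hxy (by rw [← e, h1, one_smul])⟩

theorem AffineData.card_eq (h : AffineData G Ω N) (a : Ω) : Nat.card N = Nat.card Ω := by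
  refine Nat.card_congr (Equiv.ofBijective (fun u : N => (u : G) • a) ⟨fun x y e => ?_, fun b => ?_⟩)
  · have e' : ((y : G)⁻¹ * x) • a = a := by rw [mul_smul, show (x : G) • a = (y : G) • a from e, inv_smul_smul]
    exact Subtype.ext (inv_mul_eq_one.mp (h.regular _ (N.mul_mem (N.inv_mem y.2) x.2) a e')).symm
  · obtain ⟨u, hu, e⟩ := h.trans a b
    exact ⟨⟨u, hu⟩, e⟩

/-- One class of derangements in a non-almost-simple primitive group. -/
theorem sharply_of_one_class [Finite G] [Nontrivial Ω] [FaithfulSMul G Ω]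
    (hqp : MulAction.IsQuasiPreprimitive G Ω) (htr : MulAction.IsPretransitive G Ω)
    (hnas : ¬ ∃ T : Subgroup G, T.Normal ∧ IsSimpleGroup T ∧ ¬ IsMulCommutative T ∧
      Subgroup.centralizer (T : Set G) = ⊥)
    (h1 : Nat.card (DerClass G Ω) = 1) :
    MulAction.IsMultiplyPretransitive G Ω 2 ∧ ∀ g : G, g ≠ 1 → ∀ a b : Ω, a ≠ b → g • a = a → g • b ≠ b := by
  by_cases hab : ∃ N : Subgroup G, N.Normal ∧ N ≠ ⊥ ∧ IsMulCommutative N
  swap
  · have := three_le_derClass_of_not_almostSimple hqp htr hnas hab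
    omega
  obtain ⟨N, hn, hN, hc⟩ := hab
  have h := AffineData.of_quasiprimitive hqp hn hN hc
  haveI := (Nat.card_eq_one_iff_unique.mp h1).1
  have hcl : ∀ x y : G, (∀ ω : Ω, x • ω ≠ ω) → (∀ ω : Ω, y • ω ≠ ω) → IsConj x y := fun x y hx hy =>
    ConjClasses.mk_eq_mk_iff_isConj.mp (congrArg Subtype.val
      (Subsingleton.elim (α := DerClass G Ω) ⟨_, x, rfl, hx⟩ ⟨_, y, rfl, hy⟩))
  refine ⟨h.two_transitive fun a x y hx hy hx1 hy1 => h.conj_stab a hx (hcl x y (h.der hx hx1) (h.der hy hy1)),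
    fun g hg a b hab' ha hb => ?_⟩
  obtain ⟨w, hw, hw1, hwc⟩ := h.commute_of_two_fixed hab' ha hb
  obtain ⟨x, hxN, hxd⟩ := h.exists_outside ha hg hw hw1 hwc
  obtain ⟨c, hc'⟩ := isConj_iff.mp (hcl w x (h.der hw hw1) hxd)
  exact hxN (hc' ▸ hn.conj_mem w hw c)

/-- Two classes of derangements in a non-almost-simple primitive group. -/
theorem two_classes_cases [Finite G] [Finite Ω] [Nontrivial Ω] [FaithfulSMul G Ω]
    (hqp : MulAction.IsQuasiPreprimitive G Ω) (htr : MulAction.IsPretransitive G Ω)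
    (hnas : ¬ ∃ T : Subgroup G, T.Normal ∧ IsSimpleGroup T ∧ ¬ IsMulCommutative T ∧
      Subgroup.centralizer (T : Set G) = ⊥)
    (h2 : Nat.card (DerClass G Ω) = 2) (α : Ω) :
    ∃ N : Subgroup G, AffineData G Ω N ∧ N ≠ ⊥ ∧ IsMulCommutative N ∧
      (((∀ g : G, g ≠ 1 → Nat.card (MulAction.fixedBy Ω g) ≤ 1) ∧
        2 * Nat.card (MulAction.stabilizer G α) + 1 = Nat.card Ω) ∨
      (MulAction.IsMultiplyPretransitive G Ω 2 ∧ ∃ g : G, g ≠ 1 ∧ 2 ≤ Nat.card (MulAction.fixedBy Ω g))) := by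
  classical
  by_cases hab : ∃ N : Subgroup G, N.Normal ∧ N ≠ ⊥ ∧ IsMulCommutative N
  swap
  · have := three_le_derClass_of_not_almostSimple hqp htr hnas hab
    omega
  obtain ⟨N, hn, hN, hc⟩ := hab
  have h := AffineData.of_quasiprimitive hqp hn hN hc
  refine ⟨N, h, hN, hc, ?_⟩
  by_cases hfpf : ∀ (a : Ω) k, k • a = a → k ≠ 1 → ∀ w ∈ N, Commute w k → w = 1
  · left
    refine ⟨fun g hg => h.fixed_le_one hfpf hg, ?_⟩
    haveI := Fintype.ofFinite (DerClass G Ω)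
    rw [Nat.card_eq_fintype_card, Fintype.card_eq_nat_card] at h2
    obtain ⟨c₁, c₂, hne, huniv⟩ := Nat.card_eq_two_iff.mp h2
    obtain ⟨u₁, hu₁, hd₁⟩ := c₁.2
    obtain ⟨u₂, hu₂, hd₂⟩ := c₂.2
    have hm₁ := h.mem_of_der α (hfpf α) hd₁
    have hm₂ := h.mem_of_der α (hfpf α) hd₂
    have hu1 : u₁ ≠ 1 := fun e => hd₁ α (by rw [e, one_smul])
    have hu2 : u₂ ≠ 1 := fun e => hd₂ α (by rw [e, one_smul])
    let H := MulAction.stabilizer G α
    let f : H ⊕ H → {u : N // u ≠ 1} := Sum.elim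
      (fun k => ⟨⟨(k : G) * u₁ * (k : G)⁻¹, hn.conj_mem u₁ hm₁ k⟩, fun e => hu1 (by
        have e' : (k : G) * u₁ * (k : G)⁻¹ = 1 := congrArg Subtype.val e
        exact conj_eq_one_iff.mp e')⟩)
      (fun k => ⟨⟨(k : G) * u₂ * (k : G)⁻¹, hn.conj_mem u₂ hm₂ k⟩, fun e => hu2 (by
        have e' : (k : G) * u₂ * (k : G)⁻¹ = 1 := congrArg Subtype.val e
        exact conj_eq_one_iff.mp e')⟩)
    have hfree : ∀ u ∈ N, u ≠ 1 → ∀ k k' : H, (k : G) * u * (k : G)⁻¹ = (k' : G) * u * (k' : G)⁻¹ → k = k' := by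
      intro u hu hu1' k k' e
      by_contra hne'
      refine hu1' (hfpf α ((k' : G)⁻¹ * k) ?_ ?_ u hu ?_)
      · rw [mul_smul, show (k : G) • α = α from k.2, inv_smul_eq_iff, show (k' : G) • α = α from k'.2]
      · exact fun e' => hne' (Subtype.ext (inv_mul_eq_one.mp e').symm)
      · show u * ((k' : G)⁻¹ * k) = (k' : G)⁻¹ * k * u
        calc u * ((k' : G)⁻¹ * k) = (k' : G)⁻¹ * ((k' : G) * u * (k' : G)⁻¹) * k := by group
          _ = (k' : G)⁻¹ * ((k : G) * u * (k : G)⁻¹) * k := by rw [e]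
          _ = _ := by group
    have hncj : ∀ k k' : H, (k : G) * u₁ * (k : G)⁻¹ ≠ (k' : G) * u₂ * (k' : G)⁻¹ := by
      intro k k' e
      apply hne
      apply Subtype.ext
      rw [← hu₁, ← hu₂, ConjClasses.mk_eq_mk_iff_isConj]
      exact (isConj_iff.mpr ⟨_, e⟩).trans (isConj_iff.mpr ⟨(k' : G)⁻¹, by group⟩)
    have hinj : Function.Injective f := by
      rintro (k | k) (k' | k') e
      · exact congrArg Sum.inl (hfree u₁ hm₁ hu1 k k' (congrArg (fun z => ((z.1 : N) : G)) e))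
      · exact absurd (congrArg (fun z => ((z.1 : N) : G)) e) (hncj k k')
      · exact absurd (congrArg (fun z => ((z.1 : N) : G)) e).symm (hncj k' k)
      · exact congrArg Sum.inr (hfree u₂ hm₂ hu2 k k' (congrArg (fun z => ((z.1 : N) : G)) e))
    have hsurj : Function.Surjective f := by
      rintro ⟨⟨w, hw⟩, hw1⟩
      have hw1' : w ≠ 1 := fun e => hw1 (Subtype.ext e)
      have hmem : (⟨_, w, rfl, h.der hw hw1'⟩ : DerClass G Ω) ∈ ({c₁, c₂} : Set (DerClass G Ω)) := by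
        rw [huniv]; exact Set.mem_univ _
      rcases hmem with e | e
      · have e' := (congrArg Subtype.val e).trans hu₁.symm
        obtain ⟨k, hk, hk'⟩ := h.conj_stab α hm₁ (ConjClasses.mk_eq_mk_iff_isConj.mp e').symm
        exact ⟨Sum.inl ⟨k, hk⟩, Subtype.ext (Subtype.ext hk')⟩
      · rw [Set.mem_singleton_iff] at e
        have e' := (congrArg Subtype.val e).trans hu₂.symm
        obtain ⟨k, hk, hk'⟩ := h.conj_stab α hm₂ (ConjClasses.mk_eq_mk_iff_isConj.mp e').symm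
        exact ⟨Sum.inr ⟨k, hk⟩, Subtype.ext (Subtype.ext hk')⟩
    have hcard := Nat.card_congr (Equiv.ofBijective f ⟨hinj, hsurj⟩)
    haveI := Fintype.ofFinite N
    rw [Nat.card_sum, Nat.card_eq_fintype_card (α := {u : N // u ≠ 1}), Fintype.card_subtype_compl,
      Fintype.card_subtype_eq, ← Nat.card_eq_fintype_card, h.card_eq α] at hcard
    have hpos : 0 < Nat.card Ω := Nat.card_pos
    show 2 * Nat.card H + 1 = Nat.card Ω
    omega
  · push Not at hfpf
    obtain ⟨a, k, hk, hk1, w, hw, hwc, hw1⟩ := hfpf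
    obtain ⟨x, hxN, hxd⟩ := h.exists_outside hk hk1 hw hw1 hwc
    right
    refine ⟨h.two_transitive fun b y z hy hz hy1 hz1 => ?_, k, hk1, ?_⟩
    · refine h.conj_stab b hy ?_
      by_contra hcj
      have hout : ∀ u ∈ N, ¬ IsConj u x := fun u hu hc' => by
        obtain ⟨c, e⟩ := isConj_iff.mp hc'
        exact hxN (e ▸ hn.conj_mem u hu c)
      have := three_le_derClass (h.der hy hy1) (h.der hz hz1) hxd hcj (hout y hy) (hout z hz)
      omega
    · have hb : k • (w • a) = w • a := by rw [smul_smul, ← hwc.eq, mul_smul, hk]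
      haveI := Fintype.ofFinite (MulAction.fixedBy Ω k)
      rw [Nat.card_eq_fintype_card]
      exact Fintype.one_lt_card_iff.mpr ⟨⟨a, hk⟩, ⟨w • a, hb⟩, fun e => h.der hw hw1 a (congrArg Subtype.val e).symm⟩

end Cfsg.Agent.SmallOrder
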