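import Cfsg.Agent.SmallOrder.MinNormalFactor
import Cfsg.Agent.PermGroups.PrimitiveSocle
import Cfsg.Agent.Core.BurnsidePQ
import Mathlib

/-!
Derangement classes of primitive groups that are not almost simple.
-/

namespace Cfsg.Agent.SmallOrder

variable {G : Type*} [Group G] {Ω : Type*} [MulAction G Ω]

variable (G Ω) in
/-- The derangement classes. -/
abbrev DerClass : Type _ := {c : ConjClasses G // ∃ g : G, ConjClasses.mk g = c ∧ ∀ ω : Ω, g • ω ≠ ω}

theorem three_le_derClass [Finite G] {x y z : G} (hx : ∀ ω : Ω, x • ω ≠ ω) (hy : ∀ ω : Ω, y • ω ≠ ω)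
    (hz : ∀ ω : Ω, z • ω ≠ ω) (hxy : ¬ IsConj x y) (hxz : ¬ IsConj x z) (hyz : ¬ IsConj y z) :
    3 ≤ Nat.card (DerClass G Ω) := by
  haveI := Fintype.ofFinite (DerClass G Ω)
  let f : Fin 3 → DerClass G Ω := ![⟨_, x, rfl, hx⟩, ⟨_, y, rfl, hy⟩, ⟨_, z, rfl, hz⟩]
  have hf : Function.Injective f := by
    intro i j h
    have h' := congrArg Subtype.val h
    fin_cases i <;> fin_cases j <;>
      simp [f, ConjClasses.mk_eq_mk_iff_isConj] at h' ⊢
    all_goals
      first
      | exact hxy (isConj_iff.mpr h')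
      | exact hxz (isConj_iff.mpr h')
      | exact hyz (isConj_iff.mpr h')
      | exact hxy (isConj_iff.mpr h').symm
      | exact hxz (isConj_iff.mpr h').symm
      | exact hyz (isConj_iff.mpr h').symm
  simpa using Nat.card_le_card_of_injective f hf

theorem orderOf_eq_of_isConj {x y : G} (h : IsConj x y) : orderOf x = orderOf y := by
  obtain ⟨c, rfl⟩ := isConj_iff.mp h
  exact (orderOf_injective (MulAut.conj c).toMonoidHom (MulAut.conj c).injective x).symm

/-- A proper subgroup of a finite group misses some conjugacy class. -/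
theorem exists_not_conj_mem {T : Type*} [Group T] [Finite T] {A : Subgroup T} (hA : A ≠ ⊤) :
    ∃ t : T, ∀ w : T, w⁻¹ * t * w ∉ A := by
  classical
  by_contra hcon
  push Not at hcon
  haveI := Fintype.ofFinite T
  haveI := Fintype.ofFinite (T ⧸ A)
  haveI : Unique (MulAction.orbitRel.Quotient T (T ⧸ A)) :=
    ⟨⟨Quotient.mk'' (QuotientGroup.mk 1)⟩, fun x => by
      induction x using Quotient.inductionOn' with
      | h a => exact Quotient.sound' (MulAction.exists_smul_eq T (QuotientGroup.mk 1 : T ⧸ A) a)⟩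
  have h := MulAction.sum_card_fixedBy_eq_card_orbits_mul_card_group T (T ⧸ A)
  rw [Fintype.card_unique, one_mul] at h
  have hlt : ∑ _a : T, 1 < ∑ a : T, Fintype.card (MulAction.fixedBy (T ⧸ A) a) := by
    refine Finset.sum_lt_sum (fun a _ => ?_) ⟨1, Finset.mem_univ _, ?_⟩
    · obtain ⟨w, hw⟩ := hcon a
      refine Fintype.card_pos_iff.mpr ⟨⟨QuotientGroup.mk w, ?_⟩⟩
      show QuotientGroup.mk (a * w) = (QuotientGroup.mk w : T ⧸ A)
      rw [eq_comm, QuotientGroup.eq, ← mul_assoc]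
      exact hw
    · rw [Fintype.one_lt_card_iff]
      obtain ⟨x, hx⟩ := SetLike.exists_not_mem_of_ne_top A hA
      refine ⟨⟨QuotientGroup.mk 1, one_smul _ _⟩, ⟨QuotientGroup.mk x, one_smul _ _⟩, fun h => ?_⟩
      exact hx (by simpa using QuotientGroup.eq.mp (congrArg Subtype.val h))
  rw [Finset.sum_const, Finset.card_univ, smul_eq_mul, mul_one, h] at hlt
  exact lt_irrefl _ hlt

/-- A finite non-abelian simple group has three prime divisors. -/
theorem exists_three_orders {T : Type*} [Group T] [Finite T] [IsSimpleGroup T] (hna : ¬ IsMulCommutative T) :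
    ∃ x y z : T, x ≠ 1 ∧ y ≠ 1 ∧ z ≠ 1 ∧ (orderOf x).Prime ∧ (orderOf y).Prime ∧ (orderOf z).Prime ∧
      orderOf x ≠ orderOf y ∧ orderOf x ≠ orderOf z ∧ orderOf y ≠ orderOf z := by
  have hnsol : ¬ Group.IsSolvable T := fun h => by
    have := Group.IsSolvable.commutator_lt_top_of_nontrivial (G := T)
    exact this.ne (commutator_eq_top hna)
  set n := Nat.card T
  have hn : n ≠ 0 := Nat.card_pos.ne'
  have h3 : 2 < n.primeFactors.card := by
    by_contra hle
    push Not at hle
    obtain ⟨p, q, hp, hq, hsub⟩ : ∃ p q : ℕ, p.Prime ∧ q.Prime ∧ n.primeFactors ⊆ {p, q} := by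
      interval_cases hc : n.primeFactors.card
      · exact ⟨2, 2, Nat.prime_two, Nat.prime_two, by rw [Finset.card_eq_zero.mp hc]; simp⟩
      · obtain ⟨a, ha⟩ := Finset.card_eq_one.mp hc
        have hap : a.Prime := Nat.prime_of_mem_primeFactors (ha ▸ Finset.mem_singleton_self a)
        exact ⟨a, a, hap, hap, by rw [ha]; simp⟩
      · obtain ⟨a, b, -, hab⟩ := Finset.card_eq_two.mp hc
        exact ⟨a, b, Nat.prime_of_mem_primeFactors (hab ▸ Finset.mem_insert_self a _),
          Nat.prime_of_mem_primeFactors (hab ▸ Finset.mem_insert_of_mem (Finset.mem_singleton_self b)), hab.le⟩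
    refine hnsol (Core.isSolvable_of_card_dvd_aux hp hq n rfl n n ?_)
    rw [← Nat.factorization_le_iff_dvd hn (mul_ne_zero (pow_ne_zero _ hp.ne_zero) (pow_ne_zero _ hq.ne_zero))]
    intro r
    by_cases hr : r ∈ n.primeFactors
    · have hle : n.factorization r ≤ n := (Nat.factorization_lt r hn).le
      rw [Nat.factorization_mul (pow_ne_zero _ hp.ne_zero) (pow_ne_zero _ hq.ne_zero), Finsupp.add_apply,
        hp.factorization_pow, hq.factorization_pow]
      rcases Finset.mem_insert.mp (hsub hr) with rfl | h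
      · rw [Finsupp.single_eq_same]; omega
      · rw [Finset.mem_singleton] at h; subst h
        rw [Finsupp.single_eq_same (b := n) (a := r)]; omega
    · rw [← Nat.support_factorization, Finsupp.notMem_support_iff] at hr
      rw [hr]; exact Nat.zero_le _
  obtain ⟨a, ha, b, hb, c, hc, hab, hac, hbc⟩ := Finset.two_lt_card.mp h3
  have key : ∀ r ∈ n.primeFactors, ∃ x : T, x ≠ 1 ∧ orderOf x = r := fun r hr => by
    haveI := Fact.mk (Nat.prime_of_mem_primeFactors hr)
    obtain ⟨x, hx⟩ := exists_prime_orderOf_dvd_card' (G := T) r (Nat.dvd_of_mem_primeFactors hr)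
    exact ⟨x, fun h => (Fact.out : r.Prime).ne_one (by rw [← hx, h, orderOf_one]), hx⟩
  obtain ⟨x, hx, hx'⟩ := key a ha
  obtain ⟨y, hy, hy'⟩ := key b hb
  obtain ⟨z, hz, hz'⟩ := key c hc
  exact ⟨x, y, z, hx, hy, hz, hx' ▸ Nat.prime_of_mem_primeFactors ha, hy' ▸ Nat.prime_of_mem_primeFactors hb,
    hz' ▸ Nat.prime_of_mem_primeFactors hc, by omega, by omega, by omega⟩

theorem three_le_of_semiregular [Finite G] (T : Subgroup G) [IsSimpleGroup T] (hna : ¬ IsMulCommutative T)
    (hsr : ∀ t ∈ T, ∀ ω : Ω, t • ω = ω → t = 1) : 3 ≤ Nat.card (DerClass G Ω) := by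
  obtain ⟨x, y, z, hx, hy, hz, -, -, -, hxy, hxz, hyz⟩ := exists_three_orders hna
  have hd : ∀ w : T, w ≠ 1 → ∀ ω : Ω, (w : G) • ω ≠ ω := fun w hw ω h => hw (Subtype.ext (hsr w w.2 ω h))
  refine three_le_derClass (hd x hx) (hd y hy) (hd z hz) ?_ ?_ ?_ <;> intro h <;>
    have := orderOf_eq_of_isConj h <;> simp only [Subgroup.orderOf_coe] at this <;> omega

theorem three_le_derClass_of_not_almostSimple [Finite G] [Nontrivial Ω] [FaithfulSMul G Ω]
    (hqp : MulAction.IsQuasiPreprimitive G Ω) (htr : MulAction.IsPretransitive G Ω)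
    (hnas : ¬ ∃ T : Subgroup G, T.Normal ∧ IsSimpleGroup T ∧ ¬ IsMulCommutative T ∧
      Subgroup.centralizer (T : Set G) = ⊥)
    (hnab : ¬ ∃ N : Subgroup G, N.Normal ∧ N ≠ ⊥ ∧ IsMulCommutative N) :
    3 ≤ Nat.card (DerClass G Ω) := by
  classical
  have htrN : ∀ N : Subgroup G, N.Normal → N ≠ ⊥ → MulAction.IsPretransitive N Ω := by
    intro N hNn hN
    apply MulAction.IsQuasiPreprimitive.isPretransitive_of_normal
    intro h
    apply hN
    rw [eq_bot_iff]
    intro x hx
    refine Subgroup.mem_bot.mpr (FaithfulSMul.eq_of_smul_eq_smul (α := Ω) fun c => ?_)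
    rw [one_smul]
    exact (h.symm ▸ Set.mem_univ c : c ∈ MulAction.fixedPoints N Ω) ⟨x, hx⟩
  haveI : Nontrivial G := by
    by_contra h
    rw [not_nontrivial_iff_subsingleton] at h
    obtain ⟨x, y, hxy⟩ := exists_pair_ne Ω
    obtain ⟨g, hg⟩ := htr.exists_smul_eq x y
    rw [Subsingleton.elim g 1, one_smul] at hg
    exact hxy hg
  obtain ⟨N, hN⟩ := Core.exists_isMinNormal (G := G)
  have hNn := hN.1
  have hNna : ¬ IsMulCommutative N := fun h => hnab ⟨N, hN.1, hN.2.1, h⟩
  obtain ⟨T, hTN, hTs, hTna, hTnorm, hTc, hcomm, hsplit, hTnormal⟩ := exists_simple_factor hN hNna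
  have hNtr := htrN N hN.1 hN.2.1
  haveI := hTs
  by_cases hC : Subgroup.centralizer (N : Set G) = ⊥
  swap
  · -- regular minimal normal subgroup
    have hCtr := htrN _ inferInstance hC
    refine three_le_of_semiregular T hTna fun t ht ω h => PermGroups.eq_one_of_centralizes hCtr ?_ h
    intro x hx
    exact (Subgroup.mem_centralizer_iff.mp hx t (hTN ht)).symm
  obtain ⟨g₀, hg₀⟩ : ∃ g, ¬ cjSub T g ≤ T := by
    by_contra h
    push Not at h
    have hTn : T.Normal := ⟨fun t ht g => h g (mem_cjSub ht)⟩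
    have heq := hTnormal hTn
    exact hnas ⟨T, hTn, hTs, hTna, by rw [heq]; exact hC⟩
  obtain ⟨a⟩ : Nonempty Ω := inferInstance
  -- projection of the stabilizer
  let A : Subgroup T :=
    { carrier := {t | ∃ c ∈ N, (∀ s ∈ T, Commute s c) ∧ ((t : G) * c) • a = a}
      one_mem' := ⟨1, N.one_mem, fun s _ => Commute.one_right s, by simp⟩
      mul_mem' := by
        rintro t t' ⟨c, hc, hcs, h⟩ ⟨c', hc', hcs', h'⟩
        refine ⟨c * c', N.mul_mem hc hc', fun s hs => (hcs s hs).mul_right (hcs' s hs), ?_⟩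
        show ((t : G) * t' * (c * c')) • a = a
        rw [show (t : G) * t' * (c * c') = (t * c) * (t' * c') by
          rw [mul_assoc (t : G) c, ← mul_assoc c, ← (hcs _ t'.2).eq]; group, mul_smul, h', h]
      inv_mem' := by
        rintro t ⟨c, hc, hcs, h⟩
        refine ⟨c⁻¹, N.inv_mem hc, fun s hs => (hcs s hs).inv_right, ?_⟩
        show ((t : G)⁻¹ * c⁻¹) • a = a
        rw [(hcs _ t.2).inv_inv.eq, ← mul_inv_rev, inv_smul_eq_iff, h] }
  by_cases hA : A = ⊤
  · -- `T` is semiregular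
    have hTa : ∀ t ∈ T, t • a = a → t = 1 := by
      let B : Subgroup T := (MulAction.stabilizer G a).subgroupOf T
      have hB : B.Normal := by
        refine ⟨fun t ht w => ?_⟩
        obtain ⟨c, -, hcs, h⟩ := (hA ▸ Subgroup.mem_top w : w ∈ A)
        show ((w : G) * t * (w : G)⁻¹) • a = a
        have e : (w : G) * t * (w : G)⁻¹ = ((w : G) * c) * t * ((w : G) * c)⁻¹ := by
          rw [mul_assoc (w : G) c, ← (hcs t t.2).eq]; group
        have ht' : (t : G) • a = a := ht
        rw [e, mul_smul, mul_smul, show ((w : G) * c)⁻¹ • a = a by rw [inv_smul_eq_iff, h], ht', h]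
      rcases hB.eq_bot_or_eq_top with h | h
      · intro t ht hta
        have : (⟨t, ht⟩ : T) ∈ B := hta
        rw [h, Subgroup.mem_bot] at this
        exact congrArg Subtype.val this
      · exfalso
        have hT1 : T = ⊥ := by
          rw [Subgroup.eq_bot_iff_forall]
          intro t ht
          refine FaithfulSMul.eq_of_smul_eq_smul (α := Ω) fun ω => ?_
          obtain ⟨⟨u, hu⟩, rfl⟩ := hNtr.exists_smul_eq a ω
          have hm : (⟨u⁻¹ * t * u, by simpa using hTnorm u⁻¹ (N.inv_mem hu) t ht⟩ : T) ∈ B :=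
            h ▸ Subgroup.mem_top _
          have hm' : (u⁻¹ * t * u) • a = a := hm
          show t • u • a = (1 : G) • u • a
          rw [one_smul]
          rw [mul_smul, mul_smul, inv_smul_eq_iff] at hm'
          exact hm'
        exact hTna (hT1 ▸ ⟨⟨fun x y => Subsingleton.elim _ _⟩⟩)
    refine three_le_of_semiregular T hTna fun t ht ω h => ?_
    obtain ⟨⟨u, hu⟩, rfl⟩ := hNtr.exists_smul_eq a ω
    have h1 : u⁻¹ * t * u = 1 := hTa _ (by simpa using hTnorm u⁻¹ (N.inv_mem hu) t ht) (by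
      rw [mul_smul, mul_smul, inv_smul_eq_iff]; exact h)
    calc t = u * (u⁻¹ * t * u) * u⁻¹ := by group
      _ = 1 := by rw [h1]; group
  -- some element of `T` avoids the conjugates of the projection
  obtain ⟨t, ht⟩ := exists_not_conj_mem hA
  have hder : ∀ c ∈ N, (∀ s ∈ T, Commute s c) → ∀ ω : Ω, ((t : G) * c) • ω ≠ ω := by
    intro c hc hcs ω h
    obtain ⟨⟨u, hu⟩, rfl⟩ := hNtr.exists_smul_eq a ω
    obtain ⟨w, hw, d, hd, hds, rfl⟩ := hsplit u hu
    refine ht ⟨w, hw⟩ ⟨d⁻¹ * c * d, N.mul_mem (N.mul_mem (N.inv_mem hd) hc) hd,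
      fun s hs => (((hds s hs).inv_right).mul_right (hcs s hs)).mul_right (hds s hs), ?_⟩
    show ((w⁻¹ * (t : G) * w) * (d⁻¹ * c * d)) • a = a
    have h' : ((t : G) * c) • (w * d) • a = (w * d) • a := h
    have e : (w⁻¹ * (t : G) * w) * (d⁻¹ * c * d) = (w * d)⁻¹ * ((t : G) * c) * (w * d) := by
      have hwt : Commute (w⁻¹ * (t : G) * w) d := hds _ (T.mul_mem (T.mul_mem (T.inv_mem hw) t.2) hw)
      have hwc : Commute w c := hcs w hw
      calc (w⁻¹ * (t : G) * w) * (d⁻¹ * c * d) = d⁻¹ * (w⁻¹ * (t : G) * w) * c * d := by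
            rw [← mul_assoc, ← mul_assoc, hwt.inv_right.eq]
        _ = d⁻¹ * w⁻¹ * (t : G) * (w * c) * d := by group
        _ = _ := by rw [hwc.eq]; group
    rw [e, mul_smul, mul_smul, h', inv_smul_smul]
  have ht1 : (t : G) ≠ 1 := fun h => ht 1 (by
    have : t = 1 := Subtype.ext h
    simp [this, A.one_mem])
  set T' := cjSub T g₀ with hT'
  have hT'N : T' ≤ N := by
    rintro _ ⟨s, hs, rfl⟩
    exact hNn.conj_mem s (hTN hs) g₀
  have hT'c : ∀ c ∈ T', ∀ s ∈ T, Commute s c := fun c hc s hs => hcomm g₀ hg₀ s hs c hc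
  obtain ⟨x, y, -, hx, hy, -, -, -, -, hxy, -, -⟩ := exists_three_orders hTna
  set v₁ := g₀ * (x : G) * g₀⁻¹
  set v₂ := g₀ * (y : G) * g₀⁻¹
  have hv : ∀ z : T, orderOf (g₀ * (z : G) * g₀⁻¹) = orderOf z := fun z =>
    (orderOf_injective (MulAut.conj g₀).toMonoidHom (MulAut.conj g₀).injective (z : G)).trans
      (Subgroup.orderOf_coe z)
  have hd : ∀ v ∈ T', ∀ ω : Ω, ((t : G) * v) • ω ≠ ω := fun v hv => hder v (hT'N hv) (hT'c v hv)
  have hne : ∀ z : T, z ≠ 1 → g₀ * (z : G) * g₀⁻¹ ≠ 1 := fun z hz h => hz (Subtype.ext (conj_eq_one_iff.mp h))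
  have hTT' : ∀ w ∈ T, w ∈ T' → w = 1 := fun w hw hw' => hTc w hw fun u hu => hT'c w hw' u hu
  -- conjugations taking one product to another
  have key : ∀ v ∈ T', ∀ v' ∈ T', v' ≠ 1 → ∀ h : G, h * ((t : G) * v) * h⁻¹ = (t : G) * v' →
      v ≠ 1 ∧ (orderOf v = orderOf v' ∨ (orderOf v = orderOf (t : G) ∧ orderOf v' = orderOf (t : G))) := by
    intro v hv v' hv' hv'1 h he
    have hsplitc : ∀ g : G, h * g * h⁻¹ = 1 → g = 1 := fun g hg => conj_eq_one_iff.mp hg
    have hcase : ∀ k : G, cjSub T k ≤ T ∨ ∀ s ∈ T, ∀ r ∈ cjSub T k, Commute s r := fun k => by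
      by_cases hk : cjSub T k ≤ T
      · exact Or.inl hk
      · exact Or.inr (hcomm k hk)
    set t' := h * (t : G) * h⁻¹
    set v'' := h * v * h⁻¹
    have he' : t' * v'' = (t : G) * v' := by rw [← he]; simp only [t', v'']; group
    have ht'mem : t' ∈ cjSub T h := mem_cjSub t.2
    have hv''mem : v'' ∈ cjSub T (h * g₀) := by
      obtain ⟨s, hs, rfl⟩ := hv
      exact ⟨s, hs, by simp [v'', mul_assoc]⟩
    have hord1 : orderOf t' = orderOf (t : G) :=
      orderOf_injective (MulAut.conj h).toMonoidHom (MulAut.conj h).injective _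
    have hord2 : orderOf v'' = orderOf v :=
      orderOf_injective (MulAut.conj h).toMonoidHom (MulAut.conj h).injective _
    -- `t'` and `v''` lie in different factors
    by_cases h1 : cjSub T h ≤ T
    · have ht'T : t' ∈ T := h1 ht'mem
      by_cases h2 : cjSub T (h * g₀) ≤ T
      · exfalso
        have hv'T : v' ∈ T := by
          have : (t : G)⁻¹ * (t' * v'') ∈ T := T.mul_mem (T.inv_mem t.2) (T.mul_mem ht'T (h2 hv''mem))
          rwa [he', inv_mul_cancel_left] at this
        exact hv'1 (hTT' v' hv'T hv')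
      · have hc : ∀ s ∈ T, Commute s v'' := fun s hs => hcomm _ h2 s hs v'' hv''mem
        have hT : (t : G)⁻¹ * t' = 1 := by
          refine hTc _ (T.mul_mem (T.inv_mem t.2) ht'T) fun u hu => ?_
          have e : (t : G)⁻¹ * t' = v' * v''⁻¹ := by
            rw [eq_mul_inv_iff_mul_eq, mul_assoc, he', inv_mul_cancel_left]
          rw [e]
          exact (hT'c v' hv' u hu).mul_right (hc u hu).inv_right
        rw [inv_mul_eq_one] at hT
        have hvv : v'' = v' := by rw [← hT] at he'; exact mul_left_cancel he'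
        exact ⟨fun hv1 => hv'1 (by rw [← hvv]; simp [v'', hv1]), Or.inl (by rw [← hord2, hvv])⟩
    · have hct : ∀ s ∈ T, Commute s t' := fun s hs => hcomm h h1 s hs t' ht'mem
      by_cases h2 : cjSub T (h * g₀) ≤ T
      · have hv''T : v'' ∈ T := h2 hv''mem
        have he2 : v'' * t' = (t : G) * v' := by rw [(hct v'' hv''T).eq, he']
        have hT : (t : G)⁻¹ * v'' = 1 := by
          refine hTc _ (T.mul_mem (T.inv_mem t.2) hv''T) fun u hu => ?_
          have e : (t : G)⁻¹ * v'' = v' * t'⁻¹ := by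
            rw [eq_mul_inv_iff_mul_eq, mul_assoc, he2, inv_mul_cancel_left]
          rw [e]
          exact (hT'c v' hv' u hu).mul_right (hct u hu).inv_right
        rw [inv_mul_eq_one] at hT
        have htv : t' = v' := by rw [← hT] at he2; exact mul_left_cancel he2
        refine ⟨fun hv1 => ht1 (by rw [hT]; simp [v'', hv1]), Or.inr ⟨?_, ?_⟩⟩
        · rw [← hord2, ← hT]
        · rw [← htv, hord1]
      · exfalso
        refine ht1 (hTc _ t.2 fun u hu => ?_)
        have e : (t : G) = t' * v'' * v'⁻¹ := by rw [he', mul_inv_cancel_right]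
        rw [e]
        exact ((hct u hu).mul_right (hcomm _ h2 u hu v'' hv''mem)).mul_right (hT'c v' hv' u hu).inv_right
  have hv1 : v₁ ∈ T' := mem_cjSub x.2
  have hv2 : v₂ ∈ T' := mem_cjSub y.2
  refine three_le_derClass (x := (t : G) * 1) (y := (t : G) * v₁) (z := (t : G) * v₂)
    (hd 1 T'.one_mem) (hd _ hv1) (hd _ hv2) ?_ ?_ ?_
  · intro h
    obtain ⟨k, hk⟩ := isConj_iff.mp h
    exact (key 1 T'.one_mem v₁ hv1 (hne x hx) k hk).1 rfl
  · intro h
    obtain ⟨k, hk⟩ := isConj_iff.mp h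
    exact (key 1 T'.one_mem v₂ hv2 (hne y hy) k hk).1 rfl
  · intro h
    obtain ⟨k, hk⟩ := isConj_iff.mp h
    rcases (key v₁ hv1 v₂ hv2 (hne y hy) k hk).2 with h' | ⟨h', h''⟩
    · exact hxy (by rw [← hv x, ← hv y, h'])
    · exact hxy (by rw [← hv x, ← hv y, h', h''])

end Cfsg.Agent.SmallOrder
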