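import Cfsg.Agent.SmallOrder.Basic
import Mathlib

/-!
Extremely primitive permutation groups: every one is of affine type or almost simple.
-/

namespace Cfsg.Agent.SmallOrder

open scoped Pointwise

section simple

variable {T : Type*} [Group T] [Finite T]

/-- No finite non-abelian simple group has all element centralizers self-normalizing and insensitive
to taking non-trivial powers. -/
theorem false_of_rigid_centralizers [IsSimpleGroup T] (hna : ¬ IsMulCommutative T)
    (h1 : ∀ (x : T) (j : ℕ), x ^ j ≠ 1 → ∀ g, Commute g (x ^ j) → Commute g x)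
    (h2 : ∀ x : T, x ≠ 1 → ∀ g ∈ Subgroup.normalizer (Subgroup.centralizer ({x} : Set T) : Set T),
      Commute g x) : False := by
  classical
  -- two commuting elements of coprime order have the same centralizer
  have hL : ∀ a b : T, Commute a b → (orderOf a).Coprime (orderOf b) → a ≠ 1 → b ≠ 1 →
      ∀ g, Commute g a → Commute g b := by
    intro a b hab hco ha hb g hg
    have hne : ∀ a b : T, (orderOf a).Coprime (orderOf b) → a ≠ 1 → a ^ orderOf b ≠ 1 := fun a b hco ha h =>
      ha (orderOf_eq_one_iff.mp (Nat.eq_one_of_dvd_coprimes hco dvd_rfl (orderOf_dvd_of_pow_eq_one h)))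
    have e1 : (a * b) ^ orderOf b = a ^ orderOf b := by
      rw [hab.mul_pow, pow_orderOf_eq_one, mul_one]
    have e2 : (a * b) ^ orderOf a = b ^ orderOf a := by
      rw [hab.mul_pow, pow_orderOf_eq_one, one_mul]
    have hgab : Commute g (a * b) := h1 (a * b) (orderOf b) (e1 ▸ hne a b hco ha) g
      (e1 ▸ hg.pow_right _)
    exact h1 b (orderOf a) (hne b a hco.symm hb) g (e2 ▸ hgab.pow_right _)
  have hmemC : ∀ x g : T, g ∈ Subgroup.centralizer ({x} : Set T) ↔ Commute g x := fun x g => by
    rw [Subgroup.mem_centralizer_singleton_iff]; rfl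
  have hsylow : ∀ (p : ℕ) [Fact p.Prime], p ∣ Nat.card T → ∀ P : Sylow p T,
      ∃ z ∈ (P : Subgroup T), z ≠ 1 ∧ Subgroup.centralizer ({z} : Set T) = P ∧
        Subgroup.normalizer ((P : Subgroup T) : Set T) = P ∧
        ∃ u ∈ (P : Subgroup T), ∃ v ∈ (P : Subgroup T), ¬ Commute u v := by
    intro p _ hd P
    have : Nontrivial (P : Subgroup T) :=
      (Subgroup.nontrivial_iff_ne_bot _).mpr (P.ne_bot_of_dvd_card hd)
    have := P.2.center_nontrivial
    obtain ⟨z', hz'⟩ := exists_ne (1 : Subgroup.center (P : Subgroup T))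
    obtain ⟨z, hzc⟩ := z'
    obtain ⟨z, hzP⟩ := z
    have hz1 : z ≠ 1 := fun h => hz' (by ext; exact h)
    have hzcomm : ∀ u ∈ (P : Subgroup T), Commute u z := fun u hu =>
      congrArg Subtype.val (Subgroup.mem_center_iff.mp hzc ⟨u, hu⟩)
    have hPC : (P : Subgroup T) ≤ Subgroup.centralizer ({z} : Set T) := fun u hu =>
      (hmemC z u).mpr (hzcomm u hu)
    have hzn : ∀ g ∈ Subgroup.normalizer ((P : Subgroup T) : Set T),
        g * z * g⁻¹ ∈ (P : Subgroup T) ∧ g * z * g⁻¹ ≠ 1 := fun g hg =>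
      ⟨(Subgroup.mem_normalizer_iff.mp hg z).mp hzP, fun h => hz1 (by simpa [conj_eq_one_iff] using h)⟩
    have hord : ∀ y ∈ (P : Subgroup T), ∃ k, orderOf y = p ^ k := fun y hy => by
      obtain ⟨k, hk⟩ := IsPGroup.iff_orderOf.mp P.2 ⟨y, hy⟩
      exact ⟨k, by rw [← hk, ← Subgroup.orderOf_coe]⟩
    -- the centralizer of `z` is a `p`-group
    have hCp : IsPGroup p (Subgroup.centralizer ({z} : Set T)) := by
      rw [IsPGroup.iff_orderOf]
      by_contra hcon
      push Not at hcon
      obtain ⟨⟨w₀, hw₀⟩, hw₀p⟩ := hcon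
      rw [Subgroup.orderOf_mk] at hw₀p
      obtain ⟨q, hq, hqd, hqp⟩ : ∃ q, q.Prime ∧ q ∣ orderOf w₀ ∧ q ≠ p := by
        by_contra h
        push Not at h
        exact hw₀p _ (Nat.eq_prime_pow_of_unique_prime_dvd (orderOf_pos w₀).ne' fun {d} hd hdd => h d hd hdd)
      set w := w₀ ^ (orderOf w₀ / q)
      have hwo : orderOf w = q := orderOf_pow_orderOf_div (orderOf_pos w₀).ne' hqd
      have hw1 : w ≠ 1 := fun h => by rw [h, orderOf_one] at hwo; exact hq.ne_one hwo.symm
      have hwC : w ∈ Subgroup.centralizer ({z} : Set T) := Subgroup.pow_mem _ hw₀ _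
      have hcop : ∀ y ∈ (P : Subgroup T), (orderOf y).Coprime (orderOf w) := fun y hy => by
        obtain ⟨k, hk⟩ := hord y hy
        rw [hk, hwo]
        exact Nat.Coprime.pow_left k ((Nat.coprime_primes Fact.out hq).mpr (Ne.symm hqp))
      -- every element of `P` has the same centralizer as `w`
      have hzw : Commute z w := ((hmemC z w).mp hwC).symm
      have hyw : ∀ y ∈ (P : Subgroup T), Commute y w := fun y hy =>
        hL z w hzw (hcop z hzP) hz1 hw1 y (hzcomm y hy)
      have hyz : ∀ y ∈ (P : Subgroup T), y ≠ 1 → ∀ g, Commute g y → Commute g z := fun y hy hy1 g hg =>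
        hL w z hzw.symm (hcop z hzP).symm hw1 hz1 g (hL y w (hyw y hy) (hcop y hy) hy1 hw1 g hg)
      have hzy : ∀ y ∈ (P : Subgroup T), y ≠ 1 → ∀ g, Commute g z → Commute g y := fun y hy hy1 g hg =>
        hL w y (hyw y hy).symm (hcop y hy).symm hw1 hy1 g (hL z w hzw (hcop z hzP) hz1 hw1 g hg)
      apply not_normalizer_le_centralizer hna hd P
      intro g hg
      have hgz : Commute g z := by
        refine h2 z hz1 g ?_
        obtain ⟨hcP, hc1⟩ := hzn g hg
        rw [Subgroup.mem_normalizer_iff]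
        intro u
        rw [hmemC, hmemC]
        constructor
        · intro hu
          exact hyz _ hcP hc1 _ (hu.map (MulAut.conj g).toMonoidHom)
        · intro hu
          have h' : Commute (g * u * g⁻¹) (g * z * g⁻¹) := hzy _ hcP hc1 _ hu
          simpa [mul_assoc] using h'.map (MulAut.conj g⁻¹).toMonoidHom
      rw [Subgroup.mem_centralizer_iff]
      intro y hy
      by_cases hy1 : y = 1
      · simp [hy1]
      exact (hzy y hy hy1 g hgz).eq.symm
    have hCP : Subgroup.centralizer ({z} : Set T) = P := P.3 hCp hPC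
    have hNP : Subgroup.normalizer ((P : Subgroup T) : Set T) = P := by
      refine le_antisymm (fun g hg => ?_) Subgroup.le_normalizer
      rw [← hCP]
      exact (hmemC z g).mpr (h2 z hz1 g (by rw [hCP]; exact hg))
    refine ⟨z, hzP, hz1, hCP, hNP, ?_⟩
    by_contra h
    push Not at h
    exact not_normalizer_le_centralizer hna hd P (hNP.le.trans fun u hu =>
      Subgroup.mem_centralizer_iff.mpr fun v hv => (h v hv u hu).eq)
  -- the centralizer of every element is a Sylow subgroup
  have hcover : ∀ y : T, y ≠ 1 → ∃ p ∈ (Nat.card T).primeFactors, ∃ P : Sylow p T,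
      y ∈ (P : Subgroup T) ∧ ∀ u ∈ (P : Subgroup T), Commute u y := by
    intro y hy
    obtain ⟨p, hp, hpd⟩ := Nat.exists_prime_and_dvd (fun h => hy (orderOf_eq_one_iff.mp h))
    have : Fact p.Prime := ⟨hp⟩
    have hpT : p ∣ Nat.card T := hpd.trans (orderOf_dvd_natCard y)
    set x := y ^ (orderOf y / p)
    have hxo : orderOf x = p := orderOf_pow_orderOf_div (orderOf_pos y).ne' hpd
    have hx1 : x ≠ 1 := fun h => by rw [h, orderOf_one] at hxo; exact hp.ne_one hxo.symm
    have hC : Subgroup.centralizer ({x} : Set T) = Subgroup.centralizer ({y} : Set T) := by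
      ext g
      rw [hmemC, hmemC]
      exact ⟨h1 y _ hx1 g, fun h => h.pow_right _⟩
    obtain ⟨P₀, hP₀⟩ := (IsPGroup.of_card (G := Subgroup.zpowers x) (n := 1)
      (by rw [Nat.card_zpowers, hxo, pow_one])).exists_le_sylow
    have hxP : x ∈ (P₀ : Subgroup T) := hP₀ (Subgroup.mem_zpowers x)
    obtain ⟨z, hzP, hz1, hCz, -, -⟩ := hsylow p hpT P₀
    have hzx : Commute z x := by
      have : x ∈ Subgroup.centralizer ({z} : Set T) := hCz ▸ hxP
      exact ((hmemC z x).mp this).symm
    have hCp : IsPGroup p (Subgroup.centralizer ({x} : Set T)) := by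
      rw [IsPGroup.iff_orderOf]
      by_contra hcon
      push Not at hcon
      obtain ⟨⟨w₀, hw₀⟩, hw₀p⟩ := hcon
      rw [Subgroup.orderOf_mk] at hw₀p
      obtain ⟨q, hq, hqd, hqp⟩ : ∃ q, q.Prime ∧ q ∣ orderOf w₀ ∧ q ≠ p := by
        by_contra h
        push Not at h
        exact hw₀p _ (Nat.eq_prime_pow_of_unique_prime_dvd (orderOf_pos w₀).ne' fun {d} hd hdd => h d hd hdd)
      set w := w₀ ^ (orderOf w₀ / q)
      have hwo : orderOf w = q := orderOf_pow_orderOf_div (orderOf_pos w₀).ne' hqd
      have hw1 : w ≠ 1 := fun h => by rw [h, orderOf_one] at hwo; exact hq.ne_one hwo.symm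
      have hwx : Commute w x := (hmemC x w).mp (Subgroup.pow_mem _ hw₀ _)
      have hzw : Commute z w := hL x w hwx.symm (by rw [hxo, hwo]; exact (Nat.coprime_primes hp hq).mpr (Ne.symm hqp))
        hx1 hw1 z hzx
      have hwP : w ∈ (P₀ : Subgroup T) := by rw [← hCz]; exact (hmemC z w).mpr hzw.symm
      obtain ⟨k, hk⟩ := IsPGroup.iff_orderOf.mp P₀.2 ⟨w, hwP⟩
      rw [Subgroup.orderOf_mk, hwo] at hk
      exact hqp ((Nat.prime_dvd_prime_iff_eq hq hp).mp (hq.dvd_of_dvd_pow (dvd_of_eq hk)))
    obtain ⟨P, hP⟩ := hCp.exists_le_sylow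
    have hCP : Subgroup.centralizer ({x} : Set T) = P := by
      by_contra hne
      have := P.2.isNilpotent
      have hlt : (Subgroup.centralizer ({x} : Set T)).subgroupOf P < ⊤ :=
        lt_top_iff_ne_top.mpr fun h => hne (le_antisymm hP (Subgroup.subgroupOf_eq_top.mp h))
      obtain ⟨⟨g, hgP⟩, hgN, hgC⟩ := SetLike.exists_of_lt (normalizerCondition_of_isNilpotent _ hlt)
      refine hgC (Subgroup.mem_subgroupOf.mpr ((hmemC x g).mpr (h2 x hx1 g ?_)))
      rw [Subgroup.mem_normalizer_iff]
      intro u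
      have hiff := fun hu : u ∈ (P : Subgroup T) => Subgroup.mem_normalizer_iff.mp hgN ⟨u, hu⟩
      constructor
      · intro hu
        simpa [Subgroup.mem_subgroupOf] using (hiff (hP hu)).mp (by simpa [Subgroup.mem_subgroupOf] using hu)
      · intro hu
        have huP : u ∈ (P : Subgroup T) := by
          simpa [mul_assoc] using
            (P : Subgroup T).mul_mem ((P : Subgroup T).mul_mem ((P : Subgroup T).inv_mem hgP) (hP hu)) hgP
        simpa [Subgroup.mem_subgroupOf] using (hiff huP).mpr (by simpa [Subgroup.mem_subgroupOf] using hu)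
    refine ⟨p, Nat.mem_primeFactors.mpr ⟨hp, hpT, Nat.card_pos.ne'⟩, P, ?_, fun u hu => ?_⟩
    · rw [← hCP, hC]; exact (hmemC y y).mpr (Commute.refl y)
    · rw [← hCP, hC] at hu; exact (hmemC y u).mp hu
  -- counting
  have := Fintype.ofFinite T
  let Z : ∀ p, Sylow p T → Finset T := fun p P =>
    (Finset.univ.filter fun y => y ∈ (P : Subgroup T) ∧ ∀ u ∈ (P : Subgroup T), Commute u y).erase 1
  let A : ℕ → Finset T := fun p => Finset.univ.biUnion (Z p)
  have hsub : Finset.univ.erase 1 ⊆ (Nat.card T).primeFactors.biUnion A := by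
    intro y hy
    obtain ⟨p, hp, P, hP⟩ := hcover y (Finset.mem_erase.mp hy).1
    exact Finset.mem_biUnion.mpr ⟨p, hp, Finset.mem_biUnion.mpr ⟨P, Finset.mem_univ _,
      Finset.mem_erase.mpr ⟨(Finset.mem_erase.mp hy).1, Finset.mem_filter.mpr ⟨Finset.mem_univ _, hP⟩⟩⟩⟩
  have hA : ∀ p ∈ (Nat.card T).primeFactors, ((A p).card + 1) * p ^ 2 ≤ Nat.card T := by
    intro p hp
    obtain ⟨hp, hpT, -⟩ := Nat.mem_primeFactors.mp hp
    have : Fact p.Prime := ⟨hp⟩
    have hone : ∀ P : Sylow p T, ((Z p P).card + 1) * p ^ 2 ≤ Nat.card P ∧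
        Nat.card (Sylow p T) * Nat.card P = Nat.card T := by
      intro P
      obtain ⟨z, -, -, -, hN, u, hu, v, hv, huv⟩ := hsylow p hpT P
      refine ⟨?_, ?_⟩
      · have hz : (Z p P).card + 1 = Nat.card (Subgroup.center (P : Subgroup T)) := by
          rw [Finset.card_erase_add_one
            (Finset.mem_filter.mpr ⟨Finset.mem_univ _, (P : Subgroup T).one_mem, fun _ _ => Commute.one_right _⟩),
            ← Nat.card_eq_finsetCard]
          exact Nat.card_congr
            { toFun := fun y => ⟨⟨y.1, (Finset.mem_filter.mp y.2).2.1⟩, Subgroup.mem_center_iff.mpr fun w =>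
                Subtype.ext ((Finset.mem_filter.mp y.2).2.2 w w.2)⟩
              invFun := fun y => ⟨y.1.1, Finset.mem_filter.mpr ⟨Finset.mem_univ _, y.1.2, fun w hw =>
                congrArg Subtype.val (Subgroup.mem_center_iff.mp y.2 ⟨w, hw⟩)⟩⟩
              left_inv := fun y => rfl
              right_inv := fun y => rfl }
        rw [hz, ← (Subgroup.center (P : Subgroup T)).card_mul_index]
        refine Nat.mul_le_mul_left _ (Nat.le_of_dvd (Nat.pos_of_ne_zero Subgroup.index_ne_zero_of_finite) ?_)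
        obtain ⟨k, hk⟩ := P.2.index (Subgroup.center (P : Subgroup T))
        rw [hk]
        refine pow_dvd_pow p ?_
        by_contra hk2
        push Not at hk2
        have : IsCyclic ((P : Subgroup T) ⧸ Subgroup.center (P : Subgroup T)) := by
          interval_cases k
          · have : Subsingleton ((P : Subgroup T) ⧸ Subgroup.center (P : Subgroup T)) :=
              (Nat.card_eq_one_iff_unique.mp (by rw [← Subgroup.index_eq_card, hk, pow_zero])).1
            infer_instance
          · exact isCyclic_of_prime_card (p := p) (by rw [← Subgroup.index_eq_card, hk, pow_one])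
        exact huv (congrArg Subtype.val (commutative_of_cyclic_center_quotient
          (QuotientGroup.mk' (Subgroup.center (P : Subgroup T))) (by rw [QuotientGroup.ker_mk']) ⟨u, hu⟩ ⟨v, hv⟩))
      · have e : Nat.card (Sylow p T) = (P : Subgroup T).index :=
          (Sylow.card_eq_index_normalizer P).trans (congrArg Subgroup.index hN)
        rw [e]
        exact (P : Subgroup T).index_mul_card
    obtain ⟨P₁⟩ := (inferInstance : Nonempty (Sylow p T))
    have hn := Finset.card_biUnion_le (s := (Finset.univ : Finset (Sylow p T))) (t := Z p)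
    calc ((A p).card + 1) * p ^ 2
        ≤ (∑ P : Sylow p T, ((Z p P).card + 1)) * p ^ 2 := by
          refine Nat.mul_le_mul_right _ ?_
          rw [Finset.sum_add_distrib, Finset.sum_const, smul_eq_mul, mul_one]
          have : 0 < Fintype.card (Sylow p T) := Fintype.card_pos
          simp only [Finset.card_univ] at *
          show (Finset.univ.biUnion (Z p)).card + 1 ≤ _
          omega
      _ ≤ ∑ P : Sylow p T, Nat.card P₁ := by
          rw [Finset.sum_mul]
          refine Finset.sum_le_sum fun P _ => ?_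
          rw [Nat.card_congr (P₁.equiv P).toEquiv]
          exact (hone P).1
      _ = Nat.card T := by
          rw [Finset.sum_const, Finset.card_univ, smul_eq_mul, ← Nat.card_eq_fintype_card, (hone P₁).2]
  have hcount : Nat.card T ≤ 1 + ∑ p ∈ (Nat.card T).primeFactors, (A p).card := by
    have := (Finset.card_le_card hsub).trans Finset.card_biUnion_le
    rw [Finset.card_erase_of_mem (Finset.mem_univ _), Finset.card_univ, ← Nat.card_eq_fintype_card] at this
    omega
  set M := Nat.card T
  have hM : 1 < M := Finite.one_lt_card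
  have hne : M.primeFactors.Nonempty := Nat.nonempty_primeFactors.mpr hM
  have hb : ∀ p ∈ M.primeFactors, ((A p).card : ℚ) + 1 ≤ M * ((p : ℚ) ^ 2)⁻¹ := by
    intro p hp
    have hp0 : (0 : ℚ) < (p : ℚ) ^ 2 := by
      have := (Nat.mem_primeFactors.mp hp).1.pos
      positivity
    rw [← div_eq_mul_inv, le_div_iff₀ hp0]
    exact_mod_cast hA p hp
  have hs : ∑ p ∈ M.primeFactors, ((p : ℚ) ^ 2)⁻¹ ≤ 1 - (M : ℚ)⁻¹ := by
    refine (Finset.sum_le_sum_of_subset_of_nonneg (t := Finset.Ioc 1 M) ?_ fun i _ _ => by positivity).trans ?_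
    · intro p hp
      obtain ⟨hp, hpd, h0⟩ := Nat.mem_primeFactors.mp hp
      exact Finset.mem_Ioc.mpr ⟨hp.one_lt, Nat.le_of_dvd (by omega) hpd⟩
    · simpa using sum_Ioc_inv_sq_le_sub (α := ℚ) one_ne_zero hM.le
  have htot := Finset.sum_le_sum hb
  rw [Finset.sum_add_distrib, Finset.sum_const, ← Finset.mul_sum, nsmul_eq_mul, mul_one] at htot
  have h3 := htot.trans (mul_le_mul_of_nonneg_left hs (by positivity))
  rw [mul_sub, mul_one, mul_inv_cancel₀ (by positivity)] at h3
  have h4 : (M : ℚ) ≤ 1 + ∑ p ∈ M.primeFactors, ((A p).card : ℚ) := by exact_mod_cast hcount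
  have h5 : (1 : ℚ) ≤ (M.primeFactors.card : ℚ) := by exact_mod_cast hne.card_pos
  linarith

end simple

section action

variable {G : Type*} [Group G] {Ω : Type*} [MulAction G Ω]

/-- A simple subgroup `T` regular on `Ω` cannot be such that the point stabilizer induces all inner
automorphisms, preserves powers and commutation, and is primitive on its orbits. -/
theorem false_of_diagonal [Finite G] {a : Ω} (T : Subgroup G) [IsSimpleGroup T] (hna : ¬ IsMulCommutative T)
    (hbij : Function.Bijective fun t : T => (t : G) • a)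
    (hep : ∀ ω : Ω, MulAction.IsPreprimitive (MulAction.stabilizer G a) (MulAction.orbit (MulAction.stabilizer G a) ω))
    (hinn : ∀ g : T, ∃ h : MulAction.stabilizer G a, ∀ t : T,
      (h : G) • (t : G) • a = ((g * t * g⁻¹ : T) : G) • a)
    (hf : ∀ h : MulAction.stabilizer G a, ∃ f : T → T, (∀ t : T, (h : G) • (t : G) • a = (f t : G) • a) ∧
      (∀ t (j : ℕ), f (t ^ j) = f t ^ j) ∧ ∀ s t, Commute s t → Commute (f s) (f t)) : False := by
  choose f hfa hfj hfc using hf
  have hff : ∀ h t, f h⁻¹ (f h t) = t := fun h t => hbij.1 <| by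
    show (f h⁻¹ (f h t) : G) • a = (t : G) • a
    rw [← hfa, ← hfa, Subgroup.coe_inv, inv_smul_smul]
  have hff' : ∀ h t, f h (f h⁻¹ t) = t := fun h t => by simpa using hff h⁻¹ t
  -- an invariant equivalence is trivial on every orbit
  have hblock : ∀ κ : T → T → Prop, Equivalence κ → (∀ h y z, κ y z → κ (f h y) (f h z)) → ∀ x : T,
      (∀ g : T, κ (g * x * g⁻¹) x) ∨ (∀ g : T, κ (g * x * g⁻¹) x → g * x * g⁻¹ = x) := by
    intro κ hκ hinv x
    let B : Set (MulAction.orbit (MulAction.stabilizer G a) ((x : G) • a)) :=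
      {ω | ∃ t : T, (ω : Ω) = (t : G) • a ∧ κ t x}
    have hB : MulAction.IsBlock (MulAction.stabilizer G a) B := by
      rw [MulAction.isBlock_iff_smul_eq_of_nonempty]
      have hsub : ∀ h : MulAction.stabilizer G a, (h • B ∩ B).Nonempty → h • B ⊆ B := by
        rintro h ⟨_, ⟨u, ⟨t, hut, htx⟩, rfl⟩, ⟨s, hus, hsx⟩⟩ _ ⟨v, ⟨r, hvr, hrx⟩, rfl⟩
        have hs : s = f h t := hbij.1 <| by
          show (s : G) • a = (f h t : G) • a
          rw [← hfa, ← hus, ← hut]; rfl
        refine ⟨f h r, ?_, hκ.trans (hinv h r t (hκ.trans hrx (hκ.symm htx))) (hs ▸ hsx)⟩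
        rw [← hfa, ← hvr]; rfl
      intro h hne
      refine (hsub h hne).antisymm ?_
      rw [Set.subset_smul_set_iff]
      refine hsub h⁻¹ ?_
      obtain ⟨ω, h1, h2⟩ := hne
      refine ⟨h⁻¹ • ω, Set.smul_mem_smul_set h2, ?_⟩
      rwa [Set.mem_smul_set_iff_inv_smul_mem] at h1
    have hconj : ∀ g : T, ((g * x * g⁻¹ : T) : G) • a ∈ MulAction.orbit (MulAction.stabilizer G a) ((x : G) • a) :=
      fun g => by
        obtain ⟨h, hh⟩ := hinn g
        exact ⟨h, hh x⟩
    have hxB : (⟨(x : G) • a, MulAction.mem_orbit_self _⟩ :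
        MulAction.orbit (MulAction.stabilizer G a) ((x : G) • a)) ∈ B := ⟨x, rfl, hκ.refl x⟩
    rcases (hep ((x : G) • a)).isTrivialBlock_of_isBlock hB with hs | hu
    · refine Or.inr fun g hg => hbij.1 ?_
      exact congrArg Subtype.val (hs (⟨_, rfl, hg⟩ : (⟨_, hconj g⟩ : MulAction.orbit (MulAction.stabilizer G a) ((x : G) • a)) ∈ B) hxB)
    · refine Or.inl fun g => ?_
      obtain ⟨t, ht, htx⟩ := (hu ▸ Set.mem_univ _ : (⟨_, hconj g⟩ : MulAction.orbit (MulAction.stabilizer G a) ((x : G) • a)) ∈ B)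
      rwa [hbij.1 (a₁ := g * x * g⁻¹) (a₂ := t) ht]
  have hcenter : ∀ x : T, (∀ g : T, Commute g x) → x = 1 := by
    intro x hx
    rcases (inferInstance : (Subgroup.center T).Normal).eq_bot_or_eq_top with h | h
    · exact Subgroup.mem_bot.mp (h ▸ Subgroup.mem_center_iff.mpr hx)
    · exact absurd (Subgroup.center_eq_top_iff.mp h) hna
  refine false_of_rigid_centralizers hna ?_ ?_
  · intro x j hxj g hg
    rcases hblock (fun y z => y ^ j = z ^ j) ⟨fun _ => rfl, Eq.symm, Eq.trans⟩
      (fun h y z e => by show f h y ^ j = f h z ^ j; rw [← hfj, ← hfj, e]) x with hu | hs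
    · refine absurd (hcenter _ fun u => ?_) hxj
      have := hu u
      rw [conj_pow, mul_inv_eq_iff_eq_mul] at this
      exact this
    · have := hs g (by rw [conj_pow, hg.eq, mul_inv_cancel_right])
      rwa [mul_inv_eq_iff_eq_mul] at this
  · intro x hx g hg
    rcases hblock (fun y z => ∀ u, Commute u y ↔ Commute u z) ⟨fun _ _ => Iff.rfl, fun h u => (h u).symm,
      fun h h' u => (h u).trans (h' u)⟩
      (fun h y z e u => ⟨fun hu => by
          have := hfc h⁻¹ _ _ hu
          rw [hff] at this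
          simpa [hff'] using hfc h _ _ ((e _).mp this),
        fun hu => by
          have := hfc h⁻¹ _ _ hu
          rw [hff] at this
          simpa [hff'] using hfc h _ _ ((e _).mpr this)⟩) x with hu | hs
    · exfalso
      have hn : (Subgroup.centralizer ({x} : Set T)).Normal := by
        refine ⟨fun u hu' v => ?_⟩
        rw [Subgroup.mem_centralizer_singleton_iff] at hu' ⊢
        have h1 : Commute u (v⁻¹ * x * v⁻¹⁻¹) := (hu v⁻¹ u).mpr hu'
        rw [inv_inv] at h1
        show Commute (v * u * v⁻¹) x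
        simpa [mul_assoc] using h1.map (MulAut.conj v).toMonoidHom
      rcases hn.eq_bot_or_eq_top with h | h
      · exact hx (Subgroup.mem_bot.mp (h ▸ Subgroup.mem_centralizer_singleton_iff.mpr rfl))
      · exact hx (hcenter x fun u => Subgroup.mem_centralizer_singleton_iff.mp (h ▸ Subgroup.mem_top u))
    · have := hs g fun u => by
        have hu := Subgroup.mem_normalizer_iff''.mp hg u
        rw [Subgroup.mem_centralizer_singleton_iff, Subgroup.mem_centralizer_singleton_iff] at hu
        refine ⟨fun h => ?_, fun h => ?_⟩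
        · refine hu.mpr (Commute.eq ?_)
          have := h.map (MulAut.conj g⁻¹).toMonoidHom
          simp only [MulEquiv.coe_toMonoidHom, MulAut.conj_apply, inv_inv] at this
          simpa [mul_assoc] using this
        · have h1 : Commute (g⁻¹ * u * g) x := hu.mp h
          have h2 := h1.map (MulAut.conj g).toMonoidHom
          simp only [MulEquiv.coe_toMonoidHom, MulAut.conj_apply] at h2
          simpa [mul_assoc] using h2
      rwa [mul_inv_eq_iff_eq_mul] at this

/-- In a primitive group with non-trivial point stabilizers, different points have different stabilizers. -/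
theorem stabilizer_ne_of_ne [Finite G] [FaithfulSMul G Ω] [MulAction.IsPreprimitive G Ω] {a b : Ω}
    (hH : MulAction.stabilizer G a ≠ ⊥) (hab : b ≠ a) : MulAction.stabilizer G b ≠ MulAction.stabilizer G a := by
  intro he
  have : Nontrivial Ω := nontrivial_of_ne b a hab
  have hmax := MulAction.IsPreprimitive.isCoatom_stabilizer_of_isPreprimitive G a
  obtain ⟨g, rfl⟩ := MulAction.exists_smul_eq G a b
  have hg : g ∈ Subgroup.normalizer (MulAction.stabilizer G a : Set G) := by
    rw [Subgroup.mem_normalizer_iff'']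
    intro x
    conv_lhs => rw [← he]
    show x • g • a = g • a ↔ (g⁻¹ * x * g) • a = a
    rw [mul_smul, mul_smul, inv_smul_eq_iff]
  rcases hmax.le_iff.mp (Subgroup.le_normalizer (H := MulAction.stabilizer G a)) with h | h
  · have := Subgroup.normalizer_eq_top_iff.mp h
    apply hH
    rw [eq_bot_iff]
    intro x hx
    refine Subgroup.mem_bot.mpr (FaithfulSMul.eq_of_smul_eq_smul (α := Ω) fun ω => ?_)
    obtain ⟨k, rfl⟩ := MulAction.exists_smul_eq G a ω
    have h1 : (k⁻¹ * x * k) • a = a := by simpa using this.conj_mem x hx k⁻¹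
    rw [mul_smul, mul_smul, inv_smul_eq_iff] at h1
    rw [h1, one_smul]
  · exact hab (h ▸ hg : g ∈ MulAction.stabilizer G a)

/-- The part of a normal subgroup inside a point stabilizer is transitive on each suborbit. -/
theorem exists_inter_smul_eq [Finite G] [FaithfulSMul G Ω] [MulAction.IsPreprimitive G Ω] {a b : Ω} (hab : b ≠ a)
    (hep : MulAction.IsPreprimitive (MulAction.stabilizer G a) (MulAction.orbit (MulAction.stabilizer G a) b))
    (N : Subgroup G) [N.Normal] (hN : N ⊓ MulAction.stabilizer G a ≠ ⊥) {h : G}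
    (hh : h ∈ MulAction.stabilizer G a) :
    ∃ d ∈ N ⊓ MulAction.stabilizer G a, d • b = h • b := by
  set H := MulAction.stabilizer G a
  let D : Subgroup H := N.subgroupOf H
  have hB := MulAction.IsBlock.orbit_of_normal (G := H) (N := D)
    (⟨b, MulAction.mem_orbit_self _⟩ : MulAction.orbit H b)
  rcases hep.isTrivialBlock_of_isBlock hB with hs | hu
  · exfalso
    have hle : N ⊓ H ≤ N ⊓ MulAction.stabilizer G b := by
      rintro x ⟨hxN, hxH⟩
      refine ⟨hxN, ?_⟩
      have := hs (MulAction.mem_orbit (⟨b, MulAction.mem_orbit_self _⟩ : MulAction.orbit H b)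
        (⟨⟨x, hxH⟩, hxN⟩ : D)) (MulAction.mem_orbit_self _)
      exact congrArg Subtype.val this
    obtain ⟨g, hg⟩ := MulAction.exists_smul_eq G a b
    have hcard : Nat.card (N ⊓ MulAction.stabilizer G b : Subgroup G) = Nat.card (N ⊓ H : Subgroup G) := by
      refine (Nat.card_congr (Equiv.subtypeEquiv (MulAut.conj g).toEquiv fun x => ?_)).symm
      show x ∈ N ∧ x • a = a ↔ g * x * g⁻¹ ∈ N ∧ (g * x * g⁻¹) • b = b
      rw [mul_smul, mul_smul, inv_smul_eq_iff.mpr hg.symm, ← hg, smul_left_cancel_iff]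
      refine and_congr_left fun _ => ⟨fun hx => Subgroup.Normal.conj_mem ‹_› x hx g, fun hx => ?_⟩
      simpa [mul_assoc] using Subgroup.Normal.conj_mem ‹N.Normal› _ hx g⁻¹
    have heq : N ⊓ H = N ⊓ MulAction.stabilizer G b := Subgroup.eq_of_le_of_card_ge hle hcard.le
    have : Nontrivial Ω := nontrivial_of_ne b a hab
    have hmax := MulAction.IsPreprimitive.isCoatom_stabilizer_of_isPreprimitive G a
    have hn : ∀ c : Ω, MulAction.stabilizer G c ≤ Subgroup.normalizer ((N ⊓ MulAction.stabilizer G c : Subgroup G) : Set G) := by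
      intro c k hk
      have hkc : k • c = c := hk
      have hkc' : k⁻¹ • c = c := inv_smul_eq_iff.mpr hkc.symm
      rw [Subgroup.mem_normalizer_iff]
      intro x
      show x ∈ N ∧ x • c = c ↔ k * x * k⁻¹ ∈ N ∧ (k * x * k⁻¹) • c = c
      rw [mul_smul, mul_smul, hkc']
      constructor
      · rintro ⟨h1, h2⟩; exact ⟨Subgroup.Normal.conj_mem ‹_› x h1 k, by rw [h2, hkc]⟩
      · rintro ⟨h1, h2⟩
        refine ⟨by simpa [mul_assoc] using Subgroup.Normal.conj_mem ‹N.Normal› _ h1 k⁻¹, ?_⟩
        rw [← hkc'] at h2 ⊢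
        simpa [hkc'] using congrArg (k⁻¹ • ·) h2
    rcases hmax.le_iff.mp (hn a) with h1 | h1
    · have hNn := Subgroup.normalizer_eq_top_iff.mp h1
      apply hN
      rw [eq_bot_iff]
      intro x hx
      refine Subgroup.mem_bot.mpr (FaithfulSMul.eq_of_smul_eq_smul (α := Ω) fun ω => ?_)
      obtain ⟨k, rfl⟩ := MulAction.exists_smul_eq G a ω
      have h2 : (k⁻¹ * x * k) • a = a := by simpa using (hNn.conj_mem x hx k⁻¹).2
      rw [mul_smul, mul_smul, inv_smul_eq_iff] at h2
      rw [h2, one_smul]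
    · have h2 : MulAction.stabilizer G b ≤ H := (hn b).trans (heq ▸ h1).le
      have hH : H ≠ ⊥ := fun h => hN (by rw [h, inf_bot_eq])
      refine stabilizer_ne_of_ne hH hab (Subgroup.eq_of_le_of_card_ge h2 ?_)
      exact (Nat.card_congr (MulAction.stabilizerEquivStabilizerOfOrbitRel
        (⟨g⁻¹, inv_smul_eq_iff.mpr hg.symm⟩ : (MulAction.orbitRel G Ω) a b)).toEquiv).le
  · obtain ⟨⟨⟨x, hxH⟩, hxN⟩, hd⟩ : (⟨h • b, ⟨⟨h, hh⟩, rfl⟩⟩ : MulAction.orbit H b) ∈
        MulAction.orbit D (⟨b, MulAction.mem_orbit_self _⟩ : MulAction.orbit H b) := hu ▸ Set.mem_univ _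
    exact ⟨x, ⟨hxN, hxH⟩, congrArg Subtype.val hd⟩

/-- Fixed-point-free action of a transitive subgroup. -/
theorem bijective_smul {a : Ω} (T : Subgroup G) (htr : ∀ ω : Ω, ∃ t ∈ T, t • a = ω)
    (hfree : ∀ t ∈ T, t • a = a → t = 1) : Function.Bijective fun t : T => (t : G) • a := by
  refine ⟨fun s t h => Subtype.ext ?_, fun ω => ?_⟩
  · have h1 : (s : G) • a = (t : G) • a := h
    refine (inv_mul_eq_one.mp (hfree _ (T.mul_mem (T.inv_mem t.2) s.2) ?_)).symm
    rw [mul_smul, h1, inv_smul_smul]
  · obtain ⟨t, ht, e⟩ := htr ω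
    exact ⟨⟨t, ht⟩, e⟩

/-- A primitive group in which every point stabilizer is primitive on each of its orbits is affine or
almost simple. -/
theorem extremely_primitive [Finite G] [Fintype Ω] [FaithfulSMul G Ω] (hΩ : 2 ≤ Fintype.card Ω)
    (hprim : MulAction.IsPreprimitive G Ω)
    (hep : ∀ (α ω : Ω), MulAction.IsPreprimitive (MulAction.stabilizer G α) (MulAction.orbit (MulAction.stabilizer G α) ω)) :
    (∃ N : Subgroup G, N.Normal ∧ N ≠ ⊥ ∧ IsMulCommutative N ∧ ∀ ω : Ω, MulAction.stabilizer N ω = ⊥) ∨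
    (∃ T : Subgroup G, T.Normal ∧ IsSimpleGroup T ∧ ¬ IsMulCommutative T ∧
      Subgroup.centralizer (T : Set G) = ⊥) := by
  classical
  have hΩnt : Nontrivial Ω := Fintype.one_lt_card_iff_nontrivial.mp (by omega)
  obtain ⟨a⟩ : Nonempty Ω := inferInstance
  set H := MulAction.stabilizer G a with hHdef
  have htr : ∀ N : Subgroup G, N.Normal → N ≠ ⊥ → ∀ b ω : Ω, ∃ u ∈ N, u • b = ω := by
    intro N hNn hN b ω
    have : MulAction.IsPretransitive N Ω := by
      apply MulAction.IsQuasiPreprimitive.isPretransitive_of_normal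
      intro h
      apply hN
      rw [eq_bot_iff]
      intro x hx
      refine Subgroup.mem_bot.mpr (FaithfulSMul.eq_of_smul_eq_smul (α := Ω) fun c => ?_)
      rw [one_smul]
      exact (h.symm ▸ Set.mem_univ c : c ∈ MulAction.fixedPoints N Ω) ⟨x, hx⟩
    obtain ⟨u, hu⟩ := this.exists_smul_eq b ω
    exact ⟨u, u.2, hu⟩
  -- affine type
  by_cases hab : ∃ N : Subgroup G, N.Normal ∧ N ≠ ⊥ ∧ IsMulCommutative N
  · obtain ⟨N, hNn, hN, hc⟩ := hab
    refine Or.inl ⟨N, hNn, hN, hc, fun ω => ?_⟩
    rw [eq_bot_iff]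
    intro x hx
    refine Subgroup.mem_bot.mpr (Subtype.ext (FaithfulSMul.eq_of_smul_eq_smul (α := Ω) fun c => ?_))
    obtain ⟨u, hu, rfl⟩ := htr N hNn hN ω c
    show (x : G) • u • ω = (1 : G) • u • ω
    rw [one_smul, ← mul_smul, show (x : G) * u = u * x from congrArg Subtype.val (hc.is_comm.comm x ⟨u, hu⟩),
      mul_smul, show (x : G) • ω = ω from hx]
  push Not at hab
  right
  have : Nontrivial G := by
    by_contra h
    rw [not_nontrivial_iff_subsingleton] at h
    obtain ⟨x, y, hxy⟩ := exists_pair_ne Ω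
    obtain ⟨g, hg⟩ := MulAction.exists_smul_eq G x y
    rw [Subsingleton.elim g 1, one_smul] at hg
    exact hxy hg
  obtain ⟨N, ⟨hNn, hN⟩, hNmin⟩ := (Set.toFinite {M : Subgroup G | M.Normal ∧ M ≠ ⊥}).exists_minimal
    ⟨⊤, inferInstance, top_ne_bot⟩
  have hNna : ¬ IsMulCommutative N := hab N hNn hN
  have hC : Subgroup.centralizer (N : Set G) = ⊥ ∨ Subgroup.centralizer (N : Set G) ≠ ⊥ := em _
  have hNH : ∀ g : G, ∃ u ∈ N, ∃ h ∈ H, g = u * h := by
    intro g
    obtain ⟨u, hu, hua⟩ := htr N hNn hN a (g • a)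
    exact ⟨u, hu, u⁻¹ * g, show (u⁻¹ * g) • a = a by rw [mul_smul, ← hua, inv_smul_smul], by group⟩
  -- a minimal normal subgroup of `N`
  obtain ⟨T, ⟨hTN, hT, hTnorm⟩, hTmin⟩ := (Set.toFinite
    {M : Subgroup G | M ≤ N ∧ M ≠ ⊥ ∧ ∀ u ∈ N, ∀ t ∈ M, u * t * u⁻¹ ∈ M}).exists_minimal
    ⟨N, le_rfl, hN, fun u hu t ht => N.mul_mem (N.mul_mem hu ht) (N.inv_mem hu)⟩
  let conjT : G → Subgroup G := fun g => T.map (MulAut.conj g).toMonoidHom
  have hmem : ∀ (g t : G), t ∈ T → g * t * g⁻¹ ∈ conjT g := fun g t ht => ⟨t, ht, rfl⟩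
  have hconjN : ∀ g, conjT g ≤ N := by
    rintro g _ ⟨t, ht, rfl⟩
    exact hNn.conj_mem t (hTN ht) g
  have hconjnorm : ∀ g, ∀ u ∈ N, ∀ t ∈ conjT g, u * t * u⁻¹ ∈ conjT g := by
    rintro g u hu _ ⟨t, ht, rfl⟩
    refine ⟨(g⁻¹ * u * g) * t * (g⁻¹ * u * g)⁻¹, hTnorm _ (by simpa using hNn.conj_mem u hu g⁻¹) t ht, ?_⟩
    show g * ((g⁻¹ * u * g) * t * (g⁻¹ * u * g)⁻¹) * g⁻¹ = u * (g * t * g⁻¹) * u⁻¹
    group
  -- two different conjugates of `T` commute
  have hcomm : ∀ g, ¬ conjT g ≤ T → ∀ t ∈ T, ∀ s ∈ conjT g, Commute t s := by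
    intro g hg t ht s hs
    have hint : T ⊓ conjT g = ⊥ := by
      by_contra h
      exact hg (by
        have h1 : T ≤ T ⊓ conjT g := hTmin (y := T ⊓ conjT g) ⟨inf_le_left.trans hTN, h,
          fun u hu x hx => ⟨hTnorm u hu x hx.1, hconjnorm g u hu x hx.2⟩⟩ inf_le_left
        refine (Subgroup.eq_of_le_of_card_ge (h1.trans inf_le_right) ?_).ge
        exact (Nat.card_congr (T.equivMapOfInjective _ (MulAut.conj g).injective).toEquiv).ge)
    have hm : t * s * t⁻¹ * s⁻¹ ∈ T ⊓ conjT g := by
      refine ⟨?_, (conjT g).mul_mem (hconjnorm g t (hTN ht) s hs) ((conjT g).inv_mem hs)⟩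
      have := T.mul_mem ht (hTnorm s (hconjN g hs) t⁻¹ (T.inv_mem ht))
      simpa [mul_assoc] using this
    rw [hint, Subgroup.mem_bot, mul_inv_eq_one, mul_inv_eq_iff_eq_mul] at hm
    exact hm
  -- `N` is generated by the conjugates of `T`
  have hgen : ∀ M : Subgroup G, (∀ g, conjT g ≤ M) → N ≤ M := by
    intro M hM
    have h1 : Subgroup.normalClosure (T : Set G) ≤ M := by
      rw [Subgroup.normalClosure, Subgroup.closure_le]
      intro x hx
      rw [Group.mem_conjugatesOfSet_iff] at hx
      obtain ⟨t, ht, hc⟩ := hx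
      obtain ⟨c, rfl⟩ := isConj_iff.mp hc
      exact hM c (hmem c t ht)
    refine le_trans (hNmin ⟨Subgroup.normalClosure_normal, fun h => hT ?_⟩
      (Subgroup.normalClosure_le_normal (fun t ht => hTN ht))) h1
    exact le_bot_iff.mp (h ▸ Subgroup.le_normalClosure)
  have hTna : ¬ IsMulCommutative T := by
    intro hc
    refine hNna ⟨⟨fun x y => Subtype.ext ?_⟩⟩
    have hTC : ∀ g, conjT g ≤ Subgroup.centralizer (T : Set G) := by
      intro g s hs
      rw [Subgroup.mem_centralizer_iff]
      intro t ht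
      by_cases hg : conjT g ≤ T
      · exact congrArg Subtype.val (hc.is_comm.comm ⟨t, ht⟩ ⟨s, hg hs⟩)
      · exact (hcomm g hg t ht s hs).eq
    have hN1 : N ≤ Subgroup.centralizer (T : Set G) := hgen _ hTC
    have hN2 : N ≤ Subgroup.centralizer (N : Set G) := by
      refine hgen _ ?_
      rintro g _ ⟨t, ht, rfl⟩
      rw [Subgroup.mem_centralizer_iff]
      intro u hu
      have h1 : Commute t (g⁻¹ * u * g) :=
        Subgroup.mem_centralizer_iff.mp (hN1 (by simpa using hNn.conj_mem u hu g⁻¹)) t ht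
      have := h1.map (MulAut.conj g).toMonoidHom
      simp only [MulEquiv.coe_toMonoidHom, MulAut.conj_apply] at this
      simpa [mul_assoc] using this.eq.symm
    exact Subgroup.mem_centralizer_iff.mp (hN2 y.2) x x.2
  have hTs : IsSimpleGroup T := by
    have : Nontrivial T := (Subgroup.nontrivial_iff_ne_bot T).mpr hT
    refine ⟨fun M hM => ?_⟩
    by_cases hM0 : M = ⊥
    · exact Or.inl hM0
    right
    have hM' : M.map T.subtype ≠ ⊥ := fun h =>
      hM0 ((Subgroup.map_eq_bot_iff_of_injective _ T.subtype_injective).mp h)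
    have hnorm : N ≤ Subgroup.normalizer ((M.map T.subtype : Subgroup G) : Set G) := by
      refine hgen _ fun g s hs => ?_
      by_cases hg : conjT g ≤ T
      · have := Subgroup.le_normalizer_map T.subtype
          ⟨⟨s, hg hs⟩, (Subgroup.normalizer_eq_top_iff.mpr hM ▸ Subgroup.mem_top _ :
            (⟨s, hg hs⟩ : T) ∈ Subgroup.normalizer (M : Set T)), rfl⟩
        exact this
      · rw [Subgroup.mem_normalizer_iff]
        intro x
        constructor
        · rintro ⟨m, hm, rfl⟩
          refine ⟨m, hm, ?_⟩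
          show (m : G) = s * (m : G) * s⁻¹
          rw [← (hcomm g hg m m.2 s hs).eq, mul_inv_cancel_right]
        · rintro ⟨m, hm, he⟩
          refine ⟨m, hm, ?_⟩
          have he' : (m : G) = s * x * s⁻¹ := he
          show (m : G) = x
          refine mul_left_cancel (a := s) ?_
          rw [← (hcomm g hg m m.2 s hs).eq, he', inv_mul_cancel_right]
    have hle := hTmin (y := M.map T.subtype) ⟨(Subgroup.map_subtype_le _).trans hTN, hM', fun u hu t ht =>
      (Subgroup.mem_normalizer_iff.mp (hnorm hu) t).mp ht⟩ (Subgroup.map_subtype_le _)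
    refine eq_top_iff.mpr fun x _ => ?_
    obtain ⟨y, hy, hyx⟩ := hle x.2
    exact Subtype.ext hyx ▸ hy
  have hTcenter : ∀ t ∈ T, (∀ u ∈ T, Commute u t) → t = 1 := by
    intro t ht hc
    rcases (inferInstance : (Subgroup.center T).Normal).eq_bot_or_eq_top with h | h
    · have : (⟨t, ht⟩ : T) ∈ Subgroup.center T :=
        Subgroup.mem_center_iff.mpr fun u => Subtype.ext (hc u u.2)
      rw [h, Subgroup.mem_bot] at this
      exact congrArg Subtype.val this
    · exact absurd (Subgroup.center_eq_top_iff.mp h) hTna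
  rcases hC with hC | hC
  · by_cases hfix : ∀ h ∈ H, conjT h ≤ T
    · -- almost simple
      have hTG : T.Normal := by
        refine ⟨fun t ht g => ?_⟩
        obtain ⟨u, hu, h, hh, rfl⟩ := hNH g
        have := hTnorm u hu _ (hfix h hh (hmem h t ht))
        simpa [mul_assoc] using this
      have hTeq : T = N := hTN.antisymm (hNmin ⟨hTG, hT⟩ hTN)
      exact ⟨T, hTG, hTs, hTna, by rw [hTeq]; exact hC⟩
    push Not at hfix
    obtain ⟨h₀, hh₀, hh₀T⟩ := hfix
    exfalso
    have hH : H ≠ ⊥ := fun h => hh₀T (by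
      rw [h, Subgroup.mem_bot] at hh₀
      rintro _ ⟨t, ht, rfl⟩
      simpa [hh₀] using ht)
    by_cases hD : N ⊓ H = ⊥
    · -- regular product action
      obtain ⟨t, ht, ht1⟩ := T.bot_or_exists_ne_one.resolve_left hT
      have := Fintype.ofFinite G
      let S : Finset G := Finset.univ.filter fun x => ∃ h ∈ H, h * t * h⁻¹ = x
      have hS : ∀ x ∈ S, ∀ y ∈ S, ∃ h ∈ H, h * x * h⁻¹ = y := by
        intro x hx y hy
        obtain ⟨h, hh, rfl⟩ := (Finset.mem_filter.mp hx).2
        obtain ⟨k, hk, rfl⟩ := (Finset.mem_filter.mp hy).2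
        exact ⟨k * h⁻¹, H.mul_mem hk (H.inv_mem hh), by group⟩
      have hSN : ∀ x ∈ S, x ∈ N := by
        intro x hx
        obtain ⟨h, hh, rfl⟩ := (Finset.mem_filter.mp hx).2
        exact hNn.conj_mem t (hTN ht) h
      have hta : t • a ≠ a := fun h =>
        ht1 (Subgroup.mem_bot.mp (hD ▸ ⟨hTN ht, h⟩ : t ∈ (⊥ : Subgroup G)))
      -- the point `t • a` lies in a block given by the factor of `t`
      have hsingle : ∀ h ∈ H, h * t * h⁻¹ ∈ T → h * t * h⁻¹ = t := by
        let B : Set (MulAction.orbit H (t • a)) := {ω | ∃ s ∈ T, (ω : Ω) = s • a}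
        have hinj : ∀ s ∈ N, ∀ r ∈ N, s • a = r • a → s = r := fun s hs r hr h => by
          refine (inv_mul_eq_one.mp (Subgroup.mem_bot.mp (hD ▸ ⟨N.mul_mem (N.inv_mem hr) hs, ?_⟩ :
            r⁻¹ * s ∈ (⊥ : Subgroup G)))).symm
          show (r⁻¹ * s) • a = a
          rw [mul_smul, h, inv_smul_smul]
        have hact : ∀ h ∈ H, ∀ s : G, h • s • a = (h * s * h⁻¹) • a := fun h hh s => by
          rw [mul_smul, mul_smul, show h⁻¹ • a = a from H.inv_mem hh]
        have hmemS : ∀ ω : MulAction.orbit H (t • a), ∀ s ∈ N, (ω : Ω) = s • a → ∃ h ∈ H, h * t * h⁻¹ = s := by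
          rintro ⟨_, ⟨⟨h, hh⟩, rfl⟩⟩ s hs e
          refine ⟨h, hh, hinj _ (hNn.conj_mem t (hTN ht) h) s hs ?_⟩
          rw [← hact h hh]; exact e
        have hB : MulAction.IsBlock H B := by
          rw [MulAction.isBlock_iff_smul_eq_of_nonempty]
          have hsub : ∀ h : H, (h • B ∩ B).Nonempty → h • B ⊆ B := by
            rintro ⟨h, hh⟩ ⟨_, ⟨u, ⟨s, hs, hus⟩, rfl⟩, ⟨r, hr, hur⟩⟩ _ ⟨v, ⟨q, hq, hvq⟩, rfl⟩
            refine ⟨h * q * h⁻¹, ?_, by show h • (v : Ω) = _; rw [hvq, hact h hh]⟩
            have he : h * s * h⁻¹ = r := hinj _ (hNn.conj_mem s (hTN hs) h) r (hTN hr) (by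
              rw [← hact h hh, ← hus]; exact hur)
            by_contra hq'
            have hnle : ¬ conjT h ≤ T := fun hle => hq' (hle (hmem h q hq))
            obtain ⟨k, -, hk⟩ := hmemS u s (hTN hs) hus
            have hs1 : s ≠ 1 := fun h1 => ht1 (by
              have := hk.trans h1
              rwa [conj_eq_one_iff] at this)
            refine hs1 (conj_eq_one_iff.mp (he ▸ hTcenter r hr fun w hw => ?_ : h * s * h⁻¹ = 1))
            exact hcomm h hnle w hw r (he ▸ hmem h s hs)
          intro h hne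
          refine (hsub h hne).antisymm ?_
          rw [Set.subset_smul_set_iff]
          refine hsub h⁻¹ ?_
          obtain ⟨ω, h1, h2⟩ := hne
          exact ⟨h⁻¹ • ω, Set.smul_mem_smul_set h2, by rwa [Set.mem_smul_set_iff_inv_smul_mem] at h1⟩
        have htB : (⟨t • a, MulAction.mem_orbit_self _⟩ : MulAction.orbit H (t • a)) ∈ B := ⟨t, ht, rfl⟩
        rcases (hep a (t • a)).isTrivialBlock_of_isBlock hB with hs | hu
        · intro h hh hT'
          refine hinj _ (hTN hT') t (hTN ht) ?_
          have hmB : (⟨h • t • a, ⟨⟨h, hh⟩, rfl⟩⟩ : MulAction.orbit H (t • a)) ∈ B :=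
            ⟨h * t * h⁻¹, hT', hact h hh t⟩
          rw [← hact h hh]
          exact congrArg Subtype.val (hs hmB htB)
        · exfalso
          obtain ⟨s, hs, hse⟩ : (⟨h₀ • t • a, ⟨⟨h₀, hh₀⟩, rfl⟩⟩ : MulAction.orbit H (t • a)) ∈ B :=
            hu ▸ Set.mem_univ _
          have he := hinj _ (hNn.conj_mem t (hTN ht) h₀) s (hTN hs) (by rw [← hact h₀ hh₀]; exact hse)
          refine ht1 (conj_eq_one_iff.mp (he.trans (hTcenter s hs fun w hw =>
            hcomm h₀ hh₀T w hw s (he ▸ hmem h₀ t ht))))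
      -- elements of the orbit of `t` other than `t` centralize `T`
      have hoth : ∀ x ∈ S, x ≠ t → ∀ w ∈ T, Commute w x := by
        intro x hx hxt w hw
        obtain ⟨h, hh, rfl⟩ := (Finset.mem_filter.mp hx).2
        exact hcomm h (fun hle => hxt (hsingle h hh (hle (hmem h t ht)))) w hw _ (hmem h t ht)
      have htS : t ∈ S := Finset.mem_filter.mpr ⟨Finset.mem_univ _, 1, H.one_mem, by simp⟩
      have hpair : (S : Set G).Pairwise (Function.onFun Commute id) := by
        intro x hx y hy hxy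
        obtain ⟨h, hh, he⟩ := hS t htS x hx
        have hy' : h⁻¹ * y * h ∈ S := by
          obtain ⟨k, hk, rfl⟩ := (Finset.mem_filter.mp hy).2
          exact Finset.mem_filter.mpr ⟨Finset.mem_univ _, h⁻¹ * k, H.mul_mem (H.inv_mem hh) hk, by group⟩
        have := (hoth _ hy' (fun e => hxy (by rw [← he, ← e]; group)) t ht).map (MulAut.conj h).toMonoidHom
        simp only [MulEquiv.coe_toMonoidHom, MulAut.conj_apply, he] at this
        simpa [mul_assoc, Function.onFun] using this
      set P := S.noncommProd id hpair with hP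
      have hPN : P ∈ N := Subgroup.noncommProd_mem N _ (fun x hx => hSN x hx)
      have hPfix : ∀ h ∈ H, h * P * h⁻¹ = P := by
        intro h hh
        have himg : S.image (MulAut.conj h) = S := by
          refine Finset.eq_of_subset_of_card_le ?_ (by rw [Finset.card_image_of_injective _ (MulAut.conj h).injective])
          intro y hy
          obtain ⟨x, hx, rfl⟩ := Finset.mem_image.mp hy
          obtain ⟨k, hk, rfl⟩ := (Finset.mem_filter.mp hx).2
          exact Finset.mem_filter.mpr ⟨Finset.mem_univ _, h * k, H.mul_mem hh hk,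
            show h * k * t * (h * k)⁻¹ = h * (k * t * k⁻¹) * h⁻¹ by group⟩
        have hcomm' : ((S.image (MulAut.conj h) : Finset G) : Set G).Pairwise (Function.onFun Commute id) := by
          rw [himg]; exact hpair
        calc h * P * h⁻¹ = MulAut.conj h (S.noncommProd id hpair) := rfl
          _ = (S.image (MulAut.conj h)).noncommProd id hcomm' := by
            rw [Finset.map_noncommProd]
            simp only [Finset.noncommProd, Finset.image_val_of_injOn (MulAut.conj h).injective.injOn,
              Multiset.map_map, Function.id_comp]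
            rfl
          _ = P := Finset.noncommProd_congr himg (fun x _ => rfl) _
      have hP1 : P ≠ 1 := by
        intro hP1
        have hni : t ∉ S.erase t := Finset.notMem_erase t S
        have hrest : (S.erase t).noncommProd id (hpair.mono (by simp)) ∈ Subgroup.centralizer (T : Set G) :=
          Subgroup.noncommProd_mem _ _ fun x hx => Subgroup.mem_centralizer_iff.mpr fun w hw =>
            (hoth x (Finset.mem_of_mem_erase hx) (Finset.ne_of_mem_erase hx) w hw).eq
        have he : P = t * (S.erase t).noncommProd id (hpair.mono (by simp)) :=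
          (Finset.mul_noncommProd_erase S htS id hpair).symm
        rw [he, mul_eq_one_iff_eq_inv] at hP1
        exact ht1 (hTcenter t ht fun w hw => by
          have h1 : Commute w ((S.erase t).noncommProd id (hpair.mono (by simp)))⁻¹ :=
            Commute.inv_right (Subgroup.mem_centralizer_iff.mp hrest w hw)
          rwa [← hP1] at h1)
      have hPa : P • a ≠ a := fun h => hP1 (Subgroup.mem_bot.mp (hD ▸ ⟨hPN, h⟩ : P ∈ (⊥ : Subgroup G)))
      refine stabilizer_ne_of_ne hH hPa ?_
      refine (Subgroup.eq_of_le_of_card_ge (fun h hh => ?_) ?_).symm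
      · show h • P • a = P • a
        conv_rhs => rw [← hPfix h hh]
        rw [mul_smul, mul_smul, show h⁻¹ • a = a from H.inv_mem hh]
      · exact (Nat.card_congr (MulAction.stabilizerEquivStabilizerOfOrbitRel
          (⟨P, rfl⟩ : (MulAction.orbitRel G Ω) (P • a) a)).toEquiv).le
    · -- two factors with a diagonal point stabilizer
      set D := N ⊓ H with hDdef
      have hDnorm : ∀ h ∈ H, ∀ d ∈ D, h * d * h⁻¹ ∈ D := fun h hh d hd =>
        ⟨hNn.conj_mem d hd.1 h, H.mul_mem (H.mul_mem hh hd.2) (H.inv_mem hh)⟩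
      have hDT : ∀ d ∈ D, ∀ t ∈ T, d * t * d⁻¹ ∈ T := fun d hd => hTnorm d hd.1
      -- conjugates by elements of `H` exhaust all conjugates
      have hconjH : ∀ g, ∃ h ∈ H, conjT g = conjT h := by
        intro g
        obtain ⟨u, hu, h, hh, rfl⟩ := hNH g
        refine ⟨h, hh, Subgroup.eq_of_le_of_card_ge ?_ ?_⟩
        · rintro _ ⟨t, ht, rfl⟩
          have := hconjnorm h u hu _ (hmem h t ht)
          show u * h * t * (u * h)⁻¹ ∈ conjT h
          simpa [mul_assoc] using this
        · exact ((Nat.card_congr (T.equivMapOfInjective _ (MulAut.conj (u * h)).injective).toEquiv).symm.trans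
            (Nat.card_congr (T.equivMapOfInjective _ (MulAut.conj h).injective).toEquiv)).ge
      -- every element of `T` is congruent modulo `D` to an element of another factor
      have hsplit0 : ∀ h ∈ H, ∀ t ∈ T, t • a ≠ a → ∃ v ∈ conjT h, v * t ∈ D := by
        intro h hh t ht hta
        obtain ⟨d, hd, hde⟩ := exists_inter_smul_eq hta (hep a (t • a)) N hD hh
        set s := h * t * h⁻¹
        have hs : s ∈ conjT h := hmem h t ht
        have hsa : s • a = h • t • a := by
          rw [mul_smul, mul_smul, show h⁻¹ • a = a from H.inv_mem hh]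
        have he : s⁻¹ * d * t ∈ D := by
          refine ⟨N.mul_mem (N.mul_mem (N.inv_mem (hconjN h hs)) hd.1) (hTN ht), ?_⟩
          show (s⁻¹ * d * t) • a = a
          rw [mul_smul, mul_smul, hde, ← hsa, inv_smul_smul]
        refine ⟨d⁻¹ * s⁻¹ * d, ?_, ?_⟩
        · have := hconjnorm h d⁻¹ (N.inv_mem hd.1) s⁻¹ ((conjT h).inv_mem hs)
          rwa [inv_inv] at this
        · have := D.mul_mem (D.inv_mem hd) he
          simpa [mul_assoc] using this
      have hcomm' : ∀ g g', ¬ conjT g' ≤ conjT g → ∀ x ∈ conjT g, ∀ y ∈ conjT g', Commute x y := by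
        rintro g g' hgg _ ⟨t, ht, rfl⟩ _ ⟨r, hr, rfl⟩
        have hni : ¬ conjT (g⁻¹ * g') ≤ T := fun hle => hgg (by
          rintro _ ⟨q, hq, rfl⟩
          refine ⟨(g⁻¹ * g') * q * (g⁻¹ * g')⁻¹, hle (hmem _ q hq), ?_⟩
          show g * ((g⁻¹ * g') * q * (g⁻¹ * g')⁻¹) * g⁻¹ = g' * q * g'⁻¹
          group)
        have := (hcomm _ hni t ht _ (hmem _ r hr)).map (MulAut.conj g).toMonoidHom
        show Commute (g * t * g⁻¹) (g' * r * g'⁻¹)
        simpa [mul_assoc] using this
      have hTH : ∀ t ∈ T, t ∈ H → t = 1 := by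
        by_contra hcon
        push Not at hcon
        obtain ⟨t₁, ht₁, ht₁H, ht₁1⟩ := hcon
        -- `T ∩ D` is normal in `T`
        let Q : Subgroup T := D.subgroupOf T
        have hQ : Q.Normal := by
          refine ⟨fun q hq t => ?_⟩
          show (t : G) * q * (t : G)⁻¹ ∈ D
          by_cases hta : (t : G) • a = a
          · exact hDnorm t hta q hq
          obtain ⟨v, hv, hvt⟩ := hsplit0 h₀ hh₀ t t.2 hta
          have h1 := hDnorm _ hvt.2 q hq
          have h2 := (hcomm h₀ hh₀T _ (hTnorm t (hTN t.2) q q.2) v hv).eq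
          have h3 : v * t * q * (v * t)⁻¹ = (v * ((t : G) * q * (t : G)⁻¹)) * v⁻¹ := by group
          rw [h3, ← h2, mul_inv_cancel_right] at h1
          exact h1
        rcases hQ.eq_bot_or_eq_top with hQe | hQe
        · have h1 : (⟨t₁, ht₁⟩ : T) ∈ Q := (⟨hTN ht₁, ht₁H⟩ : t₁ ∈ D)
          rw [hQe, Subgroup.mem_bot] at h1
          exact ht₁1 (congrArg Subtype.val h1)
        · have hTD : T ≤ D := Subgroup.subgroupOf_eq_top.mp hQe
          have hND : N ≤ D := hgen _ fun g => by
            obtain ⟨h, hh, he⟩ := hconjH g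
            rw [he]
            rintro _ ⟨t, ht, rfl⟩
            exact hDnorm h hh t (hTD ht)
          obtain ⟨x, hx⟩ := exists_ne a
          obtain ⟨u, hu, hux⟩ := htr N hNn hN a x
          exact hx (hux ▸ (hND hu).2)
      have hsplit : ∀ h ∈ H, ∀ t ∈ T, ∃ v ∈ conjT h, v * t ∈ D := by
        intro h hh t ht
        by_cases hta : t • a = a
        · exact ⟨1, (conjT h).one_mem, by rw [hTH t ht hta, one_mul]; exact D.one_mem⟩
        · exact hsplit0 h hh t ht hta
      set U := conjT h₀
      have hcard : ∀ g, Nat.card (conjT g) = Nat.card T := fun g =>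
        (Nat.card_congr (T.equivMapOfInjective _ (MulAut.conj g).injective).toEquiv).symm
      have htwo : ∀ g, ¬ conjT g ≤ T → conjT g = U := by
        intro g hg
        obtain ⟨h, hh, he⟩ := hconjH g
        rw [he] at hg ⊢
        by_contra hne
        have hni : ¬ conjT h ≤ U := fun hle =>
          hne (Subgroup.eq_of_le_of_card_ge hle (by rw [hcard, hcard]))
        refine hTna ⟨⟨fun x y => Subtype.ext ?_⟩⟩
        obtain ⟨v, hv, hvx⟩ := hsplit h₀ hh₀ x x.2
        obtain ⟨w, hw, hwy⟩ := hsplit h hh y y.2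
        have h1 : Commute v w := hcomm' h₀ h hni v hv w hw
        have h2 : Commute (x : G) v := hcomm h₀ hh₀T x x.2 v hv
        have h3 : Commute (x : G) w := hcomm h hg x x.2 w hw
        have h4 : Commute (y : G) v := hcomm h₀ hh₀T y y.2 v hv
        have h5 : Commute (y : G) w := hcomm h hg y y.2 w hw
        have hm := D.mul_mem (D.inv_mem (D.mul_mem hwy hvx)) (D.mul_mem hvx hwy)
        have e1 : w * y * (v * x) = v * w * (y * x) := by
          rw [mul_assoc w, ← mul_assoc (y : G), h4.eq, mul_assoc v, ← mul_assoc w, h1.eq]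
        have e2 : v * x * (w * y) = v * w * (x * y) := by
          rw [mul_assoc v, ← mul_assoc (x : G), h3.eq, mul_assoc w, ← mul_assoc v]
        rw [e1, e2] at hm
        have e3 : (v * w * ((y : G) * x))⁻¹ * (v * w * (x * y)) = ((y : G) * x)⁻¹ * (x * y) := by group
        rw [e3] at hm
        have := hTH _ (T.mul_mem (T.inv_mem (T.mul_mem y.2 x.2)) (T.mul_mem x.2 y.2)) hm.2
        exact (inv_mul_eq_one.mp this).symm
      -- the isomorphism between the two factors
      choose ψ hψU hψD using hsplit h₀ hh₀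
      let Ψ : T → U := fun t => ⟨ψ t t.2, hψU t t.2⟩
      have hUH : ∀ v ∈ U, v ∈ D → v = 1 := by
        rintro _ ⟨t, ht, rfl⟩ hvD
        have hvD' : h₀ * t * h₀⁻¹ ∈ D := hvD
        have h1 := hDnorm h₀⁻¹ (H.inv_mem hh₀) _ hvD'
        rw [show h₀⁻¹ * (h₀ * t * h₀⁻¹) * h₀⁻¹⁻¹ = t by group] at h1
        simp [hTH t ht h1.2]
      have hψuniq : ∀ t : T, ∀ v ∈ U, v * t ∈ D → v = Ψ t := by
        intro t v hv hvt
        have h1 := D.mul_mem hvt (D.inv_mem (hψD t t.2))
        rw [show v * t * (ψ t t.2 * t)⁻¹ = v * (ψ t t.2)⁻¹ by group] at h1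
        exact mul_inv_eq_one.mp (hUH _ (U.mul_mem hv (U.inv_mem (hψU t t.2))) h1)
      have hψcomm : ∀ t : T, ∀ v ∈ U, Commute (t : G) v := fun t v hv => hcomm h₀ hh₀T t t.2 v hv
      have hΨmul : ∀ s t, Ψ (s * t) = Ψ s * Ψ t := fun s t => Subtype.ext <| by
        refine (hψuniq (s * t) _ (U.mul_mem (hψU s s.2) (hψU t t.2)) ?_).symm
        have h1 := D.mul_mem (hψD s s.2) (hψD t t.2)
        have e : ψ s s.2 * s * (ψ t t.2 * t) = ψ s s.2 * ψ t t.2 * ((s : G) * t) := by
          rw [mul_assoc (ψ s s.2), ← mul_assoc (s : G), (hψcomm s _ (hψU t t.2)).eq]; group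
        rw [e] at h1
        exact h1
      have hΨinj : Function.Injective Ψ := by
        intro s t he
        have h1 := D.mul_mem (D.inv_mem (hψD s s.2)) (hψD t t.2)
        rw [show ψ t t.2 = ψ s s.2 from congrArg Subtype.val he.symm,
          show (ψ s s.2 * s)⁻¹ * (ψ s s.2 * t) = ((s⁻¹ * t : T) : G) by push_cast; group] at h1
        exact inv_mul_eq_one.mp (Subtype.ext (hTH _ (s⁻¹ * t).2 h1.2))
      have hΨbij : Function.Bijective Ψ :=
        Function.Injective.bijective_of_nat_card_le hΨinj (hcard h₀).le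
      let Ψe : T ≃* U := MulEquiv.ofBijective (MonoidHom.mk' Ψ hΨmul) hΨbij
      have hUa : ∀ u : T, (Ψe u : G) • a = ((u⁻¹ : T) : G) • a := by
        intro u
        have h1 : (ψ u u.2 * u) • a = a := (hψD u u.2).2
        rw [← (hψcomm u _ (hψU u u.2)).eq, mul_smul, ← eq_inv_smul_iff] at h1
        exact h1
      have hfree : ∀ t ∈ T, t • a = a → t = 1 := fun t ht h => hTH t ht h
      have htrT : ∀ ω : Ω, ∃ t ∈ T, t • a = ω := by
        have hDle : D ≤ Subgroup.normalizer (T : Set G) := by
          intro d hd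
          rw [Subgroup.mem_normalizer_iff]
          refine fun x => ⟨hDT d hd x, fun hx => ?_⟩
          have := hDT d⁻¹ (D.inv_mem hd) _ hx
          simpa [mul_assoc] using this
        have hle : N ≤ T ⊔ D := hgen _ fun g => by
          by_cases hg : conjT g ≤ T
          · exact hg.trans le_sup_left
          rw [htwo g hg]
          intro v hv
          obtain ⟨t, ht⟩ := hΨbij.2 ⟨v, hv⟩
          have hv' : v = ψ t t.2 * t * (t : G)⁻¹ := by
            rw [mul_inv_cancel_right]; exact (congrArg Subtype.val ht).symm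
          rw [hv']
          exact Subgroup.mul_mem _ (le_sup_right (a := T) (hψD t t.2)) (Subgroup.inv_mem _ (le_sup_left (b := D) t.2))
        intro ω
        obtain ⟨u, hu, hua⟩ := htr N hNn hN a ω
        have hmemu : u ∈ (T : Set G) * (D : Set G) := by
          rw [← Subgroup.coe_mul_of_right_le_normalizer_left T D hDle]
          exact hle hu
        obtain ⟨t, ht, d, hd, rfl⟩ := Set.mem_mul.mp hmemu
        exact ⟨t, ht, by rw [← hua, mul_smul, show d • a = a from hd.2]⟩
      refine false_of_diagonal T hTna (bijective_smul T htrT hfree) (hep a) ?_ ?_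
      · intro g
        refine ⟨⟨ψ g g.2 * g, (hψD g g.2).2⟩, fun t => ?_⟩
        show (ψ g g.2 * g) • (t : G) • a = ((g * t * g⁻¹ : T) : G) • a
        have e : ψ g g.2 * g * t = ((g * t * g⁻¹ : T) : G) * (ψ g g.2 * g) := by
          rw [← mul_assoc, (hψcomm (g * t * g⁻¹) _ (hψU g g.2)).eq]
          push_cast; group
        rw [← mul_smul, e, mul_smul, show (ψ g g.2 * g) • a = a from (hψD g g.2).2]
      · rintro ⟨h, hh⟩
        by_cases hle : conjT h ≤ T
        · refine ⟨fun t => ⟨h * t * h⁻¹, hle (hmem h t t.2)⟩, fun t => ?_, fun t j => ?_, fun s t hst => ?_⟩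
          · show h • (t : G) • a = (h * t * h⁻¹) • a
            rw [mul_smul, mul_smul, show h⁻¹ • a = a from H.inv_mem hh]
          · apply Subtype.ext; push_cast; rw [conj_pow]
          · apply Subtype.ext
            have := (congrArg Subtype.val hst.eq : (s : G) * t = t * s)
            show h * s * h⁻¹ * (h * t * h⁻¹) = h * t * h⁻¹ * (h * s * h⁻¹)
            calc h * s * h⁻¹ * (h * t * h⁻¹) = h * ((s : G) * t) * h⁻¹ := by group
              _ = h * ((t : G) * s) * h⁻¹ := by rw [show (s : G) * t = t * s from this]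
              _ = _ := by group
        · have hU : ∀ t : T, h * t * h⁻¹ ∈ U := fun t => htwo h hle ▸ hmem h t t.2
          let c : T →* U := MonoidHom.mk' (fun t => ⟨h * t * h⁻¹, hU t⟩) fun s t => Subtype.ext (by push_cast; group)
          let τ : T →* T := Ψe.symm.toMonoidHom.comp c
          refine ⟨fun t => (τ t)⁻¹, fun t => ?_, fun t j => by simp [inv_pow],
            fun s t hst => (hst.map τ).inv_inv⟩
          show h • (t : G) • a = _
          rw [← hUa (τ t)]
          show h • (t : G) • a = ((Ψe (Ψe.symm (c t)) : U) : G) • a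
          rw [Ψe.apply_symm_apply]
          show h • (t : G) • a = (h * t * h⁻¹) • a
          rw [mul_smul, mul_smul, show h⁻¹ • a = a from H.inv_mem hh]
  · -- two regular minimal normal subgroups
    exfalso
    set C := Subgroup.centralizer (N : Set G)
    have hCn : C.Normal := inferInstance
    have hfree : ∀ u ∈ N, u • a = a → u = 1 := by
      intro u hu hua
      refine FaithfulSMul.eq_of_smul_eq_smul (α := Ω) fun ω => ?_
      obtain ⟨c, hc, rfl⟩ := htr C hCn hC a ω
      rw [one_smul, ← mul_smul, Subgroup.mem_centralizer_iff.mp hc u hu, mul_smul, hua]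
    have hinj : ∀ s ∈ N, ∀ r ∈ N, s • a = r • a → s = r := fun s hs r hr h => by
      refine (inv_mul_eq_one.mp (hfree _ (N.mul_mem (N.inv_mem hr) hs) ?_)).symm
      rw [mul_smul, h, inv_smul_smul]
    have hact : ∀ h ∈ H, ∀ s : G, h • s • a = (h * s * h⁻¹) • a := fun h hh s => by
      rw [mul_smul, mul_smul, show h⁻¹ • a = a from H.inv_mem hh]
    have hinn : ∀ g ∈ N, ∃ d ∈ (N ⊔ C) ⊓ H, ∀ t ∈ N, d * t * d⁻¹ = g * t * g⁻¹ := by
      intro g hg
      obtain ⟨c, hc, hca⟩ := htr C hCn hC a (g • a)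
      refine ⟨c⁻¹ * g, ⟨Subgroup.mul_mem _ (Subgroup.inv_mem _ (le_sup_right (a := N) hc)) (le_sup_left (b := C) hg),
        show (c⁻¹ * g) • a = a by rw [mul_smul, ← hca, inv_smul_smul]⟩, fun t ht => ?_⟩
      have h1 := Subgroup.mem_centralizer_iff.mp (C.inv_mem hc) (g * t * g⁻¹) (hNn.conj_mem t ht g)
      calc c⁻¹ * g * t * (c⁻¹ * g)⁻¹ = c⁻¹ * (g * t * g⁻¹) * c := by group
        _ = g * t * g⁻¹ := by rw [← h1]; group
    have hNCT : N ⊔ C ≤ Subgroup.normalizer (T : Set G) := by
      refine sup_le (fun u hu => ?_) (fun c hc => ?_)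
      · rw [Subgroup.mem_normalizer_iff]
        refine fun x => ⟨hTnorm u hu x, fun hx => ?_⟩
        have := hTnorm u⁻¹ (N.inv_mem hu) _ hx
        simpa [mul_assoc] using this
      · rw [Subgroup.mem_normalizer_iff]
        refine fun x => ⟨fun hx => ?_, fun hx => ?_⟩
        · rwa [← Subgroup.mem_centralizer_iff.mp hc x (hTN hx), mul_inv_cancel_right]
        · have h1 := Subgroup.mem_centralizer_iff.mp hc _ (hTN hx)
          rw [inv_mul_cancel_right] at h1
          have h2 : c * x * c⁻¹ = x := mul_left_cancel (a := c) (by rw [← h1])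
          rwa [h2] at hx
    have hD : (N ⊔ C) ⊓ H ≠ ⊥ := by
      obtain ⟨g, hg, hg1⟩ := T.bot_or_exists_ne_one.resolve_left hT
      obtain ⟨d, hd, hde⟩ := hinn g (hTN hg)
      intro h
      rw [h, Subgroup.mem_bot] at hd
      refine hg1 (hTcenter g hg fun u hu => ?_)
      have := hde u (hTN hu)
      rw [hd, one_mul, inv_one, mul_one] at this
      show u * g = g * u
      calc u * g = g * u * g⁻¹ * g := by rw [← this]
        _ = g * u := by group
    have hTG : T.Normal := by
      refine ⟨fun t ht g => ?_⟩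
      obtain ⟨u, hu, h, hh, rfl⟩ := hNH g
      have hht : h * t * h⁻¹ ∈ T := by
        by_cases hta : t • a = a
        · simp [hfree t (hTN ht) hta, T.one_mem]
        obtain ⟨d, hd, hde⟩ := exists_inter_smul_eq hta (hep a (t • a)) (N ⊔ C) hD hh
        have he := hinj _ (hNn.conj_mem t (hTN ht) d) _ (hNn.conj_mem t (hTN ht) h)
          (by rw [← hact d hd.2, ← hact h hh]; exact hde)
        rw [← he]
        exact (Subgroup.mem_normalizer_iff.mp (hNCT hd.1) t).mp ht
      have := hTnorm u hu _ hht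
      simpa [mul_assoc] using this
    have hTeq : T = N := hTN.antisymm (hNmin ⟨hTG, hT⟩ hTN)
    refine false_of_diagonal T hTna (bijective_smul T ?_ fun t ht => hfree t (hTN ht)) (hep a) ?_ ?_
    · rw [hTeq]; exact htr N hNn hN a
    · intro g
      obtain ⟨d, hd, hde⟩ := hinn g (hTN g.2)
      refine ⟨⟨d, hd.2⟩, fun t => ?_⟩
      show d • (t : G) • a = ((g * t * g⁻¹ : T) : G) • a
      rw [hact d hd.2, hde t (hTN t.2)]
      rfl
    · rintro ⟨h, hh⟩
      refine ⟨fun t => ⟨h * t * h⁻¹, hTG.conj_mem t t.2 h⟩, fun t => hact h hh t, fun t j => ?_, fun s t hst => ?_⟩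
      · apply Subtype.ext; push_cast; rw [conj_pow]
      · apply Subtype.ext
        have := (congrArg Subtype.val hst.eq : (s : G) * t = t * s)
        show h * s * h⁻¹ * (h * t * h⁻¹) = h * t * h⁻¹ * (h * s * h⁻¹)
        calc h * s * h⁻¹ * (h * t * h⁻¹) = h * ((s : G) * t) * h⁻¹ := by group
          _ = h * ((t : G) * s) * h⁻¹ := by rw [show (s : G) * t = t * s from this]
          _ = _ := by group

end action

end Cfsg.Agent.SmallOrder
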