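import Cfsg.Agent.SmallOrder.Manning
import Cfsg.Agent.Core.MinimalNormal

/-!
Structure of the point stabilizer of an extremely primitive group; fixed-point-free abelian groups.
-/

namespace Cfsg.Agent.SmallOrder

/-- An elementary abelian `r`-group acting fixed point freely on a non-trivial abelian group without
`r`-torsion has no two independent elements. -/
theorem mem_zpowers_of_fpf {A : Type*} [CommGroup A] {V : Type*} [AddCommGroup V] [Nontrivial V]
    (f : A →* AddMonoid.End V) {r : ℕ} (hr : r.Prime) (hA : ∀ x : A, x ^ r = 1)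
    (hfree : ∀ x : A, x ≠ 1 → ∀ v : V, f x v = v → v = 0) (hV : ∀ v : V, r • v = 0 → v = 0)
    {a : A} (ha : a ≠ 1) (b : A) : b ∈ Subgroup.zpowers a := by
  by_contra hb
  have hsum : ∀ x : A, x ≠ 1 → ∑ j ∈ Finset.range r, f (x ^ j) = 0 := by
    intro x hx
    refine AddMonoidHom.ext fun v => hfree x hx _ ?_
    have h1 : f x * ∑ j ∈ Finset.range r, f (x ^ j) = ∑ j ∈ Finset.range r, f (x ^ j) := by
      obtain ⟨s, hs⟩ : ∃ s, r = s + 1 := ⟨r - 1, by have := hr.pos; omega⟩
      rw [Finset.mul_sum, hs, Finset.sum_range_succ, Finset.sum_range_succ' (fun j => f (x ^ j))]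
      simp only [← map_mul, ← pow_succ', pow_zero]
      rw [← hs, hA]
    exact DFunLike.congr_fun h1 v
  have hb1 : b ≠ 1 := fun h => hb (h ▸ Subgroup.one_mem _)
  have : Fact r.Prime := ⟨hr⟩
  have hne : ∀ i : ℕ, b * a ^ i ≠ 1 := fun i h => hb (by
    rw [eq_inv_of_mul_eq_one_left h]
    exact Subgroup.inv_mem _ (Subgroup.pow_mem _ (Subgroup.mem_zpowers a) i))
  have htot : ∑ i ∈ Finset.range r, ∑ j ∈ Finset.range r, f ((b * a ^ i) ^ j) = 0 :=
    Finset.sum_eq_zero fun i _ => hsum _ (hne i)
  rw [Finset.sum_comm, Finset.sum_eq_single 0] at htot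
  · simp only [pow_zero, Finset.sum_const, Finset.card_range] at htot
    obtain ⟨v, hv⟩ := exists_ne (0 : V)
    refine hv (hV v ?_)
    have := DFunLike.congr_fun htot v
    rw [map_one] at this
    exact this
  · intro j hj hj0
    have haj : a ^ j ≠ 1 := fun h => by
      have h1 : orderOf a = r := orderOf_eq_prime (hA a) ha
      have h2 := Nat.le_of_dvd (Nat.pos_of_ne_zero hj0) (h1 ▸ orderOf_dvd_of_pow_eq_one h)
      exact absurd (Finset.mem_range.mp hj) (by omega)
    simp only [mul_pow, map_mul, ← Finset.mul_sum]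
    rw [Finset.sum_congr rfl fun i _ => show f ((a ^ i) ^ j) = f ((a ^ j) ^ i) by rw [← pow_mul, ← pow_mul, mul_comm],
      hsum _ haj, mul_zero]
  · intro h
    exact absurd (Finset.mem_range.mpr hr.pos) h

variable {G : Type*} [Group G] {Ω : Type*} [MulAction G Ω]

/-- The hypotheses: primitive, extremely primitive, with non-trivial stabilizers. -/
structure IsExtremelyPrimitive (G : Type*) [Group G] (Ω : Type*) [MulAction G Ω] : Prop where
  prim : MulAction.IsPreprimitive G Ω
  ne_bot : ∀ α : Ω, MulAction.stabilizer G α ≠ ⊥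
  ext : ∀ α ω : Ω, MulAction.IsPreprimitive (MulAction.stabilizer G α) (MulAction.orbit (MulAction.stabilizer G α) ω)

namespace IsExtremelyPrimitive

variable [Finite G] [Fintype Ω] [FaithfulSMul G Ω] {α : Ω}

theorem normal_transitive (E : IsExtremelyPrimitive G Ω) {ω : Ω} (hω : ω ≠ α)
    (A : Subgroup (MulAction.stabilizer G α)) [A.Normal] (hA : A ≠ ⊥) (h : MulAction.stabilizer G α) :
    ∃ a ∈ A, a • ω = h • ω := by
  have hB := MulAction.IsBlock.orbit_of_normal (G := MulAction.stabilizer G α) (N := A)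
    (⟨ω, MulAction.mem_orbit_self _⟩ : MulAction.orbit (MulAction.stabilizer G α) ω)
  rcases (E.ext α ω).isTrivialBlock_of_isBlock hB with hs | hu
  · exfalso
    apply hA
    rw [eq_bot_iff]
    intro a ha
    refine Subgroup.mem_bot.mpr (Subtype.ext (manning E.prim E.ne_bot E.ext hω a.2 ?_))
    rintro _ ⟨k, rfl⟩
    have h1 : k⁻¹ * a * k ∈ A := by simpa using (inferInstance : A.Normal).conj_mem a ha k⁻¹
    have h2 : (k⁻¹ * a * k) • ω = ω :=
      congrArg Subtype.val (hs (MulAction.mem_orbit (⟨ω, MulAction.mem_orbit_self _⟩ : MulAction.orbit (MulAction.stabilizer G α) ω)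
        (⟨_, h1⟩ : A)) (MulAction.mem_orbit_self _))
    show a • k • ω = k • ω
    rw [mul_smul, mul_smul, inv_smul_eq_iff] at h2
    exact h2
  · obtain ⟨⟨a, ha⟩, he⟩ : (⟨h • ω, ⟨h, rfl⟩⟩ : MulAction.orbit (MulAction.stabilizer G α) ω) ∈
        MulAction.orbit A (⟨ω, MulAction.mem_orbit_self _⟩ : MulAction.orbit (MulAction.stabilizer G α) ω) :=
      hu ▸ Set.mem_univ _
    exact ⟨a, ha, congrArg Subtype.val he⟩

theorem abelian_free (E : IsExtremelyPrimitive G Ω) {ω : Ω} (hω : ω ≠ α)
    (A : Subgroup (MulAction.stabilizer G α)) [A.Normal] (hA : A ≠ ⊥) {a : MulAction.stabilizer G α}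
    (ha : ∀ b ∈ A, a * b = b * a) (hfix : a • ω = ω) : a = 1 := by
  refine Subtype.ext (manning E.prim E.ne_bot E.ext hω a.2 ?_)
  rintro _ ⟨k, rfl⟩
  obtain ⟨b, hb, hbk⟩ := E.normal_transitive hω A hA k
  show a • k • ω = k • ω
  rw [← hbk, ← mul_smul, ha b hb, mul_smul, hfix]

theorem exists_ne_point (E : IsExtremelyPrimitive G Ω) (α : Ω) : ∃ ω : Ω, ω ≠ α := by
  by_contra h
  push Not at h
  apply E.ne_bot α
  rw [eq_bot_iff]
  exact fun x _ => Subgroup.mem_bot.mpr (FaithfulSMul.eq_of_smul_eq_smul (α := Ω) fun c => by rw [h (x • c), h ((1 : G) • c)])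

theorem centralizer_le (E : IsExtremelyPrimitive G Ω)
    (A : Subgroup (MulAction.stabilizer G α)) [A.Normal] (hA : A ≠ ⊥) (hc : IsMulCommutative A) :
    Subgroup.centralizer (A : Set (MulAction.stabilizer G α)) ≤ A := by
  intro c hcA
  obtain ⟨ω, hω⟩ := E.exists_ne_point α
  obtain ⟨a, ha, he⟩ := E.normal_transitive hω A hA c
  have h1 : a⁻¹ * c = 1 := by
    refine E.abelian_free hω A hA (fun b hb => ?_) ?_
    · have h2 : Commute a b := congrArg Subtype.val (hc.is_comm.comm ⟨a, ha⟩ ⟨b, hb⟩)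
      have h3 : Commute c b := (Subgroup.mem_centralizer_iff.mp hcA b hb).symm
      exact (h2.inv_left.mul_left h3).eq
    · rw [mul_smul, ← he, inv_smul_smul]
  rwa [← inv_mul_eq_one.mp h1]

theorem orbit_card_eq (E : IsExtremelyPrimitive G Ω) {ω : Ω} (hω : ω ≠ α)
    (A : Subgroup (MulAction.stabilizer G α)) [A.Normal] (hA : A ≠ ⊥) (hc : IsMulCommutative A) :
    Nat.card (MulAction.orbit (MulAction.stabilizer G α) ω) = Nat.card A := by
  refine (Nat.card_congr (Equiv.ofBijective
    (fun a : A => (⟨a.1 • ω, ⟨a.1, rfl⟩⟩ : MulAction.orbit (MulAction.stabilizer G α) ω)) ⟨fun a b h => ?_, ?_⟩)).symm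
  · have h' : a.1 • ω = b.1 • ω := congrArg Subtype.val h
    have := E.abelian_free hω A hA (a := b.1⁻¹ * a.1)
      (fun d hd => congrArg Subtype.val (hc.is_comm.comm (b⁻¹ * a) ⟨d, hd⟩))
      (by rw [mul_smul, h', inv_smul_smul])
    exact Subtype.ext (inv_mul_eq_one.mp this).symm
  · rintro ⟨_, ⟨k, rfl⟩⟩
    obtain ⟨a, ha, he⟩ := E.normal_transitive hω A hA k
    exact ⟨⟨a, ha⟩, Subtype.ext he⟩

theorem card_dvd (E : IsExtremelyPrimitive G Ω)
    (A : Subgroup (MulAction.stabilizer G α)) [A.Normal] (hA : A ≠ ⊥) (hc : IsMulCommutative A) :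
    Nat.card A ∣ Fintype.card Ω - 1 := by
  classical
  let H := MulAction.stabilizer G α
  have := Fintype.ofFinite (MulAction.orbitRel.Quotient H Ω)
  have hsum : Fintype.card Ω = ∑ q : MulAction.orbitRel.Quotient H Ω, Nat.card (MulAction.orbit H q.out) := by
    rw [← Nat.card_eq_fintype_card, Nat.card_congr (MulAction.selfEquivSigmaOrbits H Ω), Nat.card_sigma]
  rw [← Finset.add_sum_erase _ _ (Finset.mem_univ (Quotient.mk'' α))] at hsum
  have h1 : Nat.card (MulAction.orbit H (Quotient.out (Quotient.mk'' α : MulAction.orbitRel.Quotient H Ω))) = 1 := by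
    have hs : MulAction.orbit H α = {α} := by
      refine Set.eq_singleton_iff_unique_mem.mpr ⟨MulAction.mem_orbit_self _, ?_⟩
      rintro x ⟨⟨y, hy⟩, rfl⟩
      exact hy
    have hm : Quotient.out (Quotient.mk'' α : MulAction.orbitRel.Quotient H Ω) ∈ MulAction.orbit H α :=
      MulAction.orbitRel_apply.mp (Quotient.exact' (Quotient.out_eq' _))
    rw [hs, Set.mem_singleton_iff] at hm
    rw [hm, hs, Nat.card_unique]
  rw [hsum, h1, Nat.add_sub_cancel_left]
  refine Finset.dvd_sum fun q hq => ?_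
  rw [E.orbit_card_eq (fun h => (Finset.mem_erase.mp hq).1 (by rw [← Quotient.out_eq q, h])) A hA hc]

theorem center_eq_bot (E : IsExtremelyPrimitive G Ω) (hp : ¬ (Nat.card (MulAction.stabilizer G α)).Prime) :
    Subgroup.center (MulAction.stabilizer G α) = ⊥ := by
  by_contra hZ
  obtain ⟨z, hz, hz1⟩ := (Subgroup.center (MulAction.stabilizer G α)).bot_or_exists_ne_one.resolve_left hZ
  have hcomm : ∀ g, g * z = z * g := Subgroup.mem_center_iff.mp hz
  have htop : ∀ y : MulAction.stabilizer G α, y ≠ 1 → (∀ g, g * y = y * g) → Subgroup.zpowers y = ⊤ := by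
    intro y hy1 hy
    have hn : (Subgroup.zpowers y).Normal := by
      refine ⟨fun u hu g => ?_⟩
      obtain ⟨i, rfl⟩ := Subgroup.mem_zpowers_iff.mp hu
      rw [((show Commute g y from hy g).zpow_right i).eq, mul_inv_cancel_right]
      exact hu
    refine eq_top_iff.mpr fun g _ => E.centralizer_le (Subgroup.zpowers y)
      (Subgroup.zpowers_ne_bot.mpr hy1) inferInstance (Subgroup.mem_centralizer_iff.mpr fun u hu => ?_)
    obtain ⟨i, rfl⟩ := Subgroup.mem_zpowers_iff.mp hu
    exact ((show Commute g y from hy g).zpow_right i).eq.symm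
  have hall : ∀ g : MulAction.stabilizer G α, ∀ h, h * g = g * h := by
    intro g h
    obtain ⟨i, rfl⟩ := Subgroup.mem_zpowers_iff.mp ((htop z hz1 hcomm).symm ▸ Subgroup.mem_top g :
      g ∈ Subgroup.zpowers z)
    exact ((show Commute h z from hcomm h).zpow_right i).eq
  have : Nontrivial (MulAction.stabilizer G α) := ⟨⟨z, 1, hz1⟩⟩
  obtain ⟨q, hq, hqd⟩ := Nat.exists_prime_and_dvd (Finite.one_lt_card (α := MulAction.stabilizer G α)).ne'
  have := Fact.mk hq
  obtain ⟨y, hy⟩ := exists_prime_orderOf_dvd_card' q hqd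
  apply hp
  rw [← Subgroup.card_top, ← htop y (fun h => hq.ne_one (by rw [← hy, h, orderOf_one])) (hall y),
    Nat.card_zpowers, hy]
  exact hq

theorem fittingSubgroup_eq (E : IsExtremelyPrimitive G Ω) {A : Subgroup (MulAction.stabilizer G α)}
    (hA : Core.IsMinNormal A) (hAF : A ≤ Cfsg.fittingSubgroup (MulAction.stabilizer G α)) :
    Cfsg.fittingSubgroup (MulAction.stabilizer G α) = A ∧ IsMulCommutative A ∧
      ∃ p : ℕ, p.Prime ∧ (∀ x ∈ A, x ^ p = 1) ∧ IsPGroup p A := by
  have := hA.1
  have hs : Group.IsSolvable A := by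
    have := Core.isSolvable_fittingSubgroup (MulAction.stabilizer G α)
    exact Group.isSolvable_of_isSolvable_injective (Subgroup.inclusion_injective hAF)
  obtain ⟨hc, hp⟩ := hA.elementaryAbelian hs
  exact ⟨le_antisymm (hA.fittingSubgroup_le_centralizer.trans (E.centralizer_le A hA.2.1 hc)) hAF, hc, hp⟩

end IsExtremelyPrimitive

/-- An action by endomorphisms on an elementary abelian group gives a matrix representation. -/
theorem exists_GL_of_end {H V : Type*} [Group H] [AddCommGroup V] [Finite V] {p e : ℕ} [Fact p.Prime]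
    [Module (ZMod p) V] (c : H →* AddMonoid.End V) (he : Nat.card V = p ^ e) :
    ∃ φ : H →* GL (Fin e) (ZMod p), ∀ h, φ h = 1 ↔ ∀ v, c h v = v := by
  have hfin : Module.finrank (ZMod p) V = e := by
    have h := Module.natCard_eq_pow_finrank (K := ZMod p) (V := V)
    rw [Nat.card_zmod, he] at h
    exact (Nat.pow_right_injective (Fact.out : p.Prime).two_le h).symm
  let b : Module.Basis (Fin e) (ZMod p) V := Module.finBasisOfFinrankEq (ZMod p) V hfin
  let ψ : H →* Module.End (ZMod p) V :=
    { toFun := fun h => AddMonoidHom.toZModLinearMap p (c h : V →+ V)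
      map_one' := LinearMap.ext fun x => DFunLike.congr_fun (map_one c) x
      map_mul' := fun g h => LinearMap.ext fun x => DFunLike.congr_fun (map_mul c g h) x }
  refine ⟨(Units.map (LinearMap.toMatrixAlgEquiv b).toRingEquiv.toRingHom.toMonoidHom).comp ψ.toHomUnits,
    fun h => ⟨fun hh v => ?_, fun hh => Units.ext ?_⟩⟩
  · have h2 : ψ h = 1 := (LinearMap.toMatrixAlgEquiv b).injective (by
      rw [map_one]; exact congrArg Units.val hh)
    exact LinearMap.congr_fun h2 v
  · have h2 : ψ h = 1 := LinearMap.ext hh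
    show (LinearMap.toMatrixAlgEquiv b) (ψ h) = 1
    rw [h2, map_one]

/-- The conjugation representation on an elementary abelian normal subgroup of order `p ^ e`. -/
theorem exists_conj_GL {H : Type*} [Group H] [Finite H] (A : Subgroup H) [A.Normal] (hc : IsMulCommutative A)
    {p e : ℕ} [Fact p.Prime] (hA : ∀ x ∈ A, x ^ p = 1) (he : Nat.card A = p ^ e) :
    ∃ φ : H →* GL (Fin e) (ZMod p), φ.ker = Subgroup.centralizer (A : Set H) := by
  let : CommGroup A := { (inferInstance : Group A) with mul_comm := hc.is_comm.comm }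
  have h0 : ∀ x : Additive A, p • x = 0 := fun x =>
    Additive.toMul.injective (Subtype.ext (by
      show ((Additive.toMul x ^ p : A) : H) = 1
      rw [Subgroup.coe_pow]; exact hA _ (Additive.toMul x).2))
  let c : H →* AddMonoid.End (Additive A) :=
    { toFun := fun h => MonoidHom.toAdditive (MulAut.conjNormal h : MulAut A).toMonoidHom
      map_one' := AddMonoidHom.ext fun x => Additive.toMul.injective (Subtype.ext (by
        show ((MulAut.conjNormal (1 : H) (Additive.toMul x) : A) : H) = _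
        rw [map_one]; rfl))
      map_mul' := fun g h => AddMonoidHom.ext fun x => Additive.toMul.injective (Subtype.ext (by
        show ((MulAut.conjNormal (g * h) (Additive.toMul x) : A) : H) = _
        rw [map_mul]; rfl)) }
  obtain ⟨φ, hφ⟩ := @exists_GL_of_end H (Additive A) _ _ _ p e _ (AddCommGroup.zmodModule h0) c
    (by rw [Nat.card_congr (Additive.toMul (α := A)), he])
  refine ⟨φ, ?_⟩
  ext h
  rw [MonoidHom.mem_ker, hφ, Subgroup.mem_centralizer_iff]
  constructor
  · intro hh x hx
    have h3 := congrArg (fun y : Additive A => ((Additive.toMul y : A) : H)) (hh (Additive.ofMul (⟨x, hx⟩ : A)))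
    have h4 : h * x * h⁻¹ = x := h3
    exact (mul_inv_eq_iff_eq_mul.mp h4).symm
  · intro hh v
    refine Additive.toMul.injective (Subtype.ext ?_)
    show h * ((Additive.toMul v : A) : H) * h⁻¹ = ((Additive.toMul v : A) : H)
    rw [← hh _ (Additive.toMul v).2, mul_inv_cancel_right]

end Cfsg.Agent.SmallOrder
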