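import Cfsg.Agent.SmallOrder.SelfCentInvolution

/-!
The count of products of two conjugate involutions in the class of a self-centralising element of
odd prime order, for every odd prime.
-/

set_option autoImplicit false
set_option linter.unusedSectionVars false

namespace Cfsg.Agent.SmallOrder.SelfCentDeg

open Cfsg Cfsg.Agent

universe u

open scoped ComplexConjugate Classical

variable {G : Type u} [Group G] [Fintype G] {p : ℕ} [hp : Fact p.Prime] {x : G}

/-- The counting for an inverting involution: `M` is the order of its centralizer. -/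
theorem involution_count_three (hx : orderOf x = p) (hC : Subgroup.centralizer ({x} : Set G) = Subgroup.zpowers x)
    (hp3 : 3 ≤ p) {t : G} (ht : orderOf t = 2) (hinv : t * x * t⁻¹ = x⁻¹) (i : ZMod p) (hi : i ≠ 0) :
    Nat.card {y // y ∈ (OddChar.clOf t).image (t * ·) ∧ IsConj y (x ^ i.val)} =
      Nat.card (Subgroup.centralizer ({t} : Set G)) := by
  classical
  have h2 : t * t = 1 := by rw [← sq, ← ht]; exact pow_orderOf_eq_one t
  have hti : t⁻¹ = t := inv_eq_of_mul_eq_one_right h2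
  set J := OddChar.clOf t with hJ
  symm
  have hmem : ∀ g : G, g ∈ Subgroup.centralizer ({t} : Set G) → g * x ^ i.val * g⁻¹ ∈ J.image (t * ·) ∧
      IsConj (g * x ^ i.val * g⁻¹) (x ^ i.val) := by
    intro g hg
    refine ⟨Finset.mem_image.2 ⟨t * (g * x ^ i.val * g⁻¹), OddChar.mem_clOf.2 ?_, by rw [← mul_assoc, h2, one_mul]⟩,
      (isConj_iff.2 ⟨g, rfl⟩).symm⟩
    -- `t` is conjugate to `t * x^i` under a power of `x`
    set j : ℕ := (-(i * (2 : ZMod p)⁻¹)).val with hj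
    refine isConj_iff.2 ⟨g * x ^ j, ?_⟩
    have hgc : g⁻¹ * t * g = t := by
      rw [mul_assoc, ← Subgroup.mem_centralizer_singleton_iff.1 hg, ← mul_assoc, inv_mul_cancel, one_mul]
    have e1 : x ^ j * t * (x ^ j)⁻¹ = t * ((x ^ j)⁻¹ * (x ^ j)⁻¹) := by
      have := inverts_pow t hinv j
      calc x ^ j * t * (x ^ j)⁻¹ = t * (t⁻¹ * x ^ j * t) * (x ^ j)⁻¹ := by group
        _ = _ := by rw [hti]; rw [hti] at this; rw [this, mul_assoc]
    have e2 : (x ^ j)⁻¹ * (x ^ j)⁻¹ = x ^ i.val := by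
      rw [← mul_inv_rev, ← pow_add]
      refine inv_eq_of_mul_eq_one_right ?_
      rw [← pow_add, ← orderOf_dvd_iff_pow_eq_one, hx, ← ZMod.natCast_eq_zero_iff]
      push_cast
      rw [hj, ZMod.natCast_zmod_val, ZMod.natCast_zmod_val]
      have h20 : (2 : ZMod p) ≠ 0 := by
        intro h
        have := (ZMod.natCast_eq_zero_iff 2 p).1 (by exact_mod_cast h)
        have := Nat.le_of_dvd (by norm_num) this
        omega
      calc -(i * (2 : ZMod p)⁻¹) + -(i * (2 : ZMod p)⁻¹) + i = i - i * ((2 : ZMod p) * (2 : ZMod p)⁻¹) := by ring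
        _ = 0 := by rw [mul_inv_cancel₀ h20, mul_one, sub_self]
    calc g * x ^ j * t * (g * x ^ j)⁻¹ = g * (x ^ j * t * (x ^ j)⁻¹) * g⁻¹ := by group
      _ = g * (t * x ^ i.val) * g⁻¹ := by rw [e1, e2]
      _ = g * t * g⁻¹ * (g * x ^ i.val * g⁻¹) := by group
      _ = t * (g * x ^ i.val * g⁻¹) := by
          rw [Subgroup.mem_centralizer_singleton_iff.1 hg, mul_inv_cancel_right]
  refine Nat.card_eq_of_bijective
    (fun g : Subgroup.centralizer ({t} : Set G) => (⟨(g : G) * x ^ i.val * (g : G)⁻¹, hmem g g.2⟩ :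
      {y // y ∈ J.image (t * ·) ∧ IsConj y (x ^ i.val)})) ⟨?_, ?_⟩
  · intro g g' h
    have e := congrArg Subtype.val h
    simp only at e
    have hcx : ((g' : G)⁻¹ * (g : G)) ∈ Subgroup.centralizer ({x ^ i.val} : Set G) := by
      rw [Subgroup.mem_centralizer_singleton_iff]
      calc (g' : G)⁻¹ * g * x ^ i.val = (g' : G)⁻¹ * ((g : G) * x ^ i.val * (g : G)⁻¹) * g := by group
        _ = _ := by rw [e]; group
    have hct : ((g' : G)⁻¹ * (g : G)) ∈ Subgroup.centralizer ({t} : Set G) := mul_mem (inv_mem g'.2) g.2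
    have hd1 := Subgroup.orderOf_dvd_natCard _ hcx
    rw [centralizer_pow hx hC hi] at hd1
    rcases hp.out.eq_one_or_self_of_dvd _ hd1 with h' | h'
    · rw [orderOf_eq_one_iff] at h'
      exact Subtype.ext (eq_of_inv_mul_eq_one h').symm
    exfalso
    have hle : Subgroup.centralizer ({x} : Set G) ≤ Subgroup.centralizer ({x ^ i.val} : Set G) := fun y hy =>
      Subgroup.mem_centralizer_singleton_iff.2 (Commute.pow_right (Subgroup.mem_centralizer_singleton_iff.1 hy) _)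
    have heq : Subgroup.zpowers ((g' : G)⁻¹ * g) = Subgroup.centralizer ({x ^ i.val} : Set G) :=
      Subgroup.eq_of_le_of_card_ge (Subgroup.zpowers_le.2 hcx) (by rw [Nat.card_zpowers, h', centralizer_pow hx hC hi])
    have hxg : x ∈ Subgroup.centralizer ({t} : Set G) := by
      have hx' : x ∈ Subgroup.zpowers ((g' : G)⁻¹ * g) := by
        rw [heq]; exact hle (Subgroup.mem_centralizer_singleton_iff.2 rfl)
      exact Subgroup.zpowers_le.2 hct hx'
    have : x⁻¹ = x := by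
      rw [← hinv, ← Subgroup.mem_centralizer_singleton_iff.1 hxg, mul_inv_cancel_right]
    have hsq : x ^ 2 = 1 := by rw [sq]; nth_rw 1 [← this]; rw [inv_mul_cancel]
    have := Nat.le_of_dvd (by norm_num) (hx ▸ orderOf_dvd_of_pow_eq_one hsq)
    omega
  · rintro ⟨z, hz, hzc⟩
    obtain ⟨y, hy, rfl⟩ := Finset.mem_image.1 hz
    obtain ⟨h, hh⟩ := isConj_iff.1 hzc.symm
    obtain ⟨w, hw⟩ := isConj_iff.1 (OddChar.mem_clOf.1 hy)
    have hy2 : y * y = 1 := by
      rw [← hw, show w * t * w⁻¹ * (w * t * w⁻¹) = w * (t * t) * w⁻¹ by group, h2]; group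
    -- `h⁻¹ t h` inverts `x`
    have hinv' : (h⁻¹ * t * h) * x * (h⁻¹ * t * h)⁻¹ = x⁻¹ := by
      have e0 : (h⁻¹ * t * h) * x ^ i.val * (h⁻¹ * t * h)⁻¹ = (x ^ i.val)⁻¹ := by
        rw [show (h⁻¹ * t * h) * x ^ i.val * (h⁻¹ * t * h)⁻¹ = h⁻¹ * (t * (h * x ^ i.val * h⁻¹) * t⁻¹) * h by group,
          hh, show t * (t * y) * t⁻¹ = (t * t) * y * t⁻¹ by group, h2, one_mul]
        rw [show (x ^ i.val)⁻¹ = h⁻¹ * (h * x ^ i.val * h⁻¹)⁻¹ * h by group, hh, mul_inv_rev,
          inv_eq_of_mul_eq_one_right hy2]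
      have e1 := congrArg (· ^ i⁻¹.val) e0
      simp only [inv_pow, conj_pow, pow_val_mul hx, mul_inv_cancel₀ hi, pow_val_one hx] at e1
      exact e1
    have hmem' : t⁻¹ * (h⁻¹ * t * h) ∈ Subgroup.centralizer ({x} : Set G) := by
      rw [Subgroup.mem_centralizer_singleton_iff]
      calc t⁻¹ * (h⁻¹ * t * h) * x = t⁻¹ * ((h⁻¹ * t * h) * x * (h⁻¹ * t * h)⁻¹) * (h⁻¹ * t * h) := by group
        _ = t⁻¹ * (t * x * t⁻¹) * (h⁻¹ * t * h) := by rw [hinv', hinv]
        _ = _ := by group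
    rw [hC] at hmem'
    obtain ⟨a, ha⟩ := (Submonoid.mem_powers_iff _ _).1 (mem_powers_iff_mem_zpowers.2 hmem')
    set j : ℕ := ((a : ZMod p) * (2 : ZMod p)⁻¹).val with hj
    have e2 : x ^ j * x ^ j = x ^ a := by
      rw [← pow_add, pow_eq_pow_iff_modEq, hx, ← ZMod.natCast_eq_natCast_iff]
      push_cast
      rw [hj, ZMod.natCast_zmod_val]
      have h20 : (2 : ZMod p) ≠ 0 := by
        intro h
        have := (ZMod.natCast_eq_zero_iff 2 p).1 (by exact_mod_cast h)
        have := Nat.le_of_dvd (by norm_num) this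
        omega
      calc (a : ZMod p) * (2 : ZMod p)⁻¹ + (a : ZMod p) * (2 : ZMod p)⁻¹ =
          (a : ZMod p) * ((2 : ZMod p) * (2 : ZMod p)⁻¹) := by ring
        _ = a := by rw [mul_inv_cancel₀ h20, mul_one]
    have e3 : h⁻¹ * t * h = (x ^ j)⁻¹ * t * x ^ j := by
      have e4 : (x ^ j)⁻¹ * t = t * x ^ j := by
        rw [← inverts_pow t hinv j]; group
      rw [e4, mul_assoc t, e2, ha, mul_inv_cancel_left]
    refine ⟨⟨h * (x ^ j)⁻¹, Subgroup.mem_centralizer_singleton_iff.2 ?_⟩, Subtype.ext ?_⟩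
    · calc h * (x ^ j)⁻¹ * t = h * ((x ^ j)⁻¹ * t * x ^ j) * (x ^ j)⁻¹ := by group
        _ = _ := by rw [← e3]; group
    · show h * (x ^ j)⁻¹ * x ^ i.val * (h * (x ^ j)⁻¹)⁻¹ = t * y
      rw [← hh, show h * (x ^ j)⁻¹ * x ^ i.val * (h * (x ^ j)⁻¹)⁻¹ = h * ((x ^ j)⁻¹ * x ^ i.val * x ^ j) * h⁻¹ by group,
        mul_assoc (x ^ j)⁻¹, (Commute.pow_pow_self x i.val j).eq, inv_mul_cancel_left]

end Cfsg.Agent.SmallOrder.SelfCentDeg
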