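import Cfsg.Agent.SmallOrder.Basic
import Cfsg.Agent.Core.MinimalNormal
import Mathlib

/-!
A simple factor of a non-abelian minimal normal subgroup.
-/

namespace Cfsg.Agent.SmallOrder

/-- The conjugate `g T g⁻¹`. -/
abbrev cjSub {G : Type*} [Group G] (T : Subgroup G) (g : G) : Subgroup G := T.map (MulAut.conj g).toMonoidHom

theorem mem_cjSub {G : Type*} [Group G] {T : Subgroup G} {g t : G} (ht : t ∈ T) : g * t * g⁻¹ ∈ cjSub T g :=
  ⟨t, ht, rfl⟩

/-- A non-abelian minimal normal subgroup `N` has a simple factor `T`: normal in `N`, every other conjugate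
commutes with it, and `N = T * C_N(T)`. -/
theorem exists_simple_factor {G : Type*} [Group G] [Finite G] {N : Subgroup G} (hN : Core.IsMinNormal N)
    (hna : ¬ IsMulCommutative N) :
    ∃ T : Subgroup G, T ≤ N ∧ IsSimpleGroup T ∧ ¬ IsMulCommutative T ∧
      (∀ u ∈ N, ∀ t ∈ T, u * t * u⁻¹ ∈ T) ∧ (∀ t ∈ T, (∀ u ∈ T, Commute u t) → t = 1) ∧
      (∀ g, ¬ cjSub T g ≤ T → ∀ t ∈ T, ∀ s ∈ cjSub T g, Commute t s) ∧
      (∀ x ∈ N, ∃ t ∈ T, ∃ c ∈ N, (∀ s ∈ T, Commute s c) ∧ x = t * c) ∧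
      (T.Normal → T = N) := by
  classical
  obtain ⟨hNn, hN0, hNmin⟩ := hN
  obtain ⟨T, ⟨hTN, hT, hTnorm⟩, hTmin⟩ := (Set.toFinite
    {M : Subgroup G | M ≤ N ∧ M ≠ ⊥ ∧ ∀ u ∈ N, ∀ t ∈ M, u * t * u⁻¹ ∈ M}).exists_minimal
    ⟨N, le_rfl, hN0, fun u hu t ht => N.mul_mem (N.mul_mem hu ht) (N.inv_mem hu)⟩
  have hconjN : ∀ g, cjSub T g ≤ N := by
    rintro g _ ⟨t, ht, rfl⟩
    exact hNn.conj_mem t (hTN ht) g
  have hconjnorm : ∀ g, ∀ u ∈ N, ∀ t ∈ cjSub T g, u * t * u⁻¹ ∈ cjSub T g := by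
    rintro g u hu _ ⟨t, ht, rfl⟩
    refine ⟨(g⁻¹ * u * g) * t * (g⁻¹ * u * g)⁻¹, hTnorm _ (by simpa using hNn.conj_mem u hu g⁻¹) t ht, ?_⟩
    show g * ((g⁻¹ * u * g) * t * (g⁻¹ * u * g)⁻¹) * g⁻¹ = u * (g * t * g⁻¹) * u⁻¹
    group
  have hcomm : ∀ g, ¬ cjSub T g ≤ T → ∀ t ∈ T, ∀ s ∈ cjSub T g, Commute t s := by
    intro g hg t ht s hs
    have hint : T ⊓ cjSub T g = ⊥ := by
      by_contra h
      exact hg (by
        have h1 : T ≤ T ⊓ cjSub T g := hTmin (y := T ⊓ cjSub T g) ⟨inf_le_left.trans hTN, h,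
          fun u hu x hx => ⟨hTnorm u hu x hx.1, hconjnorm g u hu x hx.2⟩⟩ inf_le_left
        refine (Subgroup.eq_of_le_of_card_ge (h1.trans inf_le_right) ?_).ge
        exact (Nat.card_congr (T.equivMapOfInjective _ (MulAut.conj g).injective).toEquiv).ge)
    have hm : t * s * t⁻¹ * s⁻¹ ∈ T ⊓ cjSub T g := by
      refine ⟨?_, (cjSub T g).mul_mem (hconjnorm g t (hTN ht) s hs) ((cjSub T g).inv_mem hs)⟩
      have := T.mul_mem ht (hTnorm s (hconjN g hs) t⁻¹ (T.inv_mem ht))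
      simpa [mul_assoc] using this
    rw [hint, Subgroup.mem_bot, mul_inv_eq_one, mul_inv_eq_iff_eq_mul] at hm
    exact hm
  have hgen : ∀ M : Subgroup G, (∀ g, cjSub T g ≤ M) → N ≤ M := by
    intro M hM
    have h1 : Subgroup.normalClosure (T : Set G) ≤ M := by
      rw [Subgroup.normalClosure, Subgroup.closure_le]
      intro x hx
      rw [Group.mem_conjugatesOfSet_iff] at hx
      obtain ⟨t, ht, hc⟩ := hx
      obtain ⟨c, rfl⟩ := isConj_iff.mp hc
      exact hM c (mem_cjSub ht)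
    rcases hNmin _ Subgroup.normalClosure_normal (Subgroup.normalClosure_le_normal fun t ht => hTN ht) with h | h
    · exact absurd (le_bot_iff.mp (h ▸ Subgroup.le_normalClosure)) hT
    · exact h ▸ h1
  -- the product `T * C_N(T)`
  let S : Subgroup G :=
    { carrier := {x | ∃ t ∈ T, ∃ c ∈ N, (∀ s ∈ T, Commute s c) ∧ x = t * c}
      one_mem' := ⟨1, T.one_mem, 1, N.one_mem, fun s _ => Commute.one_right s, (one_mul 1).symm⟩
      mul_mem' := by
        rintro _ _ ⟨t, ht, c, hc, hcs, rfl⟩ ⟨t', ht', c', hc', hcs', rfl⟩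
        refine ⟨t * t', T.mul_mem ht ht', c * c', N.mul_mem hc hc', fun s hs => (hcs s hs).mul_right (hcs' s hs), ?_⟩
        rw [mul_assoc, ← mul_assoc c, ← (hcs t' ht').eq]
        group
      inv_mem' := by
        rintro _ ⟨t, ht, c, hc, hcs, rfl⟩
        refine ⟨t⁻¹, T.inv_mem ht, c⁻¹, N.inv_mem hc, fun s hs => (hcs s hs).inv_right, ?_⟩
        rw [(hcs t ht).inv_inv.eq, mul_inv_rev] }
  have hNS : N ≤ S := by
    refine hgen S fun g s hs => ?_
    by_cases hg : cjSub T g ≤ T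
    · exact ⟨s, hg hs, 1, N.one_mem, fun w _ => Commute.one_right w, (mul_one s).symm⟩
    · exact ⟨1, T.one_mem, s, hconjN g hs, fun w hw => hcomm g hg w hw s hs, (one_mul s).symm⟩
  have hTna : ¬ IsMulCommutative T := by
    intro hc
    refine hna ⟨⟨fun x y => Subtype.ext ?_⟩⟩
    have hN1 : ∀ u ∈ N, ∀ t ∈ T, Commute t u := by
      intro u hu t ht
      obtain ⟨t', ht', c, -, hcs, rfl⟩ := hNS hu
      exact Commute.mul_right (congrArg Subtype.val (hc.is_comm.comm ⟨t, ht⟩ ⟨t', ht'⟩)) (hcs t ht)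
    have hN2 : N ≤ Subgroup.centralizer (N : Set G) := by
      refine hgen _ ?_
      rintro g _ ⟨t, ht, rfl⟩
      rw [Subgroup.mem_centralizer_iff]
      intro u hu
      have h1 := (hN1 (g⁻¹ * u * g) (by simpa using hNn.conj_mem u hu g⁻¹) t ht).map (MulAut.conj g).toMonoidHom
      simp only [MulEquiv.coe_toMonoidHom, MulAut.conj_apply] at h1
      simpa [mul_assoc] using h1.eq.symm
    exact Subgroup.mem_centralizer_iff.mp (hN2 y.2) x x.2
  have hTs : IsSimpleGroup T := by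
    have : Nontrivial T := (Subgroup.nontrivial_iff_ne_bot T).mpr hT
    refine ⟨fun M hM => ?_⟩
    by_cases hM0 : M = ⊥
    · exact Or.inl hM0
    right
    have hM' : M.map T.subtype ≠ ⊥ := fun h =>
      hM0 ((Subgroup.map_eq_bot_iff_of_injective _ T.subtype_injective).mp h)
    have hle := hTmin (y := M.map T.subtype) ⟨(Subgroup.map_subtype_le _).trans hTN, hM', fun u hu m hm => ?_⟩
      (Subgroup.map_subtype_le _)
    · refine eq_top_iff.mpr fun x _ => ?_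
      obtain ⟨y, hy, hyx⟩ := hle x.2
      exact Subtype.ext hyx ▸ hy
    · obtain ⟨t, ht, c, -, hcs, rfl⟩ := hNS hu
      obtain ⟨y, hy, rfl⟩ := hm
      refine ⟨⟨t, ht⟩ * y * ⟨t, ht⟩⁻¹, hM.conj_mem y hy _, ?_⟩
      show t * (y : G) * t⁻¹ = t * c * (y : G) * (t * c)⁻¹
      rw [mul_assoc t c, ← (hcs y y.2).eq]
      group
  refine ⟨T, hTN, hTs, hTna, hTnorm, ?_, hcomm, fun x hx => hNS hx, fun hn => ?_⟩
  · intro t ht hc
    rcases (inferInstance : (Subgroup.center T).Normal).eq_bot_or_eq_top with h | h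
    · have : (⟨t, ht⟩ : T) ∈ Subgroup.center T :=
        Subgroup.mem_center_iff.mpr fun u => Subtype.ext (hc u u.2)
      rw [h, Subgroup.mem_bot] at this
      exact congrArg Subtype.val this
    · exact absurd (Subgroup.center_eq_top_iff.mp h) hTna
  · exact (hNmin T hn hTN).resolve_left hT

end Cfsg.Agent.SmallOrder
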