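import Cfsg.Agent.Chars.Orth
import Cfsg.Agent.Chars.Eigen
import Cfsg.Agent.Chars.Linear
import Mathlib.NumberTheory.LegendreSymbol.AddCharacter
import Mathlib.Analysis.SpecialFunctions.Complex.CircleAddChar

/-!
Character degrees of a finite group with a self-centralising element of prime order `p` whose
normaliser has order `p * e` with `e ≤ 3`.
-/

set_option autoImplicit false
set_option linter.unusedSectionVars false

open scoped ComplexConjugate

namespace Cfsg.Agent.SmallOrder.SelfCentDeg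

open Cfsg Cfsg.Agent

universe u

variable {G : Type u} [Group G] [Fintype G] {p : ℕ} [hp : Fact p.Prime] {x : G}

variable (p) in
/-- The exponents giving conjugates of `x`. -/
noncomputable def expSet (x : G) : Finset (ZMod p) :=
  open scoped Classical in Finset.univ.filter fun r => IsConj x (x ^ r.val)

theorem mem_expSet {r : ZMod p} : r ∈ expSet p x ↔ IsConj x (x ^ r.val) := by
  classical
  simp [expSet]

theorem pow_val_mul (hx : orderOf x = p) (a b : ZMod p) : (x ^ a.val) ^ b.val = x ^ (a * b).val := by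
  rw [← pow_mul, ZMod.val_mul]
  conv_lhs => rw [← pow_mod_orderOf x, hx]

theorem pow_val_one (hx : orderOf x = p) : x ^ (1 : ZMod p).val = x := by
  rw [ZMod.val_one, pow_one]

theorem isConj_pow_iff (hx : orderOf x = p) {i : ZMod p} (hi : i ≠ 0) (j : ZMod p) :
    IsConj (x ^ i.val) (x ^ j.val) ↔ ∃ r ∈ expSet p x, j = r * i := by
  constructor
  · intro h
    refine ⟨j * i⁻¹, mem_expSet.2 ?_, by rw [mul_assoc, inv_mul_cancel₀ hi, mul_one]⟩
    have := h.pow i⁻¹.val
    rwa [pow_val_mul hx, pow_val_mul hx, mul_inv_cancel₀ hi, pow_val_one hx] at this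
  · rintro ⟨r, hr, rfl⟩
    have := (mem_expSet.1 hr).pow i.val
    rwa [pow_val_mul hx] at this

theorem ne_zero_of_mem (hx : orderOf x = p) {r : ZMod p} (hr : r ∈ expSet p x) : r ≠ 0 := by
  rintro rfl
  have h := mem_expSet.1 hr
  rw [ZMod.val_zero, pow_zero, isConj_one_left] at h
  exact hp.out.ne_one (by rw [← hx, h, orderOf_one])

theorem one_mem_expSet (hx : orderOf x = p) : (1 : ZMod p) ∈ expSet p x :=
  mem_expSet.2 (by rw [pow_val_one hx])

theorem inv_mem_expSet (hx : orderOf x = p) {r : ZMod p} (hr : r ∈ expSet p x) : r⁻¹ ∈ expSet p x := by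
  have h := ((mem_expSet.1 hr).pow r⁻¹.val).symm
  rw [pow_val_mul hx, mul_inv_cancel₀ (ne_zero_of_mem hx hr), pow_val_one hx] at h
  exact mem_expSet.2 h

theorem mul_mem_expSet (hx : orderOf x = p) {r s : ZMod p} (hr : r ∈ expSet p x) (hs : s ∈ expSet p x) :
    r * s ∈ expSet p x := by
  refine mem_expSet.2 ((mem_expSet.1 hs).trans ?_)
  exact (isConj_pow_iff hx (ne_zero_of_mem hx hs) _).2 ⟨r, hr, rfl⟩

theorem centralizer_pow (hx : orderOf x = p) (hC : Subgroup.centralizer ({x} : Set G) = Subgroup.zpowers x)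
    {i : ZMod p} (hi : i ≠ 0) : Nat.card (Subgroup.centralizer ({x ^ i.val} : Set G)) = p := by
  have h : Subgroup.centralizer ({x ^ i.val} : Set G) = Subgroup.centralizer ({x} : Set G) := by
    ext g
    simp only [Subgroup.mem_centralizer_singleton_iff]
    constructor
    · intro h
      have h2 : Commute g ((x ^ i.val) ^ i⁻¹.val) := Commute.pow_right h _
      rwa [pow_val_mul hx, mul_inv_cancel₀ hi, pow_val_one hx] at h2
    · exact fun h => Commute.pow_right h _
  rw [h, hC, Nat.card_zpowers, hx]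

/-- The order of the normaliser of `⟨x⟩`. -/
theorem card_normalizer (hx : orderOf x = p) (hC : Subgroup.centralizer ({x} : Set G) = Subgroup.zpowers x) :
    Nat.card (Subgroup.normalizer (Subgroup.zpowers x : Set G)) = p * (expSet p x).card := by
  classical
  have hmem : ∀ g : G, g ∈ Subgroup.normalizer (Subgroup.zpowers x : Set G) ↔
      ∃ r : ZMod p, g * x * g⁻¹ = x ^ r.val := by
    intro g
    constructor
    · intro hg
      obtain ⟨n, hn⟩ := (Submonoid.mem_powers_iff _ _).1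
        (mem_powers_iff_mem_zpowers.2 ((Subgroup.mem_normalizer_iff.1 hg x).1 (Subgroup.mem_zpowers x)))
      refine ⟨(n : ZMod p), ?_⟩
      rw [← hn, ZMod.val_natCast, ← hx, pow_mod_orderOf]
    · rintro ⟨r, hr⟩
      have hle : (Subgroup.zpowers x).map (MulAut.conj g).toMonoidHom ≤ Subgroup.zpowers x := by
        rw [MonoidHom.map_zpowers, Subgroup.zpowers_le]
        show g * x * g⁻¹ ∈ Subgroup.zpowers x
        rw [hr]
        exact Subgroup.npow_mem_zpowers x _
      rw [Subgroup.mem_normalizer_iff_map_conj_eq]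
      exact Subgroup.eq_of_le_of_card_ge hle
        (Subgroup.card_map_of_injective (MulAut.conj g).injective).ge
  have hN : Nat.card (Subgroup.normalizer (Subgroup.zpowers x : Set G)) =
      ((expSet p x).biUnion fun r => Finset.univ.filter fun g => g * x * g⁻¹ = x ^ r.val).card := by
    rw [Nat.card_eq_fintype_card, ← Fintype.card_coe]
    refine Fintype.card_congr (Equiv.subtypeEquivRight fun g => ?_)
    simp only [Finset.mem_biUnion, Finset.mem_filter, Finset.mem_univ, true_and, hmem]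
    exact ⟨fun ⟨r, hr⟩ => ⟨r, mem_expSet.2 (isConj_iff.2 ⟨g, hr⟩), hr⟩, fun ⟨r, _, hr⟩ => ⟨r, hr⟩⟩
  rw [hN, Finset.card_biUnion, Finset.sum_congr rfl (g := fun _ => p) ?_, Finset.sum_const, smul_eq_mul,
    mul_comm]
  · intro r hr
    obtain ⟨g₀, hg₀⟩ := isConj_iff.1 (mem_expSet.1 hr)
    have e : Nat.card (Subgroup.centralizer ({x} : Set G)) = p := by rw [hC, Nat.card_zpowers, hx]
    conv_rhs => rw [← e, Nat.card_eq_fintype_card, ← Finset.card_univ]
    symm
    refine Finset.card_bij (fun c _ => g₀ * (c : G)) (fun c _ => ?_) (fun c _ c' _ h => Subtype.ext (mul_left_cancel h))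
      (fun g hg => ?_)
    · simp only [Finset.mem_filter, Finset.mem_univ, true_and]
      rw [← hg₀]
      have := Subgroup.mem_centralizer_singleton_iff.1 c.2
      calc g₀ * (c : G) * x * (g₀ * c)⁻¹ = g₀ * ((c : G) * x) * (c : G)⁻¹ * g₀⁻¹ := by group
        _ = g₀ * x * g₀⁻¹ := by rw [this]; group
    · simp only [Finset.mem_filter, Finset.mem_univ, true_and] at hg
      refine ⟨⟨g₀⁻¹ * g, Subgroup.mem_centralizer_singleton_iff.2 ?_⟩, Finset.mem_univ _, by group⟩
      calc g₀⁻¹ * g * x = g₀⁻¹ * (g * x * g⁻¹) * g := by group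
        _ = g₀⁻¹ * (g₀ * x * g₀⁻¹) * g := by rw [hg, hg₀]
        _ = x * (g₀⁻¹ * g) := by group
  · intro r _ s _ hrs
    simp only [Function.onFun, Finset.disjoint_left, Finset.mem_filter, Finset.mem_univ, true_and]
    intro g h1 h2
    rw [h1] at h2
    have := pow_injOn_Iio_orderOf (x := x) (show r.val ∈ Set.Iio (orderOf x) from hx ▸ ZMod.val_lt r)
      (show s.val ∈ Set.Iio (orderOf x) from hx ▸ ZMod.val_lt s) h2
    exact hrs (ZMod.val_injective p this)

/-- The differences `d χ k = m_k - m_0` of the multiplicities of `χ` on `⟨x⟩`, with their relations. -/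
theorem exists_table (hx : orderOf x = p) (hC : Subgroup.centralizer ({x} : Set G) = Subgroup.zpowers x) :
    ∃ (d : IrrCharacter G → ZMod p → ℤ) (χ₀ : IrrCharacter G) (D : IrrCharacter G → ℕ),
      (∀ χ : IrrCharacter G, (χ : G → ℂ) 1 = D χ ∧ 0 < D χ ∧ D χ ∣ Nat.card G) ∧
      D χ₀ = 1 ∧ (commutator G = ⊤ → ∀ χ, D χ = 1 → χ = χ₀) ∧
      (∀ k, k ≠ 0 → d χ₀ k = -1) ∧
      (∀ χ, d χ 0 = 0) ∧
      (∀ χ, ∃ m : ℤ, (D χ : ℤ) = p * m + ∑ k, d χ k) ∧
      (∀ k l, k ≠ 0 → l ≠ 0 → ∑ χ, d χ k * d χ l =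
        (expSet p x).card + if ∃ r ∈ expSet p x, k = l * r then 1 else 0) ∧
      (∀ k, k ≠ 0 → ∑ χ, (D χ : ℤ) * d χ k = 0) ∧
      ∑ χ, (D χ : ℤ) ^ 2 = Nat.card G ∧
      (∀ g : G, (χ₀ : G → ℂ) g = 1) ∧
      ∀ (Y : Finset G) (M : ℕ),
        (∀ i : ZMod p, i ≠ 0 → Nat.card {y // y ∈ Y ∧ IsConj y (x ^ i.val)} = M) →
        ∀ k, k ≠ 0 → ∑ χ : IrrCharacter G, (∑ y ∈ Y, (χ : G → ℂ) y) * (d χ k : ℂ) = -((p : ℂ) * M) := by
  classical
  have hp0 : (p : ℂ) ≠ 0 := Nat.cast_ne_zero.2 hp.out.ne_zero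
  let ω : AddChar (ZMod p) ℂ := ZMod.stdAddChar
  have hω : ω.IsPrimitive := ZMod.isPrimitive_stdAddChar p
  have horth : ∀ b : ZMod p, ∑ j, ω (j * b) = if b = 0 then (p : ℂ) else 0 := fun b => by
    rw [AddChar.sum_mulShift b hω, ZMod.card]
    split_ifs <;> simp
  have hconj : ∀ a, conj (ω a) = ω (-a) := fun a => by
    rw [AddChar.map_neg_eq_conj]
  have hz : ∀ z : ℂ, z ^ p = 1 → ∃ k, z = ω k := by
    intro z hz
    have hprim : IsPrimitiveRoot (ω 1) p := by
      refine ⟨by rw [← AddChar.map_nsmul_eq_pow, nsmul_eq_mul, ZMod.natCast_self, zero_mul, AddChar.map_zero_eq_one],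
        fun l hl => ?_⟩
      rw [← AddChar.map_nsmul_eq_pow, nsmul_eq_mul, mul_one] at hl
      rw [← ZMod.natCast_eq_zero_iff]
      by_contra hne
      exact hne ((AddChar.IsPrimitive.zmod_char_eq_one_iff p hω (l : ZMod p)).1 hl)
    obtain ⟨i, -, hi⟩ := hprim.eq_pow_of_pow_eq_one hz
    exact ⟨(i : ZMod p), by rw [← hi, ← AddChar.map_nsmul_eq_pow, nsmul_eq_mul, mul_one]⟩
  -- multiplicities
  have hmult : ∀ χ : IrrCharacter G, ∃ m : ZMod p → ℕ, ∀ j : ZMod p,
      (χ : G → ℂ) (x ^ j.val) = ∑ k, (m k : ℂ) * ω (j * k) := by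
    rintro ⟨χ, n, ρ, -, rfl⟩
    obtain ⟨z, hz1, hzs, -, -⟩ := Chars.exists_eigenvalues ρ x
    choose f hf using fun i => hz (z i) (hx ▸ hz1 i)
    refine ⟨fun k => (Finset.univ.filter fun i => f i = k).card, fun j => ?_⟩
    show ρ.character (x ^ j.val) = _
    rw [hzs, ← Finset.sum_fiberwise Finset.univ f fun i => z i ^ j.val]
    refine Finset.sum_congr rfl fun k _ => ?_
    rw [Finset.sum_congr rfl (g := fun _ => ω (j * k)) fun i hi => ?_, Finset.sum_const, nsmul_eq_mul]
    rw [hf i, (Finset.mem_filter.1 hi).2, ← AddChar.map_nsmul_eq_pow, nsmul_eq_mul, ZMod.natCast_zmod_val]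
  choose m hm using hmult
  let d : IrrCharacter G → ZMod p → ℤ := fun χ k => (m χ k : ℤ) - (m χ 0 : ℤ)
  have hd : ∀ χ k, (p : ℂ) * (d χ k : ℂ) = ∑ j : ZMod p, (χ : G → ℂ) (x ^ j.val) * (ω (-(k * j)) - 1) := by
    intro χ k
    have h : ∀ c : ZMod p, ∑ j : ZMod p, (χ : G → ℂ) (x ^ j.val) * ω (-(c * j)) = (p : ℂ) * m χ c := by
      intro c
      simp only [hm, Finset.sum_mul]
      rw [Finset.sum_comm, Finset.sum_eq_single c]
      · simp only [mul_assoc, ← AddChar.map_add_eq_mul]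
        simp only [show ∀ j : ZMod p, j * c + -(c * j) = 0 from fun j => by ring, AddChar.map_zero_eq_one,
          mul_one, Finset.sum_const, Finset.card_univ, ZMod.card, nsmul_eq_mul]
      · intro k _ hk
        simp only [mul_assoc, ← AddChar.map_add_eq_mul, ← Finset.mul_sum]
        rw [show (∑ j : ZMod p, ω (j * k + -(c * j))) = ∑ j : ZMod p, ω (j * (k - c)) from
          Finset.sum_congr rfl fun j _ => by congr 1; ring, horth, if_neg (sub_ne_zero.2 hk), mul_zero]
      · simp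
    have h0 := h 0
    simp only [zero_mul, neg_zero, AddChar.map_zero_eq_one, mul_one] at h0
    simp only [mul_sub, mul_one, Finset.sum_sub_distrib, h, h0]
    simp [d, mul_sub]
  have hdeg : ∀ χ : IrrCharacter G, ∃ n : ℕ, 0 < n ∧ (χ : G → ℂ) 1 = n ∧ n ∣ Nat.card G :=
    fun χ => Chars.irr_degree_dvd_card χ.2
  choose D hD0 hD hDd using hdeg
  have hsum1 : IsIrrCharacter G (fun g => ((1 : G →* ℂˣ) g : ℂ)) := Chars.isIrrCharacter_hom _
  let χ₀ : IrrCharacter G := ⟨_, hsum1⟩
  refine ⟨d, χ₀, D, fun χ => ⟨hD χ, hD0 χ, hDd χ⟩, ?_, ?_, ?_, fun χ => sub_self _, ?_, ?_, ?_, ?_, fun g => ?_, ?_⟩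
  · have := hD χ₀
    simp only [χ₀, MonoidHom.one_apply, Units.val_one] at this
    exact_mod_cast this.symm
  · intro hperf χ hχ
    have h1 : (χ : G → ℂ) 1 = 1 := by rw [hD, hχ, Nat.cast_one]
    have hc := Chars.card_linear (G := G)
    rw [hperf, Subgroup.index_top, Nat.card_eq_one_iff_unique] at hc
    have := hc.1
    have h2 : (χ₀ : G → ℂ) 1 = 1 := by simp [χ₀]
    exact congrArg Subtype.val (Subsingleton.elim (⟨χ, h1⟩ : {χ : IrrCharacter G // (χ : G → ℂ) 1 = 1}) ⟨χ₀, h2⟩)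
  · intro k hk
    have h := hd χ₀ k
    simp only [χ₀, MonoidHom.one_apply, Units.val_one, one_mul, Finset.sum_sub_distrib, Finset.sum_const,
      Finset.card_univ, ZMod.card, nsmul_eq_mul, mul_one] at h
    rw [show (∑ j : ZMod p, ω (-(k * j))) = ∑ j : ZMod p, ω (j * (-k)) from
      Finset.sum_congr rfl fun j _ => by congr 1; ring, horth, if_neg (neg_ne_zero.2 hk), zero_sub] at h
    have h' : (p : ℂ) * (d χ₀ k : ℂ) = (p : ℂ) * ((-1 : ℤ) : ℂ) :=
      h.trans (by push_cast; ring)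
    exact_mod_cast mul_left_cancel₀ hp0 h'
  · intro χ
    refine ⟨m χ 0, ?_⟩
    have h := hm χ 0
    simp only [ZMod.val_zero, pow_zero, zero_mul, AddChar.map_zero_eq_one, mul_one, hD] at h
    have h' : D χ = ∑ k, m χ k := by exact_mod_cast h
    simp only [d, Finset.sum_sub_distrib, Finset.sum_const, Finset.card_univ, ZMod.card, nsmul_eq_mul]
    rw [h']
    push_cast
    ring
  · intro k l hk hl
    have hdc : ∀ χ, (p : ℂ) * (d χ l : ℂ) = ∑ j : ZMod p, conj ((χ : G → ℂ) (x ^ j.val)) * (ω (l * j) - 1) := by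
      intro χ
      have h := congrArg (starRingEnd ℂ) (hd χ l)
      simpa [map_sum, hconj] using h
    have key : (p : ℂ) * p * ((∑ χ, d χ k * d χ l : ℤ) : ℂ) =
        (p : ℂ) * p * (((expSet p x).card : ℂ) + if ∃ r ∈ expSet p x, k = l * r then 1 else 0) := by
      push_cast
      rw [Finset.mul_sum]
      calc ∑ χ, (p : ℂ) * p * ((d χ k : ℂ) * d χ l) =
          ∑ χ : IrrCharacter G, ∑ i : ZMod p, ∑ j : ZMod p, (ω (-(k * i)) - 1) * (ω (l * j) - 1) *
            ((χ : G → ℂ) (x ^ i.val) * conj ((χ : G → ℂ) (x ^ j.val))) := by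
            refine Finset.sum_congr rfl fun χ _ => ?_
            rw [show (p : ℂ) * p * ((d χ k : ℂ) * d χ l) = ((p : ℂ) * d χ k) * ((p : ℂ) * d χ l) by ring, hd, hdc,
              Finset.sum_mul_sum]
            exact Finset.sum_congr rfl fun i _ => Finset.sum_congr rfl fun j _ => by ring
        _ = ∑ i : ZMod p, ∑ j : ZMod p, (ω (-(k * i)) - 1) * (ω (l * j) - 1) *
            ∑ χ : IrrCharacter G, (χ : G → ℂ) (x ^ i.val) * conj ((χ : G → ℂ) (x ^ j.val)) := by
            simp only [Finset.mul_sum]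
            rw [Finset.sum_comm]
            exact Finset.sum_congr rfl fun i _ => Finset.sum_comm
        _ = ∑ i : ZMod p, ∑ r ∈ expSet p x, (ω (-(k * i)) - 1) * (ω (l * (r * i)) - 1) * p := by
            refine Finset.sum_congr rfl fun i _ => ?_
            by_cases hi : i = 0
            · simp [hi]
            have himg : (Finset.univ.filter fun j => IsConj (x ^ i.val) (x ^ j.val)) =
                (expSet p x).image (· * i) := by
              ext j
              simp only [Finset.mem_filter, Finset.mem_univ, true_and, Finset.mem_image, isConj_pow_iff hx hi]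
              exact ⟨fun ⟨r, hr, e⟩ => ⟨r, hr, e.symm⟩, fun ⟨r, hr, e⟩ => ⟨r, hr, e.symm⟩⟩
            simp only [Chars.column_orth, centralizer_pow hx hC hi, mul_ite, mul_zero]
            rw [← Finset.sum_filter, himg, Finset.sum_image fun a _ b _ h => mul_right_cancel₀ hi h]
        _ = ∑ r ∈ expSet p x, (p : ℂ) * ((if k = l * r then (p : ℂ) else 0) + p) := by
            rw [Finset.sum_comm]
            refine Finset.sum_congr rfl fun r hr => ?_
            have hlr : l * r ≠ 0 := mul_ne_zero hl (ne_zero_of_mem hx hr)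
            calc ∑ i : ZMod p, (ω (-(k * i)) - 1) * (ω (l * (r * i)) - 1) * (p : ℂ) =
                ∑ i : ZMod p, (p : ℂ) * (ω (i * (l * r - k)) - ω (i * (-k)) - ω (i * (l * r)) + 1) := by
                  refine Finset.sum_congr rfl fun i _ => ?_
                  rw [show i * (l * r - k) = -(k * i) + l * (r * i) by ring, AddChar.map_add_eq_mul,
                    show i * (-k) = -(k * i) by ring, show i * (l * r) = l * (r * i) by ring]
                  ring
              _ = _ := by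
                  rw [← Finset.mul_sum, Finset.sum_add_distrib, Finset.sum_sub_distrib, Finset.sum_sub_distrib,
                    horth, horth, horth, if_neg (neg_ne_zero.2 hk), if_neg hlr, Finset.sum_const,
                    Finset.card_univ, ZMod.card, nsmul_eq_mul, mul_one]
                  simp only [sub_eq_zero, eq_comm (a := l * r) (b := k)]
                  ring
        _ = _ := by
            rw [Finset.sum_congr rfl fun r _ => mul_add _ _ _, Finset.sum_add_distrib, Finset.sum_const, nsmul_eq_mul]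
            by_cases h : ∃ r ∈ expSet p x, k = l * r
            · obtain ⟨r, hr, e⟩ := h
              rw [if_pos ⟨r, hr, e⟩, Finset.sum_eq_single_of_mem r hr fun s _ hs => by
                rw [if_neg fun e' => hs (mul_left_cancel₀ hl (e'.symm.trans e)), mul_zero], if_pos e]
              ring
            · rw [if_neg h, Finset.sum_eq_zero fun r hr => by rw [if_neg fun e => h ⟨r, hr, e⟩, mul_zero]]
              ring
    have h' := mul_left_cancel₀ (mul_ne_zero hp0 hp0) key
    split_ifs at h' ⊢ <;> exact_mod_cast h'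
  · intro k _
    have h' : (p : ℂ) * ((∑ χ, (D χ : ℤ) * d χ k : ℤ) : ℂ) = 0 := by
      push_cast
      rw [Finset.mul_sum]
      calc ∑ χ : IrrCharacter G, (p : ℂ) * ((D χ : ℂ) * d χ k) =
          ∑ χ : IrrCharacter G, ∑ j : ZMod p,
            (ω (-(k * j)) - 1) * ((χ : G → ℂ) 1 * (χ : G → ℂ) (x ^ j.val)) := by
            refine Finset.sum_congr rfl fun χ _ => ?_
            rw [mul_left_comm, hd, Finset.mul_sum, hD]
            exact Finset.sum_congr rfl fun j _ => by ring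
        _ = ∑ j : ZMod p, (ω (-(k * j)) - 1) * ∑ χ : IrrCharacter G, (χ : G → ℂ) 1 * (χ : G → ℂ) (x ^ j.val) := by
            rw [Finset.sum_comm]
            simp only [Finset.mul_sum]
        _ = 0 := by
            refine Finset.sum_eq_zero fun j _ => ?_
            rw [Chars.sum_apply_one_mul]
            by_cases hj : j = 0
            · simp [hj]
            rw [if_neg fun e => hj ?_, mul_zero]
            have := orderOf_dvd_of_pow_eq_one e
            rw [hx] at this
            exact (ZMod.val_eq_zero j).1 (Nat.eq_zero_of_dvd_of_lt this (ZMod.val_lt j))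
    exact_mod_cast (mul_eq_zero.1 h').resolve_left hp0
  · have h := Chars.sum_sq_apply_one (G := G)
    simp only [hD] at h
    exact_mod_cast h
  · simp [χ₀]
  · intro Y M hM k hk
    refine mul_left_cancel₀ hp0 ?_
    have hdc : ∀ χ, (p : ℂ) * (d χ k : ℂ) = ∑ j : ZMod p, conj ((χ : G → ℂ) (x ^ j.val)) * (ω (k * j) - 1) := by
      intro χ
      have h := congrArg (starRingEnd ℂ) (hd χ k)
      simpa [map_sum, hconj] using h
    calc (p : ℂ) * ∑ χ : IrrCharacter G, (∑ y ∈ Y, (χ : G → ℂ) y) * (d χ k : ℂ) =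
        ∑ χ : IrrCharacter G, ∑ j : ZMod p, ∑ y ∈ Y,
          (ω (k * j) - 1) * ((χ : G → ℂ) y * conj ((χ : G → ℂ) (x ^ j.val))) := by
          rw [Finset.mul_sum]
          refine Finset.sum_congr rfl fun χ _ => ?_
          rw [mul_left_comm, hdc, Finset.mul_sum]
          refine Finset.sum_congr rfl fun j _ => ?_
          rw [Finset.sum_mul]
          exact Finset.sum_congr rfl fun y _ => by ring
      _ = ∑ j : ZMod p, ∑ y ∈ Y, (ω (k * j) - 1) *
            ∑ χ : IrrCharacter G, (χ : G → ℂ) y * conj ((χ : G → ℂ) (x ^ j.val)) := by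
          simp only [Finset.mul_sum]
          rw [Finset.sum_comm]
          exact Finset.sum_congr rfl fun j _ => Finset.sum_comm
      _ = ∑ j : ZMod p, (ω (k * j) - 1) * ((p : ℂ) * M) := by
          refine Finset.sum_congr rfl fun j _ => ?_
          by_cases hj : j = 0
          · simp [hj]
          rw [← Finset.mul_sum]
          congr 1
          simp only [Chars.column_orth]
          rw [← Finset.sum_filter, Finset.sum_congr rfl (g := fun _ => (p : ℂ)) fun y hy => ?_, Finset.sum_const,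
            ← hM j hj, Nat.card_eq_fintype_card, Fintype.card_of_subtype (Y.filter fun y => IsConj y (x ^ j.val))
              (fun y => by simp), nsmul_eq_mul, mul_comm]
          obtain ⟨c, hc⟩ := isConj_iff.1 (Finset.mem_filter.1 hy).2.symm
          have e : Subgroup.centralizer ({y} : Set G) =
              (Subgroup.centralizer ({x ^ j.val} : Set G)).map (MulAut.conj c).toMonoidHom := by
            ext g
            rw [Subgroup.mem_map_equiv, Subgroup.mem_centralizer_singleton_iff, Subgroup.mem_centralizer_singleton_iff,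
              MulAut.conj_symm_apply, ← hc]
            constructor
            · intro h
              calc c⁻¹ * g * c * x ^ j.val = c⁻¹ * (g * (c * x ^ j.val * c⁻¹)) * c := by group
                _ = _ := by rw [h]; group
            · intro h
              calc g * (c * x ^ j.val * c⁻¹) = c * (c⁻¹ * g * c * x ^ j.val) * c⁻¹ := by group
                _ = _ := by rw [h]; group
          rw [e, Subgroup.card_map_of_injective (MulAut.conj c).injective, centralizer_pow hx hC hj]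
      _ = _ := by
          rw [← Finset.sum_mul, Finset.sum_sub_distrib,
            show (∑ j : ZMod p, ω (k * j)) = ∑ j : ZMod p, ω (j * k) from
              Finset.sum_congr rfl fun j _ => by rw [mul_comm],
            horth, if_neg hk, Finset.sum_const, Finset.card_univ, ZMod.card, nsmul_eq_mul]
          ring

theorem exists_inequiv (n : ℕ) (hx : orderOf x = p) (hn : n * (expSet p x).card < p - 1)
    (K : Finset (ZMod p)) (hK : K.card ≤ n) :
    ∃ k : ZMod p, k ≠ 0 ∧ ∀ l ∈ K, ¬ ∃ r ∈ expSet p x, k = l * r := by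
  classical
  by_contra hcon
  push Not at hcon
  have hsub : Finset.univ.erase (0 : ZMod p) ⊆ K.biUnion fun l => (expSet p x).image (l * ·) := by
    intro k hk
    obtain ⟨l, hl, r, hr, e⟩ := hcon k (Finset.ne_of_mem_erase hk)
    exact Finset.mem_biUnion.2 ⟨l, hl, Finset.mem_image.2 ⟨r, hr, e.symm⟩⟩
  have h := (Finset.card_le_card hsub).trans
    (Finset.card_biUnion_le_card_mul K _ _ fun l _ => Finset.card_image_le)
  rw [Finset.card_erase_of_mem (Finset.mem_univ _), Finset.card_univ, ZMod.card] at h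
  exact absurd (h.trans (Nat.mul_le_mul_right _ hK)) (not_le.2 hn)

/-- The combinatorial content of the table for a nontrivial row. -/
structure Tab (E : Finset (ZMod p)) {ι : Type*} [Fintype ι] (u : ι → ZMod p → ℤ) (D : ι → ℤ) : Prop where
  zero : ∀ a, u a 0 = 0
  gram : ∀ k l, k ≠ 0 → l ≠ 0 → ∑ a, u a k * u a l =
    (E.card : ℤ) - 1 + if ∃ r ∈ E, k = l * r then 1 else 0
  rel : ∀ k, k ≠ 0 → ∑ a, D a * u a k = 1

theorem exists_tab (hx : orderOf x = p) (hC : Subgroup.centralizer ({x} : Set G) = Subgroup.zpowers x)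
    (hperf : commutator G = ⊤) :
    ∃ (ι : Type u) (_ : Fintype ι) (u : ι → ZMod p → ℤ) (D : ι → ℕ) (val : ι → IrrCharacter G),
      Tab (expSet p x) u (fun a => (D a : ℤ)) ∧
      (∀ a, 1 < D a ∧ D a ∣ Nat.card G ∧ ∃ m : ℤ, (D a : ℤ) = p * m + ∑ k, u a k) ∧
      ∑ a, D a ^ 2 < Nat.card G ∧ (∀ a, (val a : G → ℂ) 1 = D a) ∧
      ∀ (Y : Finset G) (M : ℕ),
        (∀ i : ZMod p, i ≠ 0 → Nat.card {y // y ∈ Y ∧ IsConj y (x ^ i.val)} = M) →
        ∀ k, k ≠ 0 → ∑ a, (∑ y ∈ Y, (val a : G → ℂ) y) * (u a k : ℂ) = (Y.card : ℂ) - (p : ℂ) * M := by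
  classical
  obtain ⟨d, χ₀, D, hD, hD1, hlin, h₀, hz, hdeg, hgram, hrel, hsq, htriv, hY⟩ := exists_table hx hC
  have hsplit : ∀ f : IrrCharacter G → ℤ,
      ∑ χ, f χ = f χ₀ + ∑ a : {χ : IrrCharacter G // χ ≠ χ₀}, f a := by
    intro f
    rw [← Finset.add_sum_erase _ _ (Finset.mem_univ χ₀)]
    congr 1
    exact Finset.sum_subtype (Finset.univ.erase χ₀) (fun χ => by simp) f
  refine ⟨{χ : IrrCharacter G // χ ≠ χ₀}, inferInstance, fun a k => d a k, fun a => D a, fun a => a,
    ⟨fun a => hz a, ?_, ?_⟩, ?_, ?_, fun a => (hD a).1, ?_⟩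
  · intro k l hk hl
    have := hgram k l hk hl
    rw [hsplit, h₀ k hk, h₀ l hl] at this
    linear_combination this
  · intro k hk
    have := hrel k hk
    rw [hsplit, hD1, h₀ k hk] at this
    push_cast at this
    linear_combination this
  · intro a
    refine ⟨?_, (hD a).2.2, hdeg a⟩
    rcases Nat.lt_or_ge 1 (D a) with h | h
    · exact h
    · exact absurd (hlin hperf a (le_antisymm h (hD a).2.1)) a.2
  · have h : ∑ a : {χ : IrrCharacter G // χ ≠ χ₀}, (D a : ℤ) ^ 2 = (Nat.card G : ℤ) - 1 := by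
      rw [hsplit, hD1] at hsq
      push_cast at hsq
      linear_combination hsq
    zify
    omega
  · intro Y M hM k hk
    have h := hY Y M hM k hk
    have hone : ∑ y ∈ Y, (χ₀ : G → ℂ) y = (Y.card : ℂ) := by simp [htriv]
    rw [← Finset.add_sum_erase _ _ (Finset.mem_univ χ₀), hone, h₀ k hk] at h
    rw [← Finset.sum_subtype (Finset.univ.erase χ₀) (fun χ => by simp)
      fun χ : IrrCharacter G => (∑ y ∈ Y, (χ : G → ℂ) y) * (d χ k : ℂ)]
    push_cast at h
    linear_combination h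

namespace Tab

variable {E : Finset (ZMod p)} {ι : Type*} [Fintype ι] [DecidableEq ι] {u : ι → ZMod p → ℤ} {D : ι → ℤ}

/-- The support of a column. -/
def supp (u : ι → ZMod p → ℤ) (k : ZMod p) : Finset ι := Finset.univ.filter fun a => u a k ≠ 0

theorem mem_supp {k : ZMod p} {a : ι} : a ∈ supp u k ↔ u a k ≠ 0 := by simp [supp]

theorem unit_entry (T : Tab E u D) (hE : E.card ≤ 3) (h1 : 1 ∈ E) {k : ZMod p} (hk : k ≠ 0) {a : ι}
    (ha : a ∈ supp u k) : u a k = 1 ∨ u a k = -1 := by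
  have h := T.gram k k hk hk
  rw [if_pos ⟨1, h1, (mul_one k).symm⟩] at h
  have h2 : u a k * u a k ≤ 3 := by
    refine le_trans (Finset.single_le_sum (f := fun b => u b k * u b k) (fun b _ => mul_self_nonneg _)
      (Finset.mem_univ a)) ?_
    rw [h]
    have : (E.card : ℤ) ≤ 3 := by exact_mod_cast hE
    omega
  rw [mem_supp] at ha
  have h3 : u a k ≤ 1 := by nlinarith
  have h4 : -1 ≤ u a k := by nlinarith
  omega

theorem card_supp (T : Tab E u D) (hE : E.card ≤ 3) (h1 : 1 ∈ E) {k : ZMod p} (hk : k ≠ 0) :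
    (supp u k).card = E.card := by
  have h := T.gram k k hk hk
  rw [if_pos ⟨1, h1, (mul_one k).symm⟩, sub_add_cancel,
    ← Finset.sum_subset (Finset.subset_univ (supp u k)) fun a _ ha => by
      rw [mem_supp, not_not] at ha; rw [ha, zero_mul],
    Finset.sum_congr rfl (g := fun _ => (1 : ℤ)) fun a ha => by
      rcases T.unit_entry hE h1 hk ha with e | e <;> rw [e] <;> rfl] at h
  simpa using h

theorem eq_of_equiv (T : Tab E u D) (h1 : 1 ∈ E) (hinv : ∀ r ∈ E, r⁻¹ ∈ E) {k l : ZMod p} (hk : k ≠ 0)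
    (hl : l ≠ 0) (h : ∃ r ∈ E, k = l * r) (a : ι) : u a k = u a l := by
  have hkk := T.gram k k hk hk
  have hll := T.gram l l hl hl
  have hkl := T.gram k l hk hl
  rw [if_pos ⟨1, h1, (mul_one k).symm⟩] at hkk
  rw [if_pos ⟨1, h1, (mul_one l).symm⟩] at hll
  rw [if_pos h] at hkl
  have hsum : ∑ b, (u b k - u b l) * (u b k - u b l) = 0 := by
    simp only [sub_mul, mul_sub, Finset.sum_sub_distrib]
    rw [Finset.sum_congr rfl (fun b _ => mul_comm (u b l) (u b k)), hkk, hll, hkl]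
    ring
  exact sub_eq_zero.1 (mul_self_eq_zero.1
    ((Finset.sum_eq_zero_iff_of_nonneg fun b _ => mul_self_nonneg _).1 hsum a (Finset.mem_univ a)))

/-- Two inequivalent columns share `|E| - 1` entries, with equal signs. -/
theorem inter (T : Tab E u D) (hE2 : 2 ≤ E.card) (hE : E.card ≤ 3) (h1 : 1 ∈ E) {k l : ZMod p} (hk : k ≠ 0)
    (hl : l ≠ 0) (h : ¬ ∃ r ∈ E, k = l * r) :
    (supp u k ∩ supp u l).card = E.card - 1 ∧ ∀ a ∈ supp u k ∩ supp u l, u a k = u a l := by
  have hg := T.gram k l hk hl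
  rw [if_neg h, add_zero, ← Finset.sum_subset (Finset.subset_univ (supp u k ∩ supp u l)) fun a _ ha => by
    by_cases hak : u a k = 0
    · rw [hak, zero_mul]
    · have : u a l = 0 := by
        by_contra hal
        exact ha (Finset.mem_inter.2 ⟨mem_supp.2 hak, mem_supp.2 hal⟩)
      rw [this, mul_zero]] at hg
  set S := supp u k ∩ supp u l with hS
  have hval : ∀ a ∈ S, u a k * u a l = 1 ∨ u a k * u a l = -1 := by
    intro a ha
    rcases T.unit_entry hE h1 hk (Finset.mem_inter.1 ha).1 with e | e <;>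
      rcases T.unit_entry hE h1 hl (Finset.mem_inter.1 ha).2 with e' | e' <;> simp [e, e']
  have hle : S.card ≤ E.card := (Finset.card_le_card Finset.inter_subset_left).trans (T.card_supp hE h1 hk).le
  set N := (S.filter fun a => u a k * u a l = -1).card with hN
  have hsum : ∑ a ∈ S, u a k * u a l = (S.card : ℤ) - 2 * (N : ℤ) := by
    rw [hN, Finset.card_filter, Nat.cast_sum, Finset.mul_sum, ← Finset.card_eq_sum_ones S |>.symm] at *
    push_cast
    rw [← Finset.sum_sub_distrib]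
    refine Finset.sum_congr rfl fun a ha => ?_
    rcases hval a ha with e | e <;> simp [e]
  rw [hsum] at hg
  have hN0 : N = 0 ∧ S.card = E.card - 1 := by omega
  refine ⟨hN0.2, fun a ha => ?_⟩
  have hne : u a k * u a l ≠ -1 := fun e => by
    have := Finset.card_eq_zero.1 hN0.1
    exact Finset.notMem_empty a (this ▸ Finset.mem_filter.2 ⟨ha, e⟩)
  rcases T.unit_entry hE h1 hk (Finset.mem_inter.1 ha).1 with e | e <;>
    rcases T.unit_entry hE h1 hl (Finset.mem_inter.1 ha).2 with e' | e' <;> simp_all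

theorem sum_const (T : Tab E u D) {a : ι} {ε : ℤ} (h : ∀ k, k ≠ 0 → u a k = ε) :
    ∑ k, u a k = ((p : ℤ) - 1) * ε := by
  rw [← Finset.add_sum_erase _ _ (Finset.mem_univ (0 : ZMod p)), T.zero, zero_add,
    Finset.sum_congr rfl fun k hk => h k (Finset.ne_of_mem_erase hk), Finset.sum_const,
    Finset.card_erase_of_mem (Finset.mem_univ _), Finset.card_univ, ZMod.card, nsmul_eq_mul,
    Nat.cast_sub hp.out.one_le]
  simp

theorem sum_orbit (T : Tab E u D) (h1 : 1 ∈ E) (hinv : ∀ r ∈ E, r⁻¹ ∈ E) (hne : ∀ r ∈ E, r ≠ 0) {a : ι}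
    {k₁ : ZMod p} (hk₁ : k₁ ≠ 0) (h : ∀ k, k ≠ 0 → (¬ ∃ r ∈ E, k = k₁ * r) → u a k = 0) :
    ∑ k, u a k = (E.card : ℤ) * u a k₁ := by
  classical
  rw [← Finset.sum_subset (Finset.subset_univ (E.image (k₁ * ·))) fun k _ hk => ?_,
    Finset.sum_image fun r _ s _ e => mul_left_cancel₀ hk₁ e,
    Finset.sum_congr rfl fun r hr => T.eq_of_equiv h1 hinv (mul_ne_zero hk₁ (hne r hr)) hk₁ ⟨r, hr, rfl⟩ a,
    Finset.sum_const, nsmul_eq_mul]
  by_cases hk0 : k = 0
  · rw [hk0, T.zero]
  · exact h k hk0 fun ⟨r, hr, e⟩ => hk (Finset.mem_image.2 ⟨r, hr, e.symm⟩)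

end Tab

/-- Degrees for `|N| = 2p`. -/
theorem degrees_two (hx : orderOf x = p) (hC : Subgroup.centralizer ({x} : Set G) = Subgroup.zpowers x)
    (hperf : commutator G = ⊤) (he : (expSet p x).card = 2) (hp7 : 7 ≤ p) :
    ∃ A B : ℤ, (∃ χa χb : IrrCharacter G, ∃ ε δ : ℤ, (ε * ε = 1 ∧ δ * δ = 1) ∧
      ((χa : G → ℂ) 1 = (ε * A : ℤ) ∧ (χb : G → ℂ) 1 = (δ * B : ℤ)) ∧
      ∀ (Y : Finset G) (M : ℕ),
        (∀ i : ZMod p, i ≠ 0 → Nat.card {y // y ∈ Y ∧ IsConj y (x ^ i.val)} = M) →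
        (ε : ℂ) * ∑ y ∈ Y, (χa : G → ℂ) y + (δ : ℂ) * ∑ y ∈ Y, (χb : G → ℂ) y = (Y.card : ℂ) - (p : ℂ) * M) ∧ A + B = 1 ∧ (p : ℤ) ∣ A + 1 ∧ (p : ℤ) ∣ B - 2 ∧ A.natAbs ∣ Nat.card G ∧
      B.natAbs ∣ Nat.card G ∧ 1 < A.natAbs ∧ 1 < B.natAbs ∧ A.natAbs ^ 2 + B.natAbs ^ 2 < Nat.card G := by
  classical
  obtain ⟨ι, _, u, D, val, T, hD, hsq, hval, hY⟩ := exists_tab hx hC hperf
  set E := expSet p x with hEdef
  have h1 : (1 : ZMod p) ∈ E := one_mem_expSet hx
  have hinv : ∀ r ∈ E, r⁻¹ ∈ E := fun r hr => inv_mem_expSet hx hr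
  have hsymm : ∀ k l : ZMod p, (∃ r ∈ E, k = l * r) → ∃ r ∈ E, l = k * r := fun k l ⟨r, hr, e⟩ =>
    ⟨r⁻¹, hinv r hr, by rw [e, mul_assoc, mul_inv_cancel₀ (ne_zero_of_mem hx hr), mul_one]⟩
  obtain ⟨k₁, hk₁, -⟩ := exists_inequiv (p := p) (x := x) 0 hx (by omega) ∅ (by simp)
  obtain ⟨k₂, hk₂, h21⟩ := exists_inequiv (p := p) (x := x) 1 hx (by rw [← hEdef, he]; omega) {k₁} (by simp)
  have h12 : ¬ ∃ r ∈ E, k₁ = k₂ * r := fun h => h21 k₁ (Finset.mem_singleton_self _) (hsymm _ _ h)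
  obtain ⟨hc, hs⟩ := T.inter (by omega) (by omega) h1 hk₁ hk₂ h12
  obtain ⟨a, ha⟩ := Finset.card_eq_one.1 (hc.trans (by omega))
  have hS : ∀ k, k ≠ 0 → (Tab.supp u k).card = 2 := fun k hk => (T.card_supp (by omega) h1 hk).trans he
  have hamem : a ∈ Tab.supp u k₁ ∩ Tab.supp u k₂ := ha ▸ Finset.mem_singleton_self a
  obtain ⟨ha₁, ha₂⟩ := Finset.mem_inter.1 hamem
  have hrel : ∀ k, k ≠ 0 → ∑ c ∈ Tab.supp u k, (D c : ℤ) * u c k = 1 := fun k hk =>
    (Finset.sum_subset (Finset.subset_univ _) fun c _ hc => by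
      rw [Tab.mem_supp, not_not] at hc; rw [hc, mul_zero]).trans (T.rel k hk)
  have hall : ∀ k, k ≠ 0 → u a k = u a k₁ := by
    intro k hk
    by_cases h1k : ∃ r ∈ E, k = k₁ * r
    · exact T.eq_of_equiv h1 hinv hk hk₁ h1k a
    by_cases h2k : ∃ r ∈ E, k = k₂ * r
    · rw [T.eq_of_equiv h1 hinv hk hk₂ h2k a, hs a hamem]
    obtain ⟨hc1, hs1⟩ := T.inter (by omega) (by omega) h1 hk hk₁ h1k
    obtain ⟨hc2, hs2⟩ := T.inter (by omega) (by omega) h1 hk hk₂ h2k
    obtain ⟨b, hb⟩ := Finset.card_eq_one.1 (hc1.trans (by omega))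
    obtain ⟨c, hcc⟩ := Finset.card_eq_one.1 (hc2.trans (by omega))
    have hbm : b ∈ Tab.supp u k ∩ Tab.supp u k₁ := hb ▸ Finset.mem_singleton_self b
    have hcm : c ∈ Tab.supp u k ∩ Tab.supp u k₂ := hcc ▸ Finset.mem_singleton_self c
    obtain ⟨hbk, hb₁⟩ := Finset.mem_inter.1 hbm
    obtain ⟨hck, hc₂⟩ := Finset.mem_inter.1 hcm
    by_cases hba : b = a
    · subst hba; exact hs1 b hbm
    exfalso
    have hak : a ∉ Tab.supp u k := fun h => hba (Finset.mem_singleton.1
      (hb ▸ Finset.mem_inter.2 ⟨h, ha₁⟩ : a ∈ ({b} : Finset ι))).symm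
    have hca : c ≠ a := fun h => hak (h ▸ hck)
    have hbc : b ≠ c := fun h => hba (Finset.mem_singleton.1
      (ha ▸ Finset.mem_inter.2 ⟨hb₁, h ▸ hc₂⟩ : b ∈ ({a} : Finset ι)))
    have e1 : Tab.supp u k₁ = {a, b} := (Finset.eq_of_subset_of_card_le (by
      simp [Finset.insert_subset_iff, ha₁, hb₁]) (by rw [hS k₁ hk₁, Finset.card_pair (Ne.symm hba)])).symm
    have e2 : Tab.supp u k₂ = {a, c} := (Finset.eq_of_subset_of_card_le (by
      simp [Finset.insert_subset_iff, ha₂, hc₂]) (by rw [hS k₂ hk₂, Finset.card_pair (Ne.symm hca)])).symm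
    have e3 : Tab.supp u k = {b, c} := (Finset.eq_of_subset_of_card_le (by
      simp [Finset.insert_subset_iff, hbk, hck]) (by rw [hS k hk, Finset.card_pair hbc])).symm
    have r1 := hrel k₁ hk₁
    have r2 := hrel k₂ hk₂
    have r3 := hrel k hk
    rw [e1, Finset.sum_pair (Ne.symm hba)] at r1
    rw [e2, Finset.sum_pair (Ne.symm hca), ← hs a hamem] at r2
    rw [e3, Finset.sum_pair hbc, hs1 b hbm, hs2 c hcm] at r3
    omega
  obtain ⟨b, hb₁, hba⟩ := Finset.exists_mem_ne (hS k₁ hk₁ ▸ one_lt_two) a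
  have e1 : Tab.supp u k₁ = {a, b} := (Finset.eq_of_subset_of_card_le (by
    simp [Finset.insert_subset_iff, ha₁, hb₁]) (by rw [hS k₁ hk₁, Finset.card_pair (Ne.symm hba)])).symm
  have hb0 : ∀ k, k ≠ 0 → (¬ ∃ r ∈ E, k = k₁ * r) → u b k = 0 := by
    intro k hk h
    by_contra hbk
    obtain ⟨hcard, -⟩ := T.inter (by omega) (by omega) h1 hk hk₁ h
    have hsub : ({a, b} : Finset ι) ⊆ Tab.supp u k ∩ Tab.supp u k₁ := by
      simp only [Finset.insert_subset_iff, Finset.singleton_subset_iff, Finset.mem_inter]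
      exact ⟨⟨Tab.mem_supp.2 (hall k hk ▸ Tab.mem_supp.1 ha₁), ha₁⟩, Tab.mem_supp.2 hbk, hb₁⟩
    have := Finset.card_le_card hsub
    rw [Finset.card_pair (Ne.symm hba), hcard] at this
    omega
  have r1 := hrel k₁ hk₁
  rw [e1, Finset.sum_pair (Ne.symm hba)] at r1
  obtain ⟨-, hda, m, hm⟩ := hD a
  obtain ⟨-, hdb, m', hm'⟩ := hD b
  rw [T.sum_const hall] at hm
  rw [T.sum_orbit h1 hinv (fun r hr => ne_zero_of_mem hx hr) hk₁ hb0, he] at hm'
  have hua : u a k₁ * u a k₁ = 1 := by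
    rcases T.unit_entry (by omega) h1 hk₁ ha₁ with e | e <;> rw [e] <;> rfl
  have hub : u b k₁ * u b k₁ = 1 := by
    rcases T.unit_entry (by omega) h1 hk₁ hb₁ with e | e <;> rw [e] <;> rfl
  have hA : ((D a : ℤ) * u a k₁).natAbs = D a := by
    rcases T.unit_entry (by omega) h1 hk₁ ha₁ with e | e <;> simp [e]
  have hB : ((D b : ℤ) * u b k₁).natAbs = D b := by
    rcases T.unit_entry (by omega) h1 hk₁ hb₁ with e | e <;> simp [e]
  refine ⟨D a * u a k₁, D b * u b k₁, ⟨val a, val b, u a k₁, u b k₁, ⟨hua, hub⟩, ⟨?_, ?_⟩, fun Y M hM => ?_⟩, r1, ⟨m * u a k₁ + 1, ?_⟩, ⟨m' * u b k₁, ?_⟩,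
    hA.symm ▸ hda, hB.symm ▸ hdb, hA.symm ▸ (hD a).1, hB.symm ▸ (hD b).1, ?_⟩
  · rw [hval, show u a k₁ * ((D a : ℤ) * u a k₁) = (D a : ℤ) by linear_combination (D a : ℤ) * hua]; norm_cast
  · rw [hval, show u b k₁ * ((D b : ℤ) * u b k₁) = (D b : ℤ) by linear_combination (D b : ℤ) * hub]; norm_cast
  · have h := hY Y M hM k₁ hk₁
    rw [← Finset.sum_subset (Finset.subset_univ (Tab.supp u k₁)) fun c _ hc => by
      rw [Tab.mem_supp, not_not] at hc; rw [hc, Int.cast_zero, mul_zero]] at h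
    rw [e1, Finset.sum_pair (Ne.symm hba)] at h
    linear_combination h
  · rw [hm]; linear_combination ((p : ℤ) - 1) * hua
  · rw [hm']; push_cast; linear_combination 2 * hub
  · rw [hA, hB]
    refine lt_of_le_of_lt ?_ hsq
    rw [← Finset.sum_pair (f := fun c => D c ^ 2) (Ne.symm hba)]
    exact Finset.sum_le_sum_of_subset (Finset.subset_univ _)

/-- Degrees for `|N| = 3p`. -/
theorem degrees_three (hx : orderOf x = p) (hC : Subgroup.centralizer ({x} : Set G) = Subgroup.zpowers x)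
    (hperf : commutator G = ⊤) (he : (expSet p x).card = 3) (hp13 : 14 ≤ p) :
    ∃ A B C : ℤ, A + B + C = 1 ∧ (p : ℤ) ∣ A + 1 ∧ (p : ℤ) ∣ B + 1 ∧ (p : ℤ) ∣ C - 3 ∧
      A.natAbs ∣ Nat.card G ∧ B.natAbs ∣ Nat.card G ∧ C.natAbs ∣ Nat.card G ∧
      1 < A.natAbs ∧ 1 < B.natAbs ∧ A.natAbs ^ 2 + B.natAbs ^ 2 + C.natAbs ^ 2 < Nat.card G := by
  classical
  obtain ⟨ι, _, u, D, val, T, hD, hsq, hval, hY⟩ := exists_tab hx hC hperf
  set E := expSet p x with hEdef
  have h1 : (1 : ZMod p) ∈ E := one_mem_expSet hx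
  have hinv : ∀ r ∈ E, r⁻¹ ∈ E := fun r hr => inv_mem_expSet hx hr
  have hsymm : ∀ k l : ZMod p, (∃ r ∈ E, k = l * r) → ∃ r ∈ E, l = k * r := fun k l ⟨r, hr, e⟩ =>
    ⟨r⁻¹, hinv r hr, by rw [e, mul_assoc, mul_inv_cancel₀ (ne_zero_of_mem hx hr), mul_one]⟩
  -- five inequivalent columns
  have hK : ∀ n, n ≤ 5 → ∃ K : Finset (ZMod p), K.card = n ∧ (∀ k ∈ K, k ≠ 0) ∧
      ∀ k ∈ K, ∀ l ∈ K, k ≠ l → ¬ ∃ r ∈ E, k = l * r := by
    intro n
    induction n with
    | zero => exact fun _ => ⟨∅, by simp, by simp, by simp⟩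
    | succ n ih =>
      intro hn
      obtain ⟨K, hK, hK0, hKne⟩ := ih (by omega)
      obtain ⟨k, hk, hkK⟩ := exists_inequiv (p := p) (x := x) n hx (by
        have : n * 3 ≤ 12 := by omega
        rw [← hEdef, he]; omega) K hK.le
      have hkn : k ∉ K := fun h => hkK k h ⟨1, h1, (mul_one k).symm⟩
      refine ⟨insert k K, by rw [Finset.card_insert_of_notMem hkn, hK], ?_, ?_⟩
      · intro l hl
        rcases Finset.mem_insert.1 hl with rfl | hl
        exacts [hk, hK0 l hl]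
      · intro a ha b hb hab
        rcases Finset.mem_insert.1 ha with ea | ha' <;> rcases Finset.mem_insert.1 hb with eb | hb'
        · exact absurd (ea.trans eb.symm) hab
        · exact ea ▸ hkK b hb'
        · exact fun h => hkK a ha' (eb ▸ hsymm _ _ h)
        · exact hKne a ha' b hb' hab
  obtain ⟨K, hKc, hK0, hKne⟩ := hK 5 le_rfl
  have hS : ∀ k, k ≠ 0 → (Tab.supp u k).card = 3 := fun k hk => (T.card_supp (by omega) h1 hk).trans he
  have hI : ∀ k l, k ≠ 0 → l ≠ 0 → (¬ ∃ r ∈ E, k = l * r) →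
      (Tab.supp u k ∩ Tab.supp u l).card = 2 ∧ ∀ a ∈ Tab.supp u k ∩ Tab.supp u l, u a k = u a l := by
    intro k l hk hl h
    obtain ⟨h2, h3⟩ := T.inter (by omega) (by omega) h1 hk hl h
    exact ⟨h2.trans (by omega), h3⟩
  have hequiv : ∀ k l, k ≠ 0 → l ≠ 0 → (∃ r ∈ E, k = l * r) → Tab.supp u k = Tab.supp u l := by
    intro k l hk hl h
    ext a
    rw [Tab.mem_supp, Tab.mem_supp, T.eq_of_equiv h1 hinv hk hl h a]
  obtain ⟨k₁, hk₁K, k₂, hk₂K, hk12⟩ := Finset.one_lt_card.1 (by omega : 1 < K.card)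
  have hk₁ := hK0 k₁ hk₁K
  have hk₂ := hK0 k₂ hk₂K
  have h12 := hKne k₁ hk₁K k₂ hk₂K hk12
  set I := Tab.supp u k₁ ∩ Tab.supp u k₂ with hIdef
  set U := Tab.supp u k₁ ∪ Tab.supp u k₂ with hUdef
  have hIc : I.card = 2 := (hI k₁ k₂ hk₁ hk₂ h12).1
  have hUc : U.card = 4 := by
    have := Finset.card_union_add_card_inter (Tab.supp u k₁) (Tab.supp u k₂)
    rw [hS k₁ hk₁, hS k₂ hk₂, ← hIdef, hIc, ← hUdef] at this
    omega
  have hsplit : ∀ k, k ≠ 0 → (¬ ∃ r ∈ E, k = k₁ * r) → (¬ ∃ r ∈ E, k = k₂ * r) →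
      I ⊆ Tab.supp u k ∨ Tab.supp u k ⊆ U := by
    intro k hk ha hb
    by_cases h : I ⊆ Tab.supp u k
    · exact Or.inl h
    right
    have hlt : (Tab.supp u k ∩ I).card < 2 := hIc ▸ Finset.card_lt_card
      ⟨Finset.inter_subset_right, fun h' => h (h'.trans Finset.inter_subset_left)⟩
    have hu := Finset.card_union_add_card_inter (Tab.supp u k ∩ Tab.supp u k₁) (Tab.supp u k ∩ Tab.supp u k₂)
    rw [← Finset.inter_inter_distrib_left, ← hIdef, ← Finset.inter_union_distrib_left, ← hUdef,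
      (hI k k₁ hk hk₁ ha).1, (hI k k₂ hk hk₂ hb).1] at hu
    have : Tab.supp u k ∩ U = Tab.supp u k := Finset.eq_of_subset_of_card_le Finset.inter_subset_left
      (by rw [hS k hk]; omega)
    exact this ▸ Finset.inter_subset_right
  have hall : ∀ k, k ≠ 0 → I ⊆ Tab.supp u k := by
    intro l hl
    by_cases ha : ∃ r ∈ E, l = k₁ * r
    · rw [hequiv l k₁ hl hk₁ ha]; exact Finset.inter_subset_left
    by_cases hb : ∃ r ∈ E, l = k₂ * r
    · rw [hequiv l k₂ hl hk₂ hb]; exact Finset.inter_subset_right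
    by_contra hbad
    have hlU : Tab.supp u l ⊆ U := (hsplit l hl ha hb).resolve_left hbad
    have hKU : ∀ k ∈ K, Tab.supp u k ⊆ U := by
      intro k hkK
      have hk := hK0 k hkK
      by_cases e1 : k = k₁
      · exact e1 ▸ Finset.subset_union_left
      by_cases e2 : k = k₂
      · exact e2 ▸ Finset.subset_union_right
      rcases hsplit k hk (hKne k hkK k₁ hk₁K e1) (hKne k hkK k₂ hk₂K e2) with h | h
      · by_cases hkl : ∃ r ∈ E, k = l * r
        · exact (hequiv k l hk hl hkl).le.trans hlU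
        intro c hc
        by_contra hcU
        have hsub : Tab.supp u k ∩ Tab.supp u l ⊆ (I ∩ Tab.supp u l) := by
          intro d hd
          obtain ⟨hdk, hdl⟩ := Finset.mem_inter.1 hd
          refine Finset.mem_inter.2 ⟨?_, hdl⟩
          by_contra hdI
          have e : insert c I = Tab.supp u k := Finset.eq_of_subset_of_card_le
            (Finset.insert_subset hc h) (by
              rw [hS k hk, Finset.card_insert_of_notMem fun hh =>
                hcU (Finset.mem_union_left _ (Finset.mem_inter.1 hh).1), hIc])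
          rw [← e, Finset.mem_insert] at hdk
          rcases hdk with rfl | hdk
          · exact hcU (hlU hdl)
          · exact hdI hdk
        have h2 := Finset.card_le_card hsub
        rw [(hI k l hk hl hkl).1] at h2
        exact hbad (fun d hd => (Finset.mem_inter.1
          ((Finset.eq_of_subset_of_card_le Finset.inter_subset_left (hIc.le.trans h2)).symm ▸ hd :
            d ∈ I ∩ Tab.supp u l)).2)
      · exact h
    have hinj : Set.InjOn (fun k => Tab.supp u k) (K : Set (ZMod p)) := by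
      intro k hk k' hk' e
      by_contra hne
      have h2 := (hI k k' (hK0 k hk) (hK0 k' hk') (hKne k hk k' hk' hne)).1
      simp only at e
      rw [e, Finset.inter_self, hS k' (hK0 k' hk')] at h2
      omega
    have h5 := Finset.card_le_card (show K.image (fun k => Tab.supp u k) ⊆ U.powersetCard 3 from by
      intro s hs
      obtain ⟨k, hk, rfl⟩ := Finset.mem_image.1 hs
      exact Finset.mem_powersetCard.2 ⟨hKU k hk, hS k (hK0 k hk)⟩)
    rw [Finset.card_image_of_injOn hinj, hKc, Finset.card_powersetCard, hUc] at h5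
    norm_num [Nat.choose] at h5
  have hconst : ∀ a ∈ I, ∀ k, k ≠ 0 → u a k = u a k₁ := by
    intro a ha k hk
    by_cases h : ∃ r ∈ E, k = k₁ * r
    · exact T.eq_of_equiv h1 hinv hk hk₁ h a
    · exact (hI k k₁ hk hk₁ h).2 a (Finset.mem_inter.2 ⟨hall k hk ha, (Finset.mem_inter.1 ha).1⟩)
  obtain ⟨a, b, hab, hIab⟩ := Finset.card_eq_two.1 hIc
  have haI : a ∈ I := hIab ▸ Finset.mem_insert_self _ _
  have hbI : b ∈ I := hIab ▸ Finset.mem_insert_of_mem (Finset.mem_singleton_self _)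
  obtain ⟨c, hc₁, hcI⟩ : ∃ c ∈ Tab.supp u k₁, c ∉ I := by
    by_contra h
    push Not at h
    have := Finset.card_le_card (show Tab.supp u k₁ ⊆ I from h)
    rw [hS k₁ hk₁, hIc] at this
    omega
  have hac : a ≠ c := fun h => hcI (h ▸ haI)
  have hbc : b ≠ c := fun h => hcI (h ▸ hbI)
  have hcard3 : ({a, b, c} : Finset ι).card = 3 := by
    rw [Finset.card_insert_of_notMem (by simp [hab, hac]), Finset.card_pair hbc]
  have e1 : Tab.supp u k₁ = {a, b, c} := (Finset.eq_of_subset_of_card_le (by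
    simp [Finset.insert_subset_iff, (Finset.mem_inter.1 haI).1, (Finset.mem_inter.1 hbI).1, hc₁])
    (by rw [hS k₁ hk₁, hcard3])).symm
  have hc0 : ∀ k, k ≠ 0 → (¬ ∃ r ∈ E, k = k₁ * r) → u c k = 0 := by
    intro k hk h
    by_contra hck
    have hsub : Tab.supp u k₁ ⊆ Tab.supp u k ∩ Tab.supp u k₁ := by
      rw [e1]
      simp [Finset.insert_subset_iff, hall k hk haI, hall k hk hbI, Tab.mem_supp.2 hck]
    have := Finset.card_le_card hsub
    rw [hS k₁ hk₁, (hI k k₁ hk hk₁ h).1] at this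
    omega
  have r1 : ∑ d ∈ Tab.supp u k₁, (D d : ℤ) * u d k₁ = 1 :=
    (Finset.sum_subset (Finset.subset_univ _) fun c _ hc => by
      rw [Tab.mem_supp, not_not] at hc; rw [hc, mul_zero]).trans (T.rel k₁ hk₁)
  rw [e1, Finset.sum_insert (by simp [hab, hac]), Finset.sum_pair hbc, ← add_assoc] at r1
  have habs : ∀ d ∈ Tab.supp u k₁, ((D d : ℤ) * u d k₁).natAbs = D d ∧ u d k₁ * u d k₁ = 1 := fun d hd => by
    rcases T.unit_entry (by omega) h1 hk₁ hd with e | e <;> simp [e]
  obtain ⟨hA, hua⟩ := habs a (Finset.mem_inter.1 haI).1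
  obtain ⟨hB, hub⟩ := habs b (Finset.mem_inter.1 hbI).1
  obtain ⟨hC', huc⟩ := habs c hc₁
  obtain ⟨-, hda, ma, hma⟩ := hD a
  obtain ⟨-, hdb, mb, hmb⟩ := hD b
  obtain ⟨-, hdc, mc, hmc⟩ := hD c
  rw [T.sum_const (hconst a haI)] at hma
  rw [T.sum_const (hconst b hbI)] at hmb
  rw [T.sum_orbit h1 hinv (fun r hr => ne_zero_of_mem hx hr) hk₁ hc0, he] at hmc
  refine ⟨_, _, _, r1, ⟨ma * u a k₁ + 1, ?_⟩, ⟨mb * u b k₁ + 1, ?_⟩, ⟨mc * u c k₁, ?_⟩, hA.symm ▸ hda,
    hB.symm ▸ hdb, hC'.symm ▸ hdc, hA.symm ▸ (hD a).1, hB.symm ▸ (hD b).1, ?_⟩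
  · rw [hma]; linear_combination ((p : ℤ) - 1) * hua
  · rw [hmb]; linear_combination ((p : ℤ) - 1) * hub
  · rw [hmc]; push_cast; linear_combination 3 * huc
  · rw [hA, hB, hC']
    refine lt_of_le_of_lt ?_ hsq
    rw [add_assoc, ← Finset.sum_pair (f := fun c => D c ^ 2) hbc,
      ← Finset.sum_insert (f := fun c => D c ^ 2) (by simp [hab, hac] : a ∉ ({b, c} : Finset ι))]
    exact Finset.sum_le_sum_of_subset (Finset.subset_univ _)

end Cfsg.Agent.SmallOrder.SelfCentDeg
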