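import Cfsg.Agent.SmallOrder.Exclude
import Cfsg.Agent.SmallOrder.SelfCentDegrees

/-!
Finding a self-centralising element of prime order from Sylow numbers.
-/

set_option autoImplicit false

namespace Cfsg.Agent.SmallOrder

variable {G : Type*} [Group G] {p : ℕ} [hp : Fact p.Prime]

/-- A Sylow subgroup of prime order with prime index in its normaliser is self-centralising. -/
theorem exists_selfcent [Fintype G] [IsSimpleGroup G] (hG : ¬ IsMulCommutative G) {r n : ℕ}
    (hr : r.Prime) (hn : Nat.card (Sylow p G) = n) (hc : Nat.card G = p * r * n) (hm : ¬ p ∣ r * n) :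
    ∃ x : G, orderOf x = p ∧ Subgroup.centralizer ({x} : Set G) = Subgroup.zpowers x ∧
      (SelfCentDeg.expSet p x).card = r := by
  obtain ⟨P⟩ := (inferInstance : Nonempty (Sylow p G))
  obtain ⟨hP, -, -, -⟩ := sylow_arith P (a := 1) (m := r * n) (by rw [hc, pow_one, mul_assoc]) hm
  rw [pow_one] at hP
  have hn0 : 0 < n := hn ▸ Nat.card_pos
  have hN : Nat.card (Subgroup.normalizer ((P : Subgroup G) : Set G)) = p * r := by
    have h := card_normalizer_mul_card_sylow P
    rw [hn, hc] at h
    exact Nat.eq_of_mul_eq_mul_right hn0 h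
  obtain ⟨-, h2⟩ := relIndex_prime_sylow hG P hP
  have hcyc : IsCyclic (P : Subgroup G) := isCyclic_of_prime_card hP
  have hPC : (P : Subgroup G) ≤ Subgroup.centralizer ((P : Subgroup G) : Set G) := Subgroup.le_centralizer _
  have hmul : Nat.card (P : Subgroup G) * (P : Subgroup G).relIndex
      (Subgroup.normalizer ((P : Subgroup G) : Set G)) = p * r := by
    rw [← hN, ← Subgroup.relIndex_bot_left, ← Subgroup.relIndex_bot_left,
      Subgroup.relIndex_mul_relIndex ⊥ _ _ bot_le Subgroup.le_normalizer]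
  rw [hP] at hmul
  have hPN := Nat.eq_of_mul_eq_mul_left hp.out.pos hmul
  have hCN : Subgroup.centralizer ((P : Subgroup G) : Set G) ≤
      Subgroup.normalizer ((P : Subgroup G) : Set G) := Subgroup.centralizer_le_normalizer _
  rw [← Subgroup.relIndex_mul_relIndex _ _ _ hPC hCN] at hPN
  have hPC1 : (P : Subgroup G).relIndex (Subgroup.centralizer ((P : Subgroup G) : Set G)) = 1 :=
    ((hr.eq_one_or_self_of_dvd _ ⟨_, hPN.symm⟩)).resolve_right fun h => h2 (by
      rw [h] at hPN
      exact Nat.eq_of_mul_eq_mul_left hr.pos (hPN.trans (mul_one r).symm))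
  have hC : Subgroup.centralizer ((P : Subgroup G) : Set G) = P :=
    le_antisymm (Subgroup.relIndex_eq_one.mp hPC1) hPC
  obtain ⟨x, hx⟩ := exists_prime_orderOf_dvd_card' (G := (P : Subgroup G)) p (dvd_of_eq hP.symm)
  rw [← Subgroup.orderOf_coe] at hx
  have hPx : Subgroup.zpowers (x : G) = (P : Subgroup G) :=
    Subgroup.eq_of_le_of_card_ge (Subgroup.zpowers_le.2 x.2) (by rw [Nat.card_zpowers, hx, hP])
  have hCx : Subgroup.centralizer ({(x : G)} : Set G) = Subgroup.zpowers (x : G) := by
    rw [hPx]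
    conv_rhs => rw [← hC, ← hPx, Subgroup.zpowers_eq_closure, Subgroup.centralizer_closure]
  refine ⟨x, hx, hCx, ?_⟩
  have h := SelfCentDeg.card_normalizer (p := p) hx hCx
  rw [hPx, hN] at h
  exact (Nat.eq_of_mul_eq_mul_left hp.out.pos h).symm

end Cfsg.Agent.SmallOrder
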